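import Cfsg.Agent.H704.S8.Defs_m3
import Cfsg.Agent.Lib.ListFast
import Cfsg.Agent.H117.O1.AltDeg
import Cfsg.Agent.H999.DS.Tools_m3
import Cfsg.Agent.H704.PP
import Mathlib
import Cfsg.Agent.H424.DegTools
import Cfsg.Agent.S0187
import Cfsg.Agent.StandardComponent.AltAut
import Cfsg.Agent.SmallSimple.DegreeData
import Cfsg.Agent.Blocks.Deflate
import Cfsg.Agent.OddOrderCharacters.InertiaAbelian
import Cfsg.Agent.H681.DegBasic
import Cfsg.Agent.H686.CharKit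
import Cfsg.Prelude.Def_KGroupFacts
import Cfsg.Agent.CharDeep.PowerDegrees
import Cfsg.Agent.CharactersDeep.MaxInduced
import Cfsg.Agent.Characters.Values
import Cfsg.Agent.Characters.Linear
import Cfsg.Agent.OddOrderCharacters.IndRes
import Cfsg.Agent.OddOrderCharacters.PF9.CliffGen
import Cfsg.Agent.SolvableStructure.MinimalNormal
import Cfsg.Agent.H597.ThreeDegA
import Cfsg.Agent.H646.ProjLat
import Cfsg.Agent.Blocks.Fong
import Cfsg.Agent.Blocks.CliffordCentral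
import Cfsg.Agent.CharDeep.CliffordCorr
import Cfsg.Agent.Classification.QDW.WrDeg
import Cfsg.Agent.S0900
import Cfsg.Agent.S0859
import Cfsg.Agent.H34.PerfThree
import Cfsg.Agent.FastGrp
import Cfsg.Agent.Prune
set_option linter.all false

section
prune_inst 0x7ffcfef8aba88ddedfff7e3fffd9dffe32848fffefdff94bffede9bfcbdf23230be56b8f09e098feced7e0b410b87813f97eceffaa6bdc7ffffd5ff05ffbec0f8567bd0151d69c3407bc0fff63f26fae6f3fffff77fffffffffffff7fffffffffffdf3beffff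

-- part: H835/AN/Deg
section
prune_inst 0x88000000000000080000000000000c410000
set_option linter.all false
open scoped Cfsg.Agent.FastGrp
private noncomputable def lq2677172d58 {T : Sort _} (f :
    type_of% (@_root_.List.cons.{0}) →
    type_of% (@_root_.List.nil.{0}) →
    type_of% (@_root_.List.cons.{0} (Nat)) →
    type_of% (@_root_.List.cons.{0} (List Nat)) → T) : T :=
  f (@_root_.List.cons.{0}) (@_root_.List.nil.{0}) (@_root_.List.cons.{0} (Nat)) (@_root_.List.cons.{0} (List Nat))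

/-!
# S4766, A7: the degrees of `A_n` for `5 ≤ n ≤ 19`

* `degA n` : the list of the degrees of `A_n` (`5 ≤ n ≤ 19`), increasing;
* `mem_D_iff` : `d ∈ D n ↔ d ∈ degA n`; `maxA n`, `le_maxA`, `maxA_mem` : the largest degree.
-/

set_option autoImplicit false

namespace Cfsg.Agent.H835.AN

open Cfsg.Agent.H704 Cfsg.Agent.H691.AN

/-- the degrees of `A_n`, `5 ≤ n ≤ 19` -/
def degA : ℕ → List ℕ
  | 5 =>
    [1, 3, 4, 5]
  | 6 =>
    [1, 5, 8, 9, 10]
  | 7 =>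
    [1, 6, 10, 14, 15, 21, 35]
  | 8 =>
    [1, 7, 14, 20, 21, 28, 35, 45, 56, 64, 70]
  | 9 =>
    (beta% delta% lq2677172d58 fun a b _ _ =>
 (a 1<|a 8<|a 21<|a 27<|a 28<|a 35<|a 42<|a 48<|a 56<|a 84<|a 105<|a 120<|a 162<|a 168<|a 189<|a 216<|b))
  | 10 =>
    (beta% delta% lq2677172d58 fun a b _ _ =>
 (a 1<|a 9<|a 35<|a 36<|a 42<|a 75<|a 84<|a 90<|a 126<|a 160<|a 210<|a 224<|a 225<|a 252<|a 288<|a 300<|a 315<|a 350<|a 384<|a 450<|a 525<|a 567<|b))
  | 11 =>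
    (beta% delta% lq2677172d58 fun a b _ _ =>
 (a 1<|a 10<|a 44<|a 45<|a 110<|a 120<|a 126<|a 132<|a 165<|a 210<|a 231<|a 330<|a 385<|a 462<|a 550<|a 594<|a 660<|a 693<|a 825<|a 924<|a 990<|
 a 1100<|a 1155<|a 1232<|a 1320<|a 1540<|a 2310<|b))
  | 12 =>
    (beta% delta% lq2677172d58 fun a b c _ =>
 (let e:=(let e:=(let e:=(c 3850<|c 4158<|c 4455<|c 5632<|c 5775<|b);
 (c 2970<|c 3080<|c 3520<|c 3564<|c 3696<|e));
 (let e:=(c 1925<|c 2079<|c 2112<|c 2376<|c 2673<|e);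
 (c 1408<|c 1485<|
 c 1650<|c 1728<|e)));
 (let e:=(let e:=(c 891<|c 945<|c 1050<|c 1155<|c 1320<|e);
 (c 320<|c 330<|c 462<|c 616<|e));
 (let e:=(c 132<|c 154<|c 165<|c 275<|c 297<|e);
 (a 1<|a 11<|a 54<|a 55<|e)))))
  | 13 =>
    (beta% delta% lq2677172d58 fun a b c _ =>
 (let e:=(let e:=(let e:=(c 12012<|c 12870<|c 15015<|c 17160<|c 20592<|c 21450<|b);
 (c 8580<|c 9009<|c 9360<|c 10296<|
 c 11440<|c 11583<|e));
 (let e:=(c 6006<|c 6435<|c 6864<|c 7371<|c 7800<|c 8008<|e);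
 (c 4212<|c 4290<|c 5005<|c 5148<|c 5720<|e)));
 (let e:=(let e:=(c 2860<|c 3003<|c 3432<|c 3575<|
 c 3640<|c 4004<|e);
 (c 936<|c 1287<|c 1365<|c 1430<|c 2574<|e));
 (let e:=(c 220<|c 429<|c 462<|c 495<|c 572<|c 792<|e);
 (a 1<|a 12<|a 65<|a 66<|a 208<|e)))))
  | 14 =>
    (beta% delta% lq2677172d58 fun a b c _ =>
 (let e:=(let e:=(let e:=(c 42042<|c 47775<|c 48048<|c 50050<|c 63063<|c 64064<|
 c 69498<|b);
 (c 28028<|c 28665<|c 29952<|c 34320<|c 35035<|c 36608<|e));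
 (let e:=(c 16016<|c 20384<|c 21021<|c 21450<|
 c 23296<|c 24960<|c 27027<|e);
 (c 9009<|c 12012<|c 13650<|c 14014<|c 15015<|c 15444<|e)));
 (let e:=(let e:=(c 4928<|
 c 5733<|c 6006<|c 6435<|c 7007<|c 7644<|c 8085<|e);
 (c 1716<|c 2002<|c 2079<|c 4368<|c 4576<|c 4752<|e));
 (let e:=(c 429<|c 560<|c 637<|c 715<|c 1001<|c 1287<|c 1365<|e);
 (a 1<|a 13<|a 77<|a 78<|a 273<|a 286<|e)))))
  | 15 =>
    (beta% delta% lq2677172d58 fun a b c _ =>
 (let e:=(let e:=(let e:=(let e:=(c 175175<|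
 c 184275<|c 210210<|c 221130<|c 231660<|c 243243<|b);
 (c 135135<|c 146432<|c 150150<|c 159250<|c 162162<|e));
 (let e:=(c 112112<|c 122850<|c 125125<|c 126126<|c 128700<|e);
 (c 90090<|c 91000<|c 96525<|
 c 100100<|c 108108<|e)));
 (let e:=(let e:=(c 70070<|c 75075<|c 78000<|c 80080<|c 81081<|e);
 (c 54054<|c 57330<|c 58968<|c 61425<|c 63700<|e));
 (let e:=(c 44550<|c 45045<|c 50050<|c 51975<|
 c 53625<|e);
 (c 34398<|c 35035<|c 35100<|c 42042<|c 43120<|e))));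
 (let e:=(let e:=(let e:=(c 26950<|c 27027<|c 28028<|c 30030<|c 32032<|e);
 (c 19305<|c 21450<|c 22113<|c 24948<|
 c 25025<|e));
 (let e:=(c 11583<|c 12012<|c 12740<|c 13650<|c 14300<|e);
 (c 7722<|c 9100<|c 9450<|c 11088<|c 11375<|e)));
 (let e:=(let e:=(c 2925<|c 3003<|c 5005<|c 6006<|
 c 7007<|e);
 (c 1638<|c 1716<|c 1925<|c 2002<|c 2835<|e));
 (let e:=(c 364<|c 715<|c 910<|c 1001<|c 1430<|e);
 (a 1<|a 14<|a 90<|a 91<|a 350<|e))))))
  | 16 =>
    (beta% delta% lq2677172d58 fun a b c _ =>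
 (let e:=(let e:=(let e:=(let e:=(c 630630<|c 640640<|c 648648<|c 673920<|c 698880<|c 819000<|c 1153152<|b);
 (c 500500<|c 512512<|c 515970<|c 549120<|c 559104<|c 582400<|c 600600<|
 e));
 (let e:=(c 360360<|
 c 411840<|c 416988<|c 429000<|c 448448<|c 464373<|c 480480<|e);
 (c 300300<|c 305760<|c 318500<|c 320320<|c 336336<|c 337920<|e)));
 (let e:=(let e:=(c 210210<|
 c 231660<|c 240240<|c 262080<|c 266240<|c 280280<|c 292864<|e);
 (c 173250<|c 180180<|c 194040<|c 197120<|c 200200<|c 202125<|c 206388<|e));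
 (let e:=(c 116480<|c 125125<|
 c 140140<|c 150150<|c 155232<|c 168168<|c 171600<|e);
 (c 100100<|c 105600<|c 112112<|c 114400<|c 114660<|c 115830<|e))));
 (let e:=(let e:=(let e:=(c 73710<|c 76440<|
 c 80640<|c 82368<|c 85800<|c 91520<|c 91728<|e);
 (c 51480<|c 60060<|c 65520<|c 68640<|c 69888<|c 71500<|c 71680<|e));
 (let e:=(c 32032<|
 c 36036<|c 36608<|c 38220<|c 42120<|c 43120<|c 45760<|e);
 (c 21021<|c 21840<|c 23100<|c 24024<|c 24960<|c 30030<|e)));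
 (let e:=(let e:=(c 11648<|c 12012<|c 13860<|c 14300<|c 16848<|c 18018<|c 20020<|e);
 (c 3432<|c 3640<|c 3900<|c 4004<|c 5005<|c 6435<|
 c 10752<|e));
 (let e:=(c 896<|c 1260<|c 1365<|c 1430<|c 2548<|c 2640<|c 3003<|e);
 (a 1<|a 15<|a 104<|a 105<|a 440<|a 455<|e))))))
  | 17 =>
    (beta% delta% lq2677172d58 fun a b c _ =>
 (let e:=(let e:=(let e:=(let e:=(let e:=(c 2598960<|c 2722720<|c 2858856<|c 3573570<|c 3620864<|b);
 (c 2436525<|c 2450448<|c 2475200<|c 2552550<|e));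
 (let e:=(c 2165800<|c 2255526<|c 2362932<|
 c 2431000<|e);
 (c 1701700<|c 1750320<|c 1832600<|c 1905904<|e)));
 (let e:=(let e:=(c 1485120<|c 1570800<|c 1591200<|c 1633632<|e);
 (c 1336608<|c 1361360<|c 1429428<|c 1454112<|
 e));
 (let e:=(c 1089088<|c 1113840<|c 1299480<|c 1326000<|e);
 (c 1021020<|
 c 1047200<|c 1050192<|c 1082900<|e))));
 (let e:=(let e:=(let e:=(c 908820<|c 918918<|c 952952<|c 972400<|e);
 (c 816816<|c 848640<|c 850850<|c 891072<|e));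
 (let e:=(c 729300<|
 c 742560<|c 749700<|c 765765<|e);
 (c 618800<|c 631125<|c 680680<|c 700128<|e)));
 (let e:=(let e:=(c 556920<|c 565488<|c 583440<|c 586432<|e);
 (c 466752<|c 486200<|c 523600<|c 544544<|e));
 (let e:=(c 388960<|c 399840<|c 408408<|c 433160<|
 e);
 (c 340340<|c 346528<|c 353600<|c 364650<|e)))));
 (let e:=(let e:=(let e:=(let e:=(c 272272<|c 291720<|c 318240<|c 327250<|c 333200<|e);
 (c 238238<|c 243100<|c 247520<|c 259896<|
 e));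
 (let e:=(c 204204<|c 205632<|c 209440<|c 233376<|e);
 (c 157080<|c 159120<|c 170170<|c 194480<|e)));
 (let e:=(let e:=(c 136136<|c 145860<|c 148512<|
 c 155584<|e);
 (c 121550<|c 123760<|c 129948<|c 134640<|e));
 (let e:=(c 74256<|c 85085<|c 87516<|c 116688<|e);
 (c 62832<|c 65637<|
 c 68068<|c 70720<|e))));
 (let e:=(let e:=(let e:=(c 37400<|c 38675<|c 46410<|c 48620<|e);
 (c 20944<|c 24752<|c 33320<|c 35700<|e));
 (let e:=(c 15912<|c 17017<|c 19448<|c 20400<|e);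
 (c 6435<|c 7072<|c 8008<|
 c 11440<|e)));
 (let e:=(let e:=(c 4862<|c 5236<|c 5355<|c 6188<|e);
 (c 1820<|c 3536<|c 3808<|c 4368<|e));
 (let e:=(c 544<|c 560<|c 1105<|c 1700<|e);
 (a 1<|a 16<|a 119<|a 120<|e)))))))
  | 18 =>
    (beta% delta% lq2677172d58 fun a b c _ =>
 (let e:=(let e:=(let e:=(let e:=(let e:=(c 9801792<|c 10720710<|c 11277630<|c 13366080<|c 16243500<|c 16336320<|b);
 (c 8270262<|c 8486400<|c 8576568<|c 9165312<|c 9189180<|
 c 9529520<|e));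
 (let e:=(c 6872250<|c 7088796<|c 7634088<|c 7876440<|c 8019648<|c 8078400<|e);
 (c 6265350<|c 6361740<|c 6432426<|c 6534528<|c 6789120<|
 e)));
 (let e:=(let e:=(c 5250960<|c 5346432<|c 5361664<|c 5469750<|c 5937624<|c 6126120<|e);
 (c 4725864<|c 4862000<|c 4950400<|c 5012280<|c 5105100<|
 e));
 (let e:=(c 4230144<|c 4288284<|c 4455360<|c 4511052<|c 4594590<|c 4691456<|e);
 (c 3877632<|c 3960320<|c 3965760<|c 3978000<|c 4200768<|
 e))));
 (let e:=(let e:=(let e:=(c 3403400<|c 3508596<|c 3544398<|c 3646500<|c 3675672<|c 3734016<|e);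
 (c 3055104<|c 3180870<|c 3198720<|c 3222180<|c 3267264<|c 3281850<|
 e));
 (let e:=(c 2756754<|
 c 2784600<|c 2858856<|c 2923830<|c 2970240<|c 3007368<|e);
 (c 2333760<|c 2362932<|c 2382380<|c 2598960<|c 2625480<|e)));
 (let e:=(let e:=(c 1790100<|
 c 1823250<|c 1989000<|c 2042040<|c 2144142<|c 2148120<|e);
 (c 1458600<|c 1503684<|c 1531530<|c 1575288<|c 1649340<|e));
 (let e:=(c 1272348<|
 c 1312740<|c 1349460<|c 1357824<|c 1429428<|c 1432080<|e);
 (c 1175040<|c 1215500<|c 1225224<|c 1233792<|c 1244672<|e)))));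
 (let e:=(let e:=(let e:=(let e:=(c 1018368<|
 c 1021020<|c 1089088<|c 1099560<|c 1131520<|c 1145664<|e);
 (c 787644<|c 837760<|c 848232<|c 875160<|c 933504<|c 952952<|e));
 (let e:=(c 649740<|
 c 656370<|c 659736<|c 678912<|c 714714<|c 779688<|e);
 (c 556920<|c 583440<|c 590733<|c 595595<|c 612612<|e)));
 (let e:=(let e:=(c 408408<|c 447525<|c 459459<|c 466752<|c 501228<|c 510510<|e);
 (c 340340<|c 353430<|c 358020<|c 363528<|
 c 364650<|e));
 (let e:=(c 259896<|c 268515<|c 302940<|c 322218<|c 331500<|c 339456<|e);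
 (c 219912<|c 228480<|
 c 238680<|c 251328<|c 255255<|e))));
 (let e:=(let e:=(let e:=(c 112320<|c 116025<|c 136136<|c 143208<|c 162162<|c 182784<|e);
 (c 91520<|c 99144<|c 102102<|c 106029<|c 111384<|e));
 (let e:=(c 56100<|c 58344<|c 60060<|c 70720<|c 87516<|c 88128<|
 e);
 (c 24310<|c 29172<|c 29835<|c 35343<|c 53040<|e)));
 (let e:=(let e:=(c 11934<|c 12376<|
 c 13260<|c 19448<|c 22848<|c 24192<|e);
 (c 5508<|c 6188<|c 6885<|c 7020<|c 9996<|e));
 (let e:=(c 680<|c 1344<|c 2244<|c 2380<|c 4641<|c 4862<|e);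
 (a 1<|a 17<|a 135<|a 136<|a 663<|e)))))))
  | 19 =>
    (beta% delta% lq2677172d58 fun a b c _ =>
 (let e:=(let e:=(let e:=(let e:=(let e:=(c 41570100<|c 42325920<|c 44089500<|c 47006190<|c 52907400<|c 58198140<|c 64664600<|b);
 (c 33331662<|c 33426624<|c 34398208<|c 34918884<|c 36732852<|
 c 40738698<|e));
 (let e:=(c 29106176<|
 c 29393000<|c 29930472<|c 31039008<|c 31081644<|c 31744440<|e);
 (c 26453700<|c 26604864<|c 27713400<|c 27855520<|c 28569996<|c 28651392<|e)));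
 (let e:=(let e:=(c 23094500<|c 23279256<|c 23814144<|
 c 24186240<|c 24418800<|c 24942060<|e);
 (c 18106088<|c 18366426<|c 18653250<|c 19399380<|c 21976920<|c 22447854<|e));
 (let e:=(c 16116408<|c 16325712<|c 16628040<|c 17459442<|c 17635800<|
 c 17736576<|e);
 (c 14965236<|
 c 15116400<|c 15261750<|c 15519504<|c 15872220<|c 15988500<|e))));
 (let e:=(let e:=(let e:=(c 13302432<|c 14244300<|c 14284998<|c 14325696<|c 14511744<|c 14814072<|e);
 (c 10581480<|c 11110554<|c 11286912<|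
 c 11639628<|c 12345060<|c 12597000<|e));
 (let e:=(c 9523332<|c 9593100<|c 9699690<|c 9876048<|c 9976824<|c 10203570<|e);
 (c 8162856<|c 8314020<|c 8356656<|c 8465184<|
 c 8868288<|c 8953560<|e)));
 (let e:=(let e:=(c 6802380<|c 6837264<|c 6928350<|c 7407036<|c 7674480<|c 7759752<|e);
 (c 5819814<|c 5878600<|c 6267492<|c 6348888<|c 6466460<|
 c 6651216<|e));
 (let e:=(c 4837248<|c 4938024<|c 5038800<|c 5542680<|c 5651208<|c 5668650<|e);
 (c 4081428<|c 4232592<|c 4263600<|c 4408950<|c 4434144<|c 4526522<|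
 e)))));
 (let e:=(let e:=(let e:=(let e:=(c 2834325<|c 2909907<|
 c 3038784<|c 3325608<|c 3391500<|c 3410880<|c 3879876<|e);
 (c 2263261<|c 2441880<|c 2494206<|c 2519400<|c 2586584<|c 2686068<|e));
 (let e:=(c 1790712<|c 1847560<|c 2046528<|
 c 2078505<|c 2116296<|c 2217072<|e);
 (c 1410864<|c 1511640<|c 1534896<|c 1569780<|c 1627920<|c 1662804<|e)));
 (let e:=(let e:=(c 1119195<|c 1200420<|c 1217216<|c 1234506<|
 c 1322685<|c 1369368<|e);
 (c 840294<|c 949620<|c 976752<|c 1017450<|c 1058148<|c 1108536<|e));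
 (let e:=(c 646646<|c 680238<|c 755820<|c 795872<|
 c 815100<|c 831402<|e);
 (c 529074<|c 554268<|c 566865<|c 596904<|c 604656<|c 639540<|e))));
 (let e:=(let e:=(let e:=(c 383724<|c 403104<|c 415701<|
 c 421344<|c 444600<|c 488376<|e);
 (c 184756<|c 203490<|c 277134<|c 293930<|c 369512<|c 372096<|e));
 (let e:=(c 88179<|c 90440<|
 c 151164<|c 160056<|c 169575<|c 175560<|e);
 (c 41496<|c 43758<|c 49248<|c 75582<|c 81396<|c 85272<|e)));
 (let e:=(let e:=(c 24310<|c 25194<|c 31824<|c 31977<|c 33592<|c 40698<|e);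
 (c 8892<|c 9044<|c 15504<|c 16796<|c 18564<|c 23256<|
 e));
 (let e:=(c 1615<|c 2907<|c 3060<|c 5985<|c 7752<|c 8568<|e);
 (a 1<|a 18<|a 152<|a 153<|a 798<|a 816<|e)))))))
  | _ => []

/-- partitions with these degrees -/
def wit : ℕ → List (List ℕ)
  | 5 =>
    (beta% delta% lq2677172d58 fun a b _ _ =>
 (a (a 5<|b)<|a (a 3<|a 1<|a 1<|b)<|a (a 4<|a 1<|b)<|a (a 3<|a 2<|b)<|b))
  | 6 =>
    (beta% delta% lq2677172d58 fun a b _ _ =>
 (a (a 6<|b)<|a (a 5<|a 1<|b)<|a (a 3<|a 2<|a 1<|b)<|a (a 4<|a 2<|b)<|a (a 4<|a 1<|a 1<|b)<|b))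
  | 7 =>
    (beta% delta% lq2677172d58 fun a b _ _ =>
 (a (a 7<|b)<|a (a 6<|a 1<|b)<|a (a 4<|a 1<|a 1<|a 1<|b)<|a (a 5<|a 2<|b)<|a (a 5<|a 1<|a 1<|b)<|a (a 3<|a 3<|a 1<|b)<|a (a 4<|a 2<|a 1<|b)<|b))
  | 8 =>
    (beta% delta% lq2677172d58 fun a b _ _ =>
 (a (a 8<|b)<|a (a 7<|a 1<|b)<|a (a 4<|a 4<|b)<|a (a 6<|a 2<|b)<|a (a 6<|a 1<|a 1<|b)<|a (a 5<|a 3<|b)<|a (a 5<|a 1<|a 1<|a 1<|b)<|a (a 4<|a 2<|a 1<|a 1<|b)<|a (a 4<|a 2<|a 2<|b)<|a (a 5<|a 2<|a 1<|b)<|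
 a (a 4<|a 3<|a 1<|b)<|b))
  | 9 =>
    (beta% delta% lq2677172d58 fun a b _ _ =>
 (a (a 9<|b)<|a (a 8<|a 1<|b)<|a (a 3<|a 3<|a 3<|b)<|a (a 7<|a 2<|b)<|a (a 7<|a 1<|a 1<|b)<|a (a 5<|a 1<|a 1<|a 1<|a 1<|b)<|a (a 5<|a 4<|b)<|a (a 6<|a 3<|b)<|a (a 6<|a 1<|a 1<|a 1<|b)<|a (a 4<|a 4<|a 1<|b)<|
 a (a 6<|a 2<|a 1<|b)<|a (a 5<|a 2<|a 2<|b)<|a (a 5<|a 3<|a 1<|b)<|a (a 4<|a 3<|a 2<|b)<|a (a 5<|a 2<|a 1<|a 1<|b)<|a (a 4<|a 3<|a 1<|a 1<|b)<|b))
  | 10 =>
    (beta% delta% lq2677172d58 fun a b _ _ =>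
 (a (a 10<|b)<|a (a 9<|a 1<|b)<|a (a 8<|a 2<|b)<|a (a 8<|a 1<|a 1<|b)<|a (a 5<|a 5<|b)<|a (a 7<|a 3<|b)<|a (a 7<|a 1<|a 1<|a 1<|b)<|a (a 6<|a 4<|b)<|a (a 6<|a 1<|a 1<|a 1<|a 1<|b)<|a (a 7<|a 2<|a 1<|b)<|
 a (a 4<|a 3<|a 3<|b)<|a (a 5<|a 2<|a 1<|a 1<|a 1<|b)<|a (a 6<|a 2<|a 2<|b)<|a (a 4<|a 4<|a 2<|b)<|a (a 5<|a 4<|a 1<|b)<|a (a 4<|a 4<|a 1<|a 1<|b)<|a (a 6<|a 3<|a 1<|b)<|a (a 6<|a 2<|a 1<|a 1<|b)<|
 a (a 4<|a 3<|a 2<|a 1<|b)<|a (a 5<|a 3<|a 2<|b)<|a (a 5<|a 2<|a 2<|a 1<|b)<|a (a 5<|a 3<|a 1<|a 1<|b)<|b))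
  | 11 =>
    (beta% delta% lq2677172d58 fun a b _ _ =>
 (a (a 11<|b)<|a (a 10<|a 1<|b)<|a (a 9<|a 2<|b)<|a (a 9<|a 1<|a 1<|b)<|a (a 8<|a 3<|b)<|a (a 8<|a 1<|a 1<|a 1<|b)<|a (a 6<|a 1<|a 1<|a 1<|a 1<|a 1<|b)<|a (a 6<|a 5<|b)<|a (a 7<|a 4<|b)<|
 a (a 7<|a 1<|a 1<|a 1<|a 1<|b)<|a (a 8<|a 2<|a 1<|b)<|a (a 5<|a 5<|a 1<|b)<|a (a 7<|a 2<|a 2<|b)<|a (a 4<|a 4<|a 3<|b)<|a (a 7<|a 3<|a 1<|b)<|a (a 7<|a 2<|a 1<|a 1<|b)<|a (a 5<|a 3<|a 3<|b)<|
 a (a 6<|a 4<|a 1<|b)<|a (a 5<|a 2<|a 2<|a 2<|b)<|a (a 6<|a 2<|a 1<|a 1<|a 1<|b)<|a (a 6<|a 3<|a 2<|b)<|a (a 6<|a 2<|a 2<|a 1<|b)<|a (a 5<|a 4<|a 1<|a 1<|b)<|a (a 6<|a 3<|a 1<|a 1<|b)<|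
 a (a 4<|a 4<|a 2<|a 1<|b)<|a (a 5<|a 3<|a 1<|a 1<|a 1<|b)<|a (a 5<|a 3<|a 2<|a 1<|b)<|b))
  | 12 =>
    (beta% delta% lq2677172d58 fun a b _ d =>
 (let e:=(let e:=(let e:=(d (a 5<|a 3<|a 2<|a 1<|a 1<|b)<|d (a 5<|a 3<|a 3<|a 1<|b)<|d (a 5<|a 3<|a 2<|a 2<|b)<|d (a 6<|a 3<|a 2<|a 1<|b)<|d (a 5<|a 4<|a 2<|a 1<|b)<|b);
 (d (a 4<|a 4<|a 3<|a 1<|b)<|d (a 6<|a 4<|a 1<|a 1<|b)<|d (a 5<|a 4<|a 1<|a 1<|a 1<|b)<|d (a 6<|a 2<|a 2<|a 1<|a 1<|b)<|d (a 6<|a 3<|a 1<|a 1<|a 1<|b)<|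
 e));
 (let e:=(d (a 7<|a 3<|a 2<|b)<|d (a 7<|a 2<|a 2<|a 1<|b)<|d (a 5<|a 4<|a 3<|b)<|
 d (a 7<|a 3<|a 1<|a 1<|b)<|d (a 6<|a 4<|a 2<|b)<|e);
 (d (a 7<|a 4<|a 1<|b)<|d (a 5<|a 5<|a 1<|a 1<|b)<|d (a 6<|a 3<|a 3<|b)<|d (a 7<|a 2<|a 1<|a 1<|a 1<|b)<|e)));
 (let e:=(let e:=(d (a 8<|a 3<|a 1<|b)<|d (a 8<|a 2<|a 1<|a 1<|b)<|d (a 6<|a 2<|a 1<|a 1<|a 1<|a 1<|b)<|d (a 6<|a 5<|a 1<|b)<|
 d (a 5<|a 5<|a 2<|b)<|e);
 (d (a 9<|a 2<|a 1<|b)<|
 d (a 8<|a 1<|a 1<|a 1<|a 1<|b)<|d (a 4<|a 4<|a 4<|b)<|d (a 8<|a 2<|a 2<|b)<|e));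
 (let e:=(d (a 6<|a 6<|b)<|d (a 9<|a 3<|b)<|d (a 9<|a 1<|a 1<|a 1<|b)<|d (a 8<|a 4<|b)<|d (a 7<|a 5<|b)<|e);
 (a (a 12<|b)<|a (a 11<|a 1<|b)<|a (a 10<|a 2<|b)<|a (a 10<|a 1<|a 1<|b)<|e)))))
  | 13 =>
    (beta% delta% lq2677172d58 fun a b _ d =>
 (let e:=(let e:=(let e:=(d (a 7<|a 3<|a 2<|a 1<|b)<|d (a 5<|a 4<|a 2<|a 2<|b)<|d (a 5<|a 4<|a 3<|a 1<|b)<|d (a 6<|a 4<|a 2<|a 1<|b)<|
 d (a 6<|a 3<|a 2<|a 1<|a 1<|b)<|d (a 5<|a 4<|a 2<|a 1<|a 1<|b)<|b);
 (d (a 5<|a 5<|a 2<|a 1<|b)<|d (a 6<|a 2<|a 2<|a 2<|a 1<|b)<|d (a 6<|a 3<|a 1<|a 1<|a 1<|a 1<|b)<|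
 d (a 6<|a 4<|a 1<|a 1<|a 1<|b)<|d (a 6<|a 3<|a 3<|a 1<|b)<|d (a 5<|a 3<|a 3<|a 2<|b)<|e));
 (let e:=(d (a 7<|a 4<|a 2<|b)<|d (a 6<|a 4<|a 3<|b)<|d (a 7<|a 4<|a 1<|a 1<|b)<|
 d (a 7<|a 2<|a 2<|a 1<|a 1<|b)<|d (a 7<|a 3<|a 1<|a 1<|a 1<|b)<|d (a 5<|a 3<|a 3<|a 1<|a 1<|b)<|e);
 (d (a 8<|a 3<|a 1<|a 1<|b)<|
 d (a 4<|a 4<|a 3<|a 2<|b)<|d (a 5<|a 5<|a 1<|a 1<|a 1<|b)<|d (a 6<|a 5<|a 2<|b)<|d (a 6<|a 5<|a 1<|a 1<|b)<|e)));
 (let e:=(let e:=(d (a 7<|a 5<|a 1<|b)<|d (a 8<|a 2<|a 1<|a 1<|a 1<|b)<|d (a 8<|a 3<|a 2<|b)<|d (a 7<|a 3<|a 3<|b)<|d (a 8<|a 2<|a 2<|a 1<|b)<|d (a 7<|a 2<|a 2<|a 2<|b)<|e);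
 (d (a 9<|a 2<|a 2<|b)<|d (a 6<|a 6<|a 1<|b)<|d (a 9<|a 3<|a 1<|b)<|d (a 9<|a 2<|a 1<|a 1<|b)<|d (a 8<|a 4<|a 1<|b)<|
 e));
 (let e:=(d (a 10<|a 1<|a 1<|a 1<|b)<|d (a 9<|a 4<|b)<|d (a 7<|a 1<|a 1<|a 1<|a 1<|a 1<|a 1<|b)<|
 d (a 9<|a 1<|a 1<|a 1<|a 1<|b)<|d (a 8<|a 5<|b)<|d (a 8<|a 1<|a 1<|a 1<|a 1<|a 1<|b)<|e);
 (a (a 13<|b)<|a (a 12<|a 1<|b)<|a (a 11<|a 2<|b)<|a (a 11<|a 1<|a 1<|b)<|a (a 10<|a 3<|b)<|e)))))
  | 14 =>
    (beta% delta% lq2677172d58 fun a b _ d =>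
 (let e:=(let e:=(let e:=(d (a 7<|a 4<|a 2<|a 1<|b)<|d (a 7<|a 3<|a 2<|a 1<|a 1<|b)<|d (a 5<|a 4<|a 3<|a 2<|b)<|d (a 6<|a 4<|a 3<|a 1<|b)<|d (a 6<|a 3<|a 2<|a 2<|a 1<|b)<|
 d (a 5<|a 4<|a 3<|a 1<|a 1<|b)<|d (a 6<|a 4<|a 2<|a 1<|a 1<|b)<|b);
 (d (a 7<|a 3<|a 2<|a 2<|b)<|d (a 6<|a 4<|a 1<|a 1<|a 1<|a 1<|b)<|d (a 6<|a 3<|a 2<|a 1<|a 1<|a 1<|b)<|d (a 5<|a 4<|a 2<|a 2<|a 1<|b)<|
 d (a 6<|a 3<|a 3<|a 2<|b)<|d (a 6<|a 5<|a 2<|a 1<|b)<|e));
 (let e:=(d (a 7<|a 4<|a 3<|b)<|d (a 7<|a 2<|a 2<|a 2<|a 1<|b)<|d (a 5<|a 4<|a 4<|a 1<|b)<|d (a 5<|a 5<|a 2<|a 2<|b)<|d (a 8<|a 3<|a 2<|a 1<|b)<|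
 d (a 7<|a 4<|a 1<|a 1<|a 1<|b)<|d (a 7<|a 3<|a 3<|a 1<|b)<|e);
 (d (a 6<|a 4<|a 4<|b)<|d (a 8<|a 4<|a 2<|b)<|d (a 8<|a 4<|a 1<|a 1<|b)<|d (a 7<|a 5<|a 2<|b)<|
 d (a 6<|a 5<|a 3<|b)<|d (a 7<|a 5<|a 1<|a 1<|b)<|e)));
 (let e:=(let e:=(d (a 9<|a 2<|a 1<|a 1<|a 1<|b)<|d (a 9<|a 3<|a 2<|b)<|d (a 8<|a 5<|a 1<|b)<|
 d (a 6<|a 6<|a 2<|b)<|d (a 8<|a 3<|a 3<|b)<|d (a 8<|a 2<|a 2<|a 2<|b)<|d (a 8<|a 2<|a 1<|a 1<|a 1<|a 1<|b)<|e);
 (d (a 8<|a 1<|a 1<|a 1<|a 1<|a 1<|a 1<|b)<|d (a 10<|a 3<|a 1<|b)<|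
 d (a 10<|a 2<|a 1<|a 1<|b)<|d (a 9<|a 4<|a 1<|b)<|d (a 7<|a 6<|a 1<|b)<|d (a 7<|a 2<|a 1<|a 1<|a 1<|a 1<|a 1<|b)<|e));
 (let e:=(d (a 7<|a 7<|b)<|d (a 11<|a 2<|a 1<|b)<|d (a 10<|a 4<|b)<|
 d (a 10<|a 1<|a 1<|a 1<|a 1<|b)<|d (a 9<|a 5<|b)<|d (a 9<|a 1<|a 1<|a 1<|a 1<|a 1<|b)<|d (a 10<|a 2<|a 2<|b)<|e);
 (a (a 14<|b)<|a (a 13<|a 1<|b)<|a (a 12<|a 2<|b)<|a (a 12<|a 1<|a 1<|b)<|a (a 11<|a 3<|b)<|a (a 11<|a 1<|a 1<|a 1<|b)<|e)))))
  | 15 =>
    (beta% delta% lq2677172d58 fun a b _ d =>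
 (let e:=(let e:=(let e:=(let e:=(d (a 6<|a 4<|a 3<|a 2<|b)<|d (a 7<|a 4<|a 2<|a 1<|a 1<|b)<|d (a 6<|a 3<|a 3<|a 2<|a 1<|b)<|d (a 6<|a 4<|a 2<|a 1<|a 1<|a 1<|b)<|d (a 6<|a 4<|a 3<|a 1<|a 1<|b)<|d (a 6<|a 4<|a 2<|a 2<|a 1<|b)<|b);
 (d (a 7<|a 4<|a 3<|a 1<|b)<|d (a 5<|a 4<|a 3<|a 2<|a 1<|b)<|d (a 7<|a 3<|a 2<|a 1<|a 1<|a 1<|b)<|d (a 7<|a 3<|a 2<|a 2<|a 1<|b)<|d (a 6<|a 5<|a 2<|a 1<|a 1<|b)<|
 e));
 (let e:=(d (a 7<|a 4<|a 2<|a 2<|b)<|d (a 7<|a 3<|a 3<|a 1<|a 1<|b)<|d (a 5<|a 5<|a 2<|a 2<|a 1<|b)<|d (a 5<|a 5<|a 3<|a 1<|a 1<|b)<|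
 d (a 6<|a 5<|a 3<|a 1<|b)<|e);
 (d (a 7<|a 3<|a 3<|a 2<|b)<|d (a 8<|a 4<|a 2<|a 1<|b)<|d (a 5<|a 5<|a 3<|a 2<|b)<|
 d (a 6<|a 5<|a 2<|a 2<|b)<|d (a 7<|a 5<|a 2<|a 1<|b)<|e)));
 (let e:=(let e:=(d (a 7<|a 2<|a 2<|a 2<|a 1<|a 1<|b)<|
 d (a 5<|a 4<|a 3<|a 3<|b)<|d (a 6<|a 3<|a 3<|a 1<|a 1<|a 1<|b)<|d (a 6<|a 4<|a 4<|a 1<|b)<|d (a 5<|a 4<|a 4<|a 2<|b)<|e);
 (d (a 5<|a 5<|a 4<|a 1<|b)<|d (a 8<|a 3<|a 3<|a 1<|b)<|d (a 8<|a 3<|a 2<|a 2<|b)<|d (a 7<|a 5<|a 1<|a 1<|a 1<|b)<|d (a 6<|a 5<|a 1<|a 1<|a 1<|a 1<|b)<|e));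
 (let e:=(d (a 8<|a 3<|a 1<|a 1<|a 1<|a 1<|b)<|d (a 7<|a 5<|a 3<|b)<|d (a 6<|a 6<|a 2<|a 1<|b)<|d (a 7<|a 3<|a 1<|a 1<|a 1<|a 1<|a 1<|b)<|d (a 8<|a 4<|a 1<|a 1<|a 1<|b)<|
 e);
 (d (a 7<|a 2<|a 2<|a 2<|a 2<|b)<|d (a 8<|a 4<|a 3<|b)<|d (a 8<|a 5<|a 1<|a 1<|b)<|d (a 9<|a 3<|a 2<|a 1<|b)<|
 d (a 8<|a 2<|a 2<|a 1<|a 1<|a 1<|b)<|e))));
 (let e:=(let e:=(let e:=(d (a 9<|a 3<|a 1<|a 1<|a 1<|b)<|d (a 7<|a 6<|a 1<|a 1<|b)<|
 d (a 6<|a 6<|a 1<|a 1<|a 1<|b)<|d (a 6<|a 5<|a 4<|b)<|d (a 8<|a 5<|a 2<|b)<|e);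
 (d (a 8<|a 2<|a 1<|a 1<|a 1<|a 1<|a 1<|b)<|d (a 6<|a 6<|a 3<|b)<|d (a 9<|a 4<|a 2<|b)<|d (a 9<|a 2<|a 2<|a 1<|a 1<|b)<|d (a 7<|a 6<|a 2<|b)<|e));
 (let e:=(d (a 8<|a 6<|a 1<|b)<|d (a 4<|a 4<|a 4<|a 3<|b)<|d (a 9<|a 3<|a 3<|b)<|d (a 9<|a 2<|a 2<|a 2<|b)<|d (a 9<|a 2<|a 1<|a 1<|a 1<|a 1<|b)<|
 e);
 (d (a 10<|a 2<|a 1<|a 1<|a 1<|b)<|d (a 10<|a 3<|a 2<|b)<|d (a 10<|a 2<|a 2<|a 1<|b)<|
 d (a 10<|a 3<|a 1<|a 1<|b)<|d (a 9<|a 5<|a 1<|b)<|e)));
 (let e:=(let e:=(d (a 11<|a 2<|a 1<|a 1<|b)<|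
 d (a 9<|a 1<|a 1<|a 1<|a 1<|a 1<|a 1<|b)<|d (a 7<|a 7<|a 1<|b)<|d (a 5<|a 5<|a 5<|b)<|d (a 10<|a 4<|a 1<|b)<|e);
 (d (a 10<|a 5<|b)<|d (a 8<|a 1<|a 1<|a 1<|a 1<|a 1<|a 1<|a 1<|b)<|d (a 11<|a 2<|a 2<|b)<|d (a 9<|a 6<|b)<|d (a 11<|a 3<|a 1<|b)<|e));
 (let e:=(d (a 12<|a 1<|a 1<|a 1<|b)<|d (a 12<|a 2<|a 1<|b)<|d (a 11<|a 4<|b)<|d (a 11<|a 1<|a 1<|a 1<|a 1<|b)<|
 d (a 8<|a 7<|b)<|e);
 (a (a 15<|b)<|a (a 14<|a 1<|b)<|a (a 13<|a 2<|b)<|a (a 13<|a 1<|a 1<|b)<|a (a 12<|a 3<|b)<|e))))))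
  | 16 =>
    (beta% delta% lq2677172d58 fun a b _ d =>
 (let e:=(let e:=(let e:=(let e:=(d (a 6<|a 5<|a 2<|a 2<|a 1<|b)<|
 d (a 5<|a 5<|a 3<|a 2<|a 1<|b)<|d (a 6<|a 5<|a 3<|a 1<|a 1<|b)<|d (a 7<|a 4<|a 3<|a 1<|a 1<|b)<|d (a 7<|a 4<|a 2<|a 2<|a 1<|b)<|d (a 6<|a 4<|a 3<|a 1<|a 1<|a 1<|b)<|d (a 6<|a 4<|a 3<|a 2<|a 1<|b)<|b);
 (d (a 6<|a 5<|a 3<|a 2<|b)<|d (a 7<|a 4<|a 3<|a 2<|b)<|d (a 7<|a 5<|a 2<|a 1<|a 1<|b)<|
 d (a 5<|a 4<|a 4<|a 2<|a 1<|b)<|d (a 6<|a 5<|a 2<|a 1<|a 1<|a 1<|b)<|d (a 7<|a 3<|a 3<|a 2<|a 1<|b)<|d (a 7<|a 3<|a 2<|a 2<|a 1<|a 1<|b)<|e));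
 (let e:=(d (a 8<|a 3<|a 2<|a 2<|a 1<|b)<|d (a 6<|a 4<|a 4<|a 1<|a 1<|b)<|d (a 7<|a 5<|a 3<|a 1<|b)<|d (a 8<|a 4<|a 2<|a 1<|a 1<|b)<|
 d (a 6<|a 3<|a 3<|a 2<|a 2<|b)<|d (a 6<|a 4<|a 2<|a 2<|a 1<|a 1<|b)<|d (a 6<|a 4<|a 2<|a 2<|a 2<|b)<|e);
 (d (a 6<|a 4<|a 3<|a 3<|b)<|d (a 7<|a 3<|a 2<|a 2<|a 2<|b)<|d (a 8<|a 4<|a 3<|a 1<|b)<|d (a 7<|a 5<|a 2<|a 2<|b)<|
 d (a 6<|a 4<|a 4<|a 2<|b)<|d (a 8<|a 3<|a 2<|a 1<|a 1<|a 1<|b)<|e)));
 (let e:=(let e:=(d (a 7<|a 6<|a 2<|a 1<|b)<|d (a 5<|a 5<|a 4<|a 2<|b)<|d (a 7<|a 4<|a 4<|a 1<|b)<|d (a 8<|a 4<|a 2<|a 2<|b)<|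
 d (a 8<|a 5<|a 2<|a 1<|b)<|d (a 8<|a 3<|a 3<|a 1<|a 1<|b)<|d (a 6<|a 5<|a 4<|a 1<|b)<|e);
 (d (a 8<|a 4<|a 1<|a 1<|a 1<|a 1<|b)<|d (a 9<|a 4<|a 2<|a 1<|b)<|d (a 9<|a 3<|a 2<|a 1<|a 1<|b)<|d (a 7<|a 4<|a 1<|a 1<|a 1<|a 1<|a 1<|b)<|d (a 6<|a 6<|a 3<|a 1<|b)<|
 d (a 7<|a 3<|a 2<|a 1<|a 1<|a 1<|a 1<|b)<|d (a 8<|a 3<|a 3<|a 2<|b)<|e));
 (let e:=(d (a 7<|a 6<|a 1<|a 1<|a 1<|b)<|
 d (a 5<|a 5<|a 2<|a 2<|a 2<|b)<|d (a 7<|a 3<|a 3<|a 3<|b)<|d (a 6<|a 6<|a 2<|a 2<|b)<|d (a 8<|a 2<|a 2<|a 2<|a 1<|a 1<|b)<|d (a 7<|a 2<|a 2<|a 2<|a 2<|a 1<|b)<|d (a 5<|a 5<|a 3<|a 3<|b)<|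
 e);
 (d (a 7<|a 5<|a 4<|b)<|
 d (a 9<|a 4<|a 1<|a 1<|a 1<|b)<|d (a 8<|a 5<|a 3<|b)<|d (a 8<|a 2<|a 2<|a 1<|a 1<|a 1<|a 1<|b)<|d (a 9<|a 3<|a 2<|a 2<|b)<|d (a 8<|a 3<|a 1<|a 1<|a 1<|a 1<|a 1<|b)<|e))));
 (let e:=(let e:=(let e:=(d (a 8<|a 6<|a 1<|a 1<|b)<|d (a 8<|a 2<|a 2<|a 2<|a 2<|b)<|
 d (a 9<|a 2<|a 2<|a 2<|a 1<|b)<|d (a 9<|a 2<|a 2<|a 1<|a 1<|a 1<|b)<|d (a 9<|a 3<|a 1<|a 1<|a 1<|a 1<|b)<|d (a 7<|a 6<|a 3<|b)<|d (a 6<|a 6<|a 1<|a 1<|a 1<|a 1<|b)<|e);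
 (d (a 6<|a 6<|a 4<|b)<|
 d (a 8<|a 4<|a 4<|b)<|d (a 9<|a 5<|a 2<|b)<|d (a 8<|a 6<|a 2<|b)<|d (a 9<|a 4<|a 3<|b)<|d (a 9<|a 5<|a 1<|a 1<|b)<|d (a 10<|a 3<|a 2<|a 1<|b)<|e));
 (let e:=(d (a 7<|a 7<|a 1<|a 1<|b)<|d (a 6<|a 5<|a 5<|b)<|
 d (a 9<|a 2<|a 1<|a 1<|a 1<|a 1<|a 1<|b)<|d (a 10<|a 4<|a 2<|b)<|d (a 10<|a 2<|a 2<|a 1<|a 1<|b)<|d (a 10<|a 4<|a 1<|a 1<|b)<|d (a 10<|a 3<|a 1<|a 1<|a 1<|b)<|e);
 (d (a 8<|a 2<|a 1<|a 1<|a 1<|a 1<|a 1<|a 1<|b)<|d (a 10<|a 3<|a 3<|b)<|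
 d (a 10<|a 2<|a 2<|a 2<|b)<|d (a 10<|a 2<|a 1<|a 1<|a 1<|a 1<|b)<|d (a 9<|a 6<|a 1<|b)<|d (a 7<|a 7<|a 2<|b)<|e)));
 (let e:=(let e:=(d (a 11<|a 2<|a 1<|a 1<|a 1<|b)<|d (a 4<|a 4<|a 4<|a 4<|b)<|
 d (a 11<|a 3<|a 2<|b)<|d (a 11<|a 2<|a 2<|a 1<|b)<|d (a 11<|a 3<|a 1<|a 1<|b)<|d (a 8<|a 7<|a 1<|b)<|d (a 10<|a 5<|a 1<|b)<|e);
 (d (a 9<|a 7<|b)<|d (a 10<|a 6<|b)<|d (a 12<|a 3<|a 1<|b)<|d (a 12<|a 2<|a 1<|a 1<|b)<|
 d (a 10<|a 1<|a 1<|a 1<|a 1<|a 1<|a 1<|b)<|d (a 9<|a 1<|a 1<|a 1<|a 1<|a 1<|a 1<|a 1<|b)<|d (a 11<|a 4<|a 1<|b)<|e));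
 (let e:=(d (a 13<|a 2<|a 1<|b)<|d (a 12<|a 4<|b)<|d (a 12<|a 1<|a 1<|a 1<|a 1<|b)<|
 d (a 8<|a 8<|b)<|d (a 11<|a 5<|b)<|d (a 12<|a 2<|a 2<|b)<|d (a 11<|a 1<|a 1<|a 1<|a 1<|a 1<|b)<|e);
 (a (a 16<|b)<|a (a 15<|a 1<|b)<|a (a 14<|a 2<|b)<|a (a 14<|a 1<|a 1<|b)<|a (a 13<|a 3<|b)<|a (a 13<|a 1<|a 1<|a 1<|b)<|e))))))
  | 17 =>
    (beta% delta% lq2677172d58 fun a b _ d =>
 (let e:=(let e:=(let e:=(let e:=(let e:=(d (a 6<|a 5<|a 2<|a 2<|a 1<|a 1<|b)<|
 d (a 6<|a 4<|a 3<|a 2<|a 2<|b)<|d (a 7<|a 4<|a 2<|a 2<|a 1<|a 1<|b)<|d (a 6<|a 5<|a 3<|a 2<|a 1<|b)<|d (a 7<|a 4<|a 3<|a 2<|a 1<|b)<|b);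
 (d (a 6<|a 4<|a 3<|a 2<|a 1<|a 1<|b)<|d (a 6<|a 4<|a 4<|a 2<|a 1<|b)<|d (a 6<|a 5<|a 3<|a 1<|a 1<|a 1<|b)<|d (a 7<|a 4<|a 3<|a 1<|a 1<|a 1<|b)<|e));
 (let e:=(d (a 7<|a 5<|a 2<|a 2<|a 1<|b)<|d (a 7<|a 5<|a 3<|a 1<|a 1<|b)<|d (a 6<|a 4<|a 3<|a 3<|a 1<|b)<|d (a 7<|a 3<|a 3<|a 2<|a 1<|a 1<|b)<|
 e);
 (d (a 8<|a 4<|a 3<|a 1<|a 1<|b)<|d (a 7<|a 5<|a 3<|a 2<|b)<|d (a 7<|a 4<|a 2<|a 1<|a 1<|a 1<|a 1<|b)<|
 d (a 7<|a 5<|a 2<|a 1<|a 1<|a 1<|b)<|e)));
 (let e:=(let e:=(d (a 7<|a 4<|a 2<|a 2<|a 2<|b)<|d (a 8<|a 4<|a 2<|a 1<|a 1<|a 1<|b)<|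
 d (a 6<|a 4<|a 4<|a 1<|a 1<|a 1<|b)<|d (a 6<|a 5<|a 4<|a 1<|a 1<|b)<|e);
 (d (a 7<|a 3<|a 3<|a 2<|a 2<|b)<|d (a 6<|a 5<|a 4<|a 2<|b)<|d (a 8<|a 3<|a 3<|a 2<|a 1<|b)<|d (a 8<|a 3<|a 2<|a 2<|a 1<|a 1<|b)<|e));
 (let e:=(d (a 7<|a 4<|a 4<|a 2<|b)<|d (a 8<|a 5<|a 3<|a 1<|b)<|d (a 8<|a 4<|a 3<|a 2<|b)<|d (a 7<|a 4<|a 4<|a 1<|a 1<|b)<|
 e);
 (d (a 6<|a 6<|a 2<|a 2<|a 1<|b)<|d (a 8<|a 3<|a 3<|a 1<|a 1<|a 1<|b)<|
 d (a 7<|a 5<|a 4<|a 1<|b)<|d (a 7<|a 6<|a 2<|a 1<|a 1<|b)<|e))));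
 (let e:=(let e:=(let e:=(d (a 9<|a 4<|a 2<|a 1<|a 1<|b)<|d (a 7<|a 6<|a 3<|a 1<|b)<|d (a 7<|a 4<|a 3<|a 3<|b)<|d (a 6<|a 5<|a 3<|a 3<|b)<|e);
 (d (a 6<|a 4<|a 4<|a 3<|b)<|d (a 8<|a 5<|a 2<|a 2<|b)<|d (a 6<|a 6<|a 3<|a 2<|b)<|d (a 6<|a 6<|a 2<|a 1<|a 1<|a 1<|b)<|
 e));
 (let e:=(d (a 5<|a 4<|a 4<|a 3<|a 1<|b)<|d (a 8<|a 3<|a 2<|a 2<|a 2<|b)<|
 d (a 9<|a 3<|a 2<|a 2<|a 1<|b)<|d (a 5<|a 5<|a 3<|a 2<|a 2<|b)<|e);
 (d (a 8<|a 6<|a 2<|a 1<|b)<|
 d (a 7<|a 3<|a 3<|a 1<|a 1<|a 1<|a 1<|b)<|d (a 9<|a 4<|a 3<|a 1<|b)<|d (a 9<|a 3<|a 2<|a 1<|a 1<|a 1<|b)<|e)));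
 (let e:=(let e:=(d (a 9<|a 4<|a 2<|a 2<|b)<|d (a 7<|a 5<|a 1<|a 1<|a 1<|a 1<|a 1<|b)<|d (a 9<|a 5<|a 2<|a 1<|b)<|d (a 9<|a 3<|a 3<|a 1<|a 1<|b)<|e);
 (d (a 8<|a 2<|a 2<|a 2<|a 1<|a 1<|a 1<|b)<|d (a 8<|a 4<|a 1<|a 1<|a 1<|a 1<|a 1<|b)<|d (a 8<|a 5<|a 1<|a 1<|a 1<|a 1<|b)<|
 d (a 6<|a 6<|a 4<|a 1<|b)<|e));
 (let e:=(d (a 6<|a 5<|a 5<|a 1<|b)<|d (a 8<|a 2<|a 2<|a 2<|a 2<|a 1<|b)<|
 d (a 7<|a 6<|a 1<|a 1<|a 1<|a 1<|b)<|d (a 9<|a 3<|a 3<|a 2<|b)<|e);
 (d (a 8<|a 6<|a 1<|a 1<|a 1<|b)<|d (a 8<|a 3<|a 3<|a 3<|b)<|d (a 10<|a 3<|a 2<|a 1<|a 1<|b)<|d (a 9<|a 4<|a 1<|a 1<|a 1<|a 1<|b)<|e)))));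
 (let e:=(let e:=(let e:=(let e:=(d (a 8<|a 6<|a 3<|b)<|d (a 5<|a 5<|a 5<|a 2<|b)<|d (a 9<|a 2<|a 2<|a 2<|a 1<|a 1<|b)<|d (a 9<|a 5<|a 1<|a 1<|a 1<|b)<|d (a 10<|a 4<|a 2<|a 1<|b)<|
 e);
 (d (a 9<|a 3<|a 1<|a 1<|a 1<|a 1<|a 1<|b)<|d (a 7<|a 6<|a 4<|b)<|d (a 9<|a 5<|a 3<|b)<|
 d (a 7<|a 2<|a 2<|a 2<|a 2<|a 2<|b)<|e));
 (let e:=(d (a 5<|a 4<|a 4<|a 4<|b)<|
 d (a 10<|a 3<|a 3<|a 1<|b)<|d (a 10<|a 3<|a 2<|a 2<|b)<|d (a 9<|a 2<|a 2<|a 1<|a 1<|a 1<|a 1<|b)<|e);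
 (d (a 9<|a 2<|a 2<|a 2<|a 2<|b)<|d (a 9<|a 6<|a 2<|b)<|d (a 9<|a 6<|a 1<|a 1<|b)<|d (a 10<|a 4<|a 1<|a 1<|a 1<|b)<|e)));
 (let e:=(let e:=(d (a 7<|a 5<|a 5<|b)<|d (a 10<|a 2<|a 2<|a 2<|a 1<|b)<|d (a 7<|a 7<|a 1<|a 1<|a 1<|b)<|
 d (a 10<|a 3<|a 1<|a 1<|a 1<|a 1<|b)<|e);
 (d (a 7<|a 7<|a 3<|b)<|d (a 10<|a 5<|a 2<|b)<|d (a 10<|a 4<|a 3<|b)<|d (a 10<|a 5<|a 1<|a 1<|b)<|e));
 (let e:=(d (a 11<|a 3<|a 1<|a 1<|a 1<|b)<|d (a 9<|a 2<|a 1<|a 1<|a 1<|a 1<|a 1<|a 1<|b)<|d (a 6<|a 6<|a 5<|b)<|d (a 8<|a 7<|a 2<|b)<|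
 e);
 (d (a 11<|a 4<|a 2<|b)<|d (a 10<|a 2<|a 1<|a 1<|a 1<|a 1<|a 1<|b)<|
 d (a 11<|a 2<|a 2<|a 1<|a 1<|b)<|d (a 11<|a 4<|a 1<|a 1<|b)<|e))));
 (let e:=(let e:=(let e:=(d (a 11<|a 2<|a 2<|a 2<|b)<|d (a 11<|a 2<|a 1<|a 1<|a 1<|a 1<|b)<|d (a 9<|a 7<|a 1<|b)<|d (a 10<|a 6<|a 1<|b)<|e);
 (d (a 12<|a 2<|a 2<|a 1<|b)<|d (a 12<|a 3<|a 1<|a 1<|b)<|d (a 11<|a 5<|a 1<|b)<|d (a 11<|a 3<|a 3<|b)<|
 e));
 (let e:=(d (a 12<|a 4<|a 1<|b)<|
 d (a 12<|a 2<|a 1<|a 1<|a 1<|b)<|d (a 8<|a 8<|a 1<|b)<|d (a 12<|a 3<|a 2<|b)<|e);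
 (d (a 9<|a 1<|a 1<|a 1<|a 1<|a 1<|a 1<|a 1<|a 1<|b)<|d (a 10<|a 7<|b)<|d (a 11<|a 1<|a 1<|a 1<|a 1<|a 1<|a 1<|b)<|d (a 10<|a 1<|a 1<|a 1<|a 1<|a 1<|a 1<|a 1<|b)<|e)));
 (let e:=(let e:=(d (a 9<|a 8<|b)<|d (a 13<|a 3<|a 1<|b)<|d (a 13<|a 2<|a 1<|a 1<|b)<|d (a 11<|a 6<|b)<|
 e);
 (d (a 13<|a 1<|a 1<|a 1<|a 1<|b)<|
 d (a 13<|a 2<|a 2<|b)<|d (a 12<|a 5<|b)<|d (a 12<|a 1<|a 1<|a 1<|a 1<|a 1<|b)<|e));
 (let e:=(d (a 14<|a 3<|b)<|d (a 14<|a 1<|a 1<|a 1<|b)<|d (a 14<|a 2<|a 1<|b)<|d (a 13<|a 4<|b)<|e);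
 (a (a 17<|b)<|a (a 16<|a 1<|b)<|a (a 15<|a 2<|b)<|a (a 15<|a 1<|a 1<|b)<|e)))))))
  | 18 =>
    (beta% delta% lq2677172d58 fun a b _ d =>
 (let e:=(let e:=(let e:=(let e:=(let e:=(d (a 8<|a 4<|a 3<|a 2<|a 1<|b)<|d (a 6<|a 5<|a 4<|a 2<|a 1<|b)<|
 d (a 6<|a 4<|a 4<|a 2<|a 1<|a 1<|b)<|d (a 7<|a 5<|a 3<|a 2<|a 1<|b)<|d (a 6<|a 5<|a 3<|a 2<|a 1<|a 1<|b)<|d (a 7<|a 4<|a 3<|a 2<|a 1<|a 1<|b)<|b);
 (d (a 6<|a 5<|a 3<|a 3<|a 1<|b)<|d (a 7<|a 4<|a 4<|a 2<|a 1<|b)<|d (a 7<|a 4<|a 2<|a 2<|a 2<|a 1<|b)<|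
 d (a 7<|a 4<|a 3<|a 2<|a 2<|b)<|d (a 6<|a 5<|a 3<|a 2<|a 2<|b)<|d (a 7<|a 5<|a 2<|a 2<|a 1<|a 1<|b)<|e));
 (let e:=(d (a 8<|a 4<|a 3<|a 1<|a 1<|a 1<|b)<|d (a 6<|a 4<|a 4<|a 3<|a 1<|b)<|d (a 8<|a 4<|a 2<|a 2<|a 1<|a 1<|b)<|d (a 6<|a 4<|a 3<|a 3<|a 2<|b)<|
 d (a 7<|a 4<|a 3<|a 3<|a 1<|b)<|d (a 7<|a 4<|a 3<|a 1<|a 1<|a 1<|a 1<|b)<|e);
 (d (a 7<|a 5<|a 4<|a 1<|a 1<|b)<|d (a 8<|a 3<|a 3<|a 2<|a 1<|a 1<|b)<|d (a 8<|a 5<|a 3<|a 1<|a 1<|b)<|d (a 6<|a 6<|a 3<|a 2<|a 1<|b)<|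
 d (a 6<|a 5<|a 4<|a 1<|a 1<|a 1<|b)<|e)));
 (let e:=(let e:=(d (a 7<|a 5<|a 4<|a 2<|b)<|d (a 7<|a 6<|a 3<|a 1<|a 1<|b)<|d (a 8<|a 5<|a 2<|a 1<|a 1<|a 1<|b)<|d (a 7<|a 4<|a 4<|a 1<|a 1<|a 1<|b)<|d (a 7<|a 5<|a 2<|a 1<|a 1<|a 1<|a 1<|b)<|
 d (a 8<|a 5<|a 2<|a 2<|a 1<|b)<|e);
 (d (a 8<|a 3<|a 2<|a 2<|a 1<|a 1<|a 1<|b)<|d (a 8<|a 4<|a 2<|a 1<|a 1<|a 1<|a 1<|b)<|d (a 7<|a 6<|a 2<|a 2<|a 1<|b)<|d (a 8<|a 5<|a 3<|a 2<|b)<|d (a 5<|a 5<|a 4<|a 3<|a 1<|b)<|
 e));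
 (let e:=(d (a 8<|a 3<|a 2<|a 2<|a 2<|a 1<|b)<|
 d (a 7<|a 6<|a 2<|a 1<|a 1<|a 1<|b)<|d (a 6<|a 6<|a 3<|a 1<|a 1<|a 1<|b)<|d (a 6<|a 6<|a 2<|a 2<|a 1<|a 1<|b)<|d (a 5<|a 5<|a 4<|a 2<|a 2<|b)<|d (a 7<|a 4<|a 2<|a 2<|a 1<|a 1<|a 1<|b)<|
 e);
 (d (a 9<|a 4<|a 3<|a 1<|a 1<|b)<|d (a 6<|a 5<|a 2<|a 2<|a 2<|a 1<|b)<|d (a 9<|a 4<|a 2<|a 2<|a 1<|b)<|d (a 8<|a 4<|a 2<|a 2<|a 2<|b)<|d (a 7<|a 6<|a 3<|a 2<|b)<|e))));
 (let e:=(let e:=(let e:=(d (a 8<|a 6<|a 2<|a 1<|a 1<|b)<|d (a 8<|a 3<|a 3<|a 2<|a 2<|b)<|d (a 9<|a 4<|a 2<|a 1<|a 1<|a 1<|b)<|d (a 8<|a 4<|a 4<|a 1<|a 1<|b)<|d (a 7<|a 5<|a 3<|a 3<|b)<|d (a 6<|a 5<|a 4<|a 3<|b)<|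
 e);
 (d (a 8<|a 5<|a 4<|a 1<|b)<|
 d (a 9<|a 5<|a 2<|a 1<|a 1<|b)<|d (a 9<|a 3<|a 3<|a 2<|a 1<|b)<|d (a 9<|a 3<|a 2<|a 2<|a 1<|a 1<|b)<|d (a 6<|a 6<|a 4<|a 1<|a 1<|b)<|d (a 8<|a 3<|a 3<|a 1<|a 1<|a 1<|a 1<|b)<|
 e));
 (let e:=(d (a 7<|a 6<|a 4<|a 1<|b)<|d (a 7<|a 3<|a 2<|a 2<|a 2<|a 2<|b)<|d (a 7<|a 4<|a 4<|a 3<|b)<|d (a 8<|a 6<|a 3<|a 1<|b)<|d (a 9<|a 4<|a 3<|a 2<|b)<|d (a 8<|a 4<|a 4<|a 2<|b)<|e);
 (d (a 5<|a 5<|a 5<|a 2<|a 1<|b)<|d (a 6<|a 5<|a 5<|a 1<|a 1<|b)<|d (a 6<|a 6<|a 2<|a 2<|a 2<|b)<|d (a 8<|a 4<|a 3<|a 3<|b)<|d (a 9<|a 5<|a 3<|a 1<|b)<|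
 e)));
 (let e:=(let e:=(d (a 10<|a 4<|a 2<|a 1<|a 1<|b)<|d (a 6<|a 6<|a 3<|a 3<|b)<|d (a 9<|a 5<|a 2<|a 2<|b)<|d (a 6<|a 5<|a 5<|a 2<|b)<|d (a 9<|a 3<|a 2<|a 1<|a 1<|a 1<|a 1<|b)<|
 d (a 8<|a 6<|a 2<|a 2<|b)<|e);
 (d (a 10<|a 3<|a 2<|a 2<|a 1<|b)<|d (a 7<|a 7<|a 2<|a 1<|a 1<|b)<|d (a 9<|a 6<|a 2<|a 1<|b)<|d (a 7<|a 5<|a 5<|a 1<|b)<|
 d (a 9<|a 3<|a 2<|a 2<|a 2<|b)<|e));
 (let e:=(d (a 8<|a 6<|a 1<|a 1<|a 1<|a 1<|b)<|d (a 7<|a 7<|a 3<|a 1<|b)<|d (a 10<|a 4<|a 3<|a 1<|b)<|d (a 10<|a 3<|a 2<|a 1<|a 1<|a 1<|b)<|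
 d (a 9<|a 4<|a 4<|a 1<|b)<|d (a 8<|a 2<|a 2<|a 2<|a 2<|a 1<|a 1<|b)<|e);
 (d (a 10<|a 5<|a 2<|a 1<|b)<|d (a 9<|a 5<|a 1<|a 1<|a 1<|a 1<|b)<|d (a 8<|a 4<|a 1<|a 1<|a 1<|a 1<|a 1<|a 1<|b)<|d (a 7<|a 6<|a 1<|a 1<|a 1<|a 1<|a 1<|b)<|
 d (a 8<|a 3<|a 2<|a 1<|a 1<|a 1<|a 1<|a 1<|b)<|e)))));
 (let e:=(let e:=(let e:=(let e:=(d (a 9<|a 2<|a 2<|a 2<|a 1<|a 1<|a 1<|b)<|d (a 6<|a 6<|a 5<|a 1<|b)<|d (a 9<|a 4<|a 1<|a 1<|a 1<|a 1<|a 1<|b)<|d (a 10<|a 4<|a 2<|a 2<|b)<|d (a 8<|a 7<|a 2<|a 1<|b)<|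
 d (a 10<|a 3<|a 3<|a 1<|a 1<|b)<|e);
 (d (a 8<|a 6<|a 4<|b)<|d (a 9<|a 6<|a 1<|a 1<|a 1<|b)<|d (a 10<|a 3<|a 3<|a 2<|b)<|d (a 5<|a 5<|a 5<|a 3<|b)<|d (a 5<|a 4<|a 4<|a 4<|a 1<|b)<|d (a 7<|a 7<|a 2<|a 2<|b)<|
 e));
 (let e:=(d (a 9<|a 5<|a 4<|b)<|d (a 10<|a 5<|a 1<|a 1<|a 1<|b)<|d (a 8<|a 2<|a 2<|a 2<|a 2<|a 2<|b)<|d (a 9<|a 6<|a 3<|b)<|d (a 10<|a 4<|a 1<|a 1<|a 1<|a 1<|b)<|d (a 9<|a 3<|a 3<|a 3<|b)<|
 e);
 (d (a 7<|a 7<|a 1<|a 1<|a 1<|a 1<|b)<|d (a 11<|a 4<|a 2<|a 1<|b)<|d (a 9<|a 2<|a 2<|a 1<|a 1<|a 1<|a 1<|a 1<|b)<|d (a 9<|a 3<|a 1<|a 1<|a 1<|a 1<|a 1<|a 1<|b)<|d (a 11<|a 3<|a 2<|a 1<|a 1<|b)<|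
 e)));
 (let e:=(let e:=(d (a 8<|a 5<|a 5<|b)<|d (a 10<|a 2<|a 2<|a 1<|a 1<|a 1<|a 1<|b)<|d (a 10<|a 3<|a 1<|a 1<|a 1<|a 1<|a 1<|b)<|d (a 7<|a 6<|a 5<|b)<|d (a 10<|a 5<|a 3<|b)<|d (a 8<|a 7<|a 3<|b)<|
 e);
 (d (a 9<|a 7<|a 1<|a 1<|b)<|d (a 10<|a 6<|a 1<|a 1<|b)<|d (a 11<|a 3<|a 3<|a 1<|b)<|d (a 11<|a 3<|a 2<|a 2<|b)<|
 d (a 7<|a 7<|a 4<|b)<|e));
 (let e:=(d (a 10<|a 4<|a 4<|b)<|d (a 11<|a 3<|a 1<|a 1<|a 1<|a 1<|b)<|d (a 10<|a 2<|a 2<|a 2<|a 2<|b)<|
 d (a 9<|a 7<|a 2<|b)<|d (a 10<|a 6<|a 2<|b)<|d (a 11<|a 4<|a 1<|a 1<|a 1<|b)<|e);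
 (d (a 11<|a 5<|a 2<|b)<|d (a 11<|a 4<|a 3<|b)<|
 d (a 11<|a 5<|a 1<|a 1<|b)<|d (a 11<|a 2<|a 2<|a 2<|a 1<|b)<|d (a 11<|a 2<|a 2<|a 1<|a 1<|a 1<|b)<|e))));
 (let e:=(let e:=(let e:=(d (a 11<|a 2<|a 1<|a 1<|a 1<|a 1<|a 1<|b)<|d (a 12<|a 3<|a 1<|a 1<|a 1<|b)<|
 d (a 8<|a 8<|a 2<|b)<|d (a 8<|a 8<|a 1<|a 1<|b)<|d (a 10<|a 2<|a 1<|a 1<|a 1<|a 1<|a 1<|a 1<|b)<|d (a 12<|a 3<|a 2<|a 1<|b)<|e);
 (d (a 9<|a 2<|a 1<|a 1<|a 1<|a 1<|a 1<|a 1<|a 1<|b)<|
 d (a 12<|a 4<|a 2<|b)<|d (a 10<|a 7<|a 1<|b)<|d (a 12<|a 2<|a 2<|a 1<|a 1<|b)<|d (a 12<|a 4<|a 1<|a 1<|b)<|e));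
 (let e:=(d (a 12<|a 3<|a 3<|b)<|
 d (a 12<|a 2<|a 2<|a 2<|b)<|d (a 12<|a 2<|a 1<|a 1<|a 1<|a 1<|b)<|d (a 9<|a 8<|a 1<|b)<|d (a 6<|a 6<|a 6<|b)<|d (a 11<|a 6<|a 1<|b)<|e);
 (d (a 10<|a 1<|a 1<|a 1<|a 1<|a 1<|a 1<|a 1<|a 1<|b)<|d (a 13<|a 3<|a 2<|b)<|d (a 13<|a 2<|a 2<|a 1<|b)<|d (a 13<|a 3<|a 1<|a 1<|b)<|d (a 12<|a 5<|a 1<|b)<|e)));
 (let e:=(let e:=(d (a 10<|a 8<|b)<|
 d (a 12<|a 1<|a 1<|a 1<|a 1<|a 1<|a 1<|b)<|d (a 11<|a 7<|b)<|d (a 11<|a 1<|a 1<|a 1<|a 1<|a 1<|a 1<|a 1<|b)<|d (a 13<|a 4<|a 1<|b)<|d (a 13<|a 2<|a 1<|a 1<|a 1<|b)<|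
 e);
 (d (a 13<|a 5<|b)<|d (a 13<|a 1<|a 1<|a 1<|a 1<|a 1<|b)<|d (a 14<|a 3<|a 1<|b)<|d (a 14<|a 2<|a 1<|a 1<|b)<|d (a 12<|a 6<|b)<|e));
 (let e:=(d (a 15<|a 1<|a 1<|a 1<|b)<|d (a 15<|a 2<|a 1<|b)<|d (a 14<|a 4<|b)<|d (a 14<|a 1<|a 1<|a 1<|a 1<|b)<|
 d (a 14<|a 2<|a 2<|b)<|d (a 9<|a 9<|b)<|e);
 (a (a 18<|b)<|a (a 17<|a 1<|b)<|a (a 16<|a 2<|b)<|a (a 16<|a 1<|a 1<|b)<|a (a 15<|a 3<|b)<|e)))))))
  | 19 =>
    (beta% delta% lq2677172d58 fun a b _ d =>
 (let e:=(let e:=(let e:=(let e:=(let e:=(d (a 7<|a 4<|a 4<|a 2<|a 1<|a 1<|b)<|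
 d (a 6<|a 5<|a 3<|a 3<|a 1<|a 1<|b)<|d (a 7<|a 5<|a 4<|a 2<|a 1<|b)<|d (a 8<|a 4<|a 3<|a 2<|a 1<|a 1<|b)<|d (a 6<|a 5<|a 4<|a 2<|a 1<|a 1<|b)<|d (a 7<|a 4<|a 3<|a 2<|a 2<|a 1<|b)<|
 d (a 7<|a 5<|a 3<|a 2<|a 1<|a 1<|b)<|b);
 (d (a 7<|a 5<|a 3<|a 3<|a 1<|b)<|d (a 7<|a 5<|a 2<|a 2<|a 1<|a 1<|a 1<|b)<|
 d (a 7<|a 6<|a 3<|a 2<|a 1<|b)<|d (a 6<|a 5<|a 4<|a 3<|a 1<|b)<|d (a 7<|a 5<|a 3<|a 2<|a 2<|b)<|d (a 8<|a 5<|a 3<|a 2<|a 1<|b)<|e));
 (let e:=(d (a 7<|a 4<|a 3<|a 2<|a 1<|a 1<|a 1<|b)<|d (a 6<|a 5<|a 3<|a 2<|a 2<|a 1<|b)<|d (a 6<|a 5<|a 3<|a 3<|a 2<|b)<|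
 d (a 6<|a 5<|a 4<|a 2<|a 2<|b)<|d (a 7<|a 5<|a 3<|a 1<|a 1<|a 1<|a 1<|b)<|d (a 6<|a 6<|a 3<|a 2<|a 1<|a 1<|b)<|e);
 (d (a 8<|a 4<|a 3<|a 2<|a 2<|b)<|d (a 6<|a 4<|a 4<|a 3<|a 2<|b)<|d (a 7<|a 5<|a 4<|a 1<|a 1<|a 1<|b)<|d (a 8<|a 5<|a 3<|a 1<|a 1<|a 1<|b)<|
 d (a 7<|a 4<|a 3<|a 3<|a 2<|b)<|d (a 8<|a 5<|a 2<|a 2<|a 1<|a 1<|b)<|e)));
 (let e:=(let e:=(d (a 8<|a 4<|a 3<|a 1<|a 1<|a 1<|a 1<|b)<|d (a 8<|a 4<|a 3<|a 3<|a 1<|b)<|d (a 9<|a 4<|a 3<|a 2<|a 1<|b)<|d (a 7<|a 4<|a 4<|a 2<|a 2<|b)<|d (a 8<|a 4<|a 2<|a 2<|a 2<|a 1<|b)<|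
 d (a 8<|a 4<|a 4<|a 2<|a 1<|b)<|e);
 (d (a 8<|a 6<|a 3<|a 1<|a 1<|b)<|
 d (a 9<|a 4<|a 2<|a 2<|a 1<|a 1<|b)<|d (a 7<|a 4<|a 4<|a 1<|a 1<|a 1<|a 1<|b)<|d (a 8<|a 5<|a 4<|a 1<|a 1<|b)<|d (a 8<|a 3<|a 3<|a 2<|a 2<|a 1<|b)<|d (a 8<|a 3<|a 3<|a 2<|a 1<|a 1<|a 1<|b)<|
 e));
 (let e:=(d (a 9<|a 5<|a 3<|a 1<|a 1<|b)<|d (a 8<|a 5<|a 4<|a 2<|b)<|
 d (a 8<|a 6<|a 2<|a 2<|a 1<|b)<|d (a 6<|a 5<|a 5<|a 2<|a 1<|b)<|d (a 7<|a 6<|a 4<|a 1<|a 1<|b)<|d (a 8<|a 5<|a 2<|a 1<|a 1<|a 1<|a 1<|b)<|e);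
 (d (a 7<|a 6<|a 4<|a 2<|b)<|d (a 8<|a 5<|a 2<|a 2<|a 2<|b)<|
 d (a 9<|a 5<|a 2<|a 2<|a 1<|b)<|d (a 7<|a 5<|a 4<|a 3<|b)<|d (a 7<|a 4<|a 2<|a 2<|a 2<|a 2<|b)<|d (a 8<|a 4<|a 4<|a 1<|a 1<|a 1<|b)<|e))));
 (let e:=(let e:=(let e:=(d (a 9<|a 5<|a 2<|a 1<|a 1<|a 1<|b)<|d (a 7<|a 6<|a 2<|a 1<|a 1<|a 1<|a 1<|b)<|
 d (a 8<|a 6<|a 3<|a 2<|b)<|d (a 8<|a 6<|a 2<|a 1<|a 1<|a 1<|b)<|d (a 6<|a 6<|a 4<|a 1<|a 1<|a 1<|b)<|d (a 6<|a 6<|a 2<|a 2<|a 2<|a 1<|b)<|e);
 (d (a 6<|a 5<|a 5<|a 1<|a 1<|a 1<|b)<|d (a 9<|a 3<|a 2<|a 2<|a 1<|a 1<|a 1<|b)<|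
 d (a 8<|a 5<|a 3<|a 3<|b)<|d (a 6<|a 4<|a 3<|a 3<|a 3<|b)<|d (a 7<|a 6<|a 2<|a 2<|a 2<|b)<|d (a 9<|a 5<|a 3<|a 2<|b)<|e));
 (let e:=(d (a 8<|a 6<|a 4<|a 1<|b)<|d (a 9<|a 4<|a 2<|a 2<|a 2<|b)<|d (a 7<|a 6<|a 3<|a 3<|b)<|
 d (a 8<|a 3<|a 3<|a 3<|a 2<|b)<|d (a 6<|a 4<|a 4<|a 4<|a 1<|b)<|d (a 7<|a 5<|a 5<|a 1<|a 1<|b)<|e);
 (d (a 10<|a 4<|a 3<|a 1<|a 1<|b)<|d (a 6<|a 6<|a 4<|a 3<|b)<|d (a 9<|a 3<|a 3<|a 2<|a 2<|b)<|
 d (a 8<|a 4<|a 4<|a 3<|b)<|d (a 7<|a 5<|a 5<|a 2<|b)<|d (a 9<|a 6<|a 2<|a 1<|a 1<|b)<|e)));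
 (let e:=(let e:=(d (a 10<|a 5<|a 2<|a 1<|a 1<|b)<|d (a 9<|a 3<|a 3<|a 3<|a 1<|b)<|d (a 5<|a 5<|a 5<|a 2<|a 2<|b)<|
 d (a 9<|a 4<|a 4<|a 2<|b)<|d (a 8<|a 3<|a 2<|a 2<|a 2<|a 2<|b)<|d (a 9<|a 6<|a 3<|a 1<|b)<|e);
 (d (a 7<|a 6<|a 5<|a 1<|b)<|d (a 8<|a 7<|a 3<|a 1<|b)<|d (a 10<|a 4<|a 3<|a 2<|b)<|
 d (a 9<|a 4<|a 3<|a 3<|b)<|d (a 7<|a 7<|a 3<|a 2<|b)<|d (a 6<|a 5<|a 5<|a 3<|b)<|e));
 (let e:=(d (a 10<|a 3<|a 3<|a 1<|a 1<|a 1<|b)<|d (a 7<|a 3<|a 3<|a 3<|a 3<|b)<|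
 d (a 8<|a 5<|a 5<|a 1<|b)<|d (a 6<|a 5<|a 4<|a 4<|b)<|d (a 10<|a 5<|a 3<|a 1<|b)<|d (a 9<|a 6<|a 2<|a 2<|b)<|e);
 (d (a 8<|a 6<|a 1<|a 1<|a 1<|a 1<|a 1<|b)<|d (a 8<|a 7<|a 2<|a 2<|b)<|d (a 10<|a 5<|a 2<|a 2<|b)<|
 d (a 10<|a 3<|a 2<|a 1<|a 1<|a 1<|a 1<|b)<|d (a 7<|a 7<|a 4<|a 1<|b)<|d (a 8<|a 3<|a 3<|a 1<|a 1<|a 1<|a 1<|a 1<|b)<|e)))));
 (let e:=(let e:=(let e:=(let e:=(d (a 9<|a 2<|a 2<|a 2<|a 1<|a 1<|a 1<|a 1<|b)<|d (a 9<|a 4<|a 1<|a 1<|a 1<|a 1<|a 1<|a 1<|b)<|d (a 10<|a 4<|a 4<|a 1<|b)<|d (a 9<|a 7<|a 2<|a 1<|b)<|d (a 10<|a 6<|a 2<|a 1<|b)<|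
 d (a 10<|a 3<|a 2<|a 2<|a 2<|b)<|d (a 7<|a 4<|a 4<|a 4<|b)<|e);
 (d (a 10<|a 4<|a 1<|a 1<|a 1<|a 1<|a 1<|b)<|
 d (a 8<|a 7<|a 1<|a 1<|a 1<|a 1<|b)<|d (a 11<|a 3<|a 2<|a 1<|a 1<|a 1<|b)<|d (a 11<|a 4<|a 3<|a 1<|b)<|d (a 10<|a 5<|a 1<|a 1<|a 1<|a 1<|b)<|d (a 11<|a 3<|a 2<|a 2<|a 1<|b)<|
 e));
 (let e:=(d (a 9<|a 7<|a 1<|a 1<|a 1<|b)<|d (a 10<|a 6<|a 1<|a 1<|a 1<|b)<|
 d (a 11<|a 4<|a 2<|a 2<|b)<|d (a 10<|a 2<|a 2<|a 2<|a 1<|a 1<|a 1<|b)<|d (a 9<|a 6<|a 4<|b)<|d (a 11<|a 5<|a 2<|a 1<|b)<|e);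
 (d (a 10<|a 5<|a 4<|b)<|d (a 10<|a 6<|a 3<|b)<|
 d (a 9<|a 2<|a 2<|a 2<|a 2<|a 2<|b)<|d (a 11<|a 3<|a 3<|a 2<|b)<|d (a 10<|a 3<|a 3<|a 3<|b)<|d (a 8<|a 7<|a 4<|b)<|e)));
 (let e:=(let e:=(d (a 11<|a 2<|a 2<|a 2<|a 1<|a 1<|b)<|d (a 10<|a 2<|a 2<|a 1<|a 1<|a 1<|a 1<|a 1<|b)<|d (a 10<|a 3<|a 1<|a 1<|a 1<|a 1<|a 1<|a 1<|b)<|
 d (a 11<|a 5<|a 1<|a 1<|a 1<|b)<|d (a 11<|a 4<|a 1<|a 1<|a 1<|a 1<|b)<|d (a 9<|a 3<|a 1<|a 1<|a 1<|a 1<|a 1<|a 1<|a 1<|b)<|e);
 (d (a 11<|a 3<|a 1<|a 1<|a 1<|a 1<|a 1<|b)<|d (a 11<|a 5<|a 3<|b)<|d (a 12<|a 4<|a 2<|a 1<|b)<|d (a 12<|a 3<|a 2<|a 1<|a 1<|b)<|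
 d (a 9<|a 5<|a 5<|b)<|d (a 6<|a 6<|a 6<|a 1<|b)<|e));
 (let e:=(d (a 8<|a 8<|a 3<|b)<|d (a 11<|a 6<|a 1<|a 1<|b)<|d (a 10<|a 7<|a 2<|b)<|d (a 10<|a 7<|a 1<|a 1<|b)<|
 d (a 11<|a 2<|a 2<|a 1<|a 1<|a 1<|a 1<|b)<|d (a 7<|a 7<|a 5<|b)<|e);
 (d (a 9<|a 8<|a 2<|b)<|d (a 7<|a 6<|a 6<|b)<|d (a 12<|a 4<|a 1<|a 1<|a 1<|b)<|
 d (a 12<|a 3<|a 3<|a 1<|b)<|d (a 12<|a 3<|a 2<|a 2<|b)<|d (a 11<|a 6<|a 2<|b)<|e))));
 (let e:=(let e:=(let e:=(d (a 12<|a 4<|a 3<|b)<|d (a 12<|a 5<|a 1<|a 1<|b)<|d (a 12<|a 2<|a 2<|a 2<|a 1<|b)<|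
 d (a 12<|a 2<|a 2<|a 1<|a 1<|a 1<|b)<|d (a 12<|a 3<|a 1<|a 1<|a 1<|a 1<|b)<|d (a 11<|a 4<|a 4<|b)<|e);
 (d (a 10<|a 8<|a 1<|b)<|d (a 11<|a 7<|a 1<|b)<|d (a 13<|a 3<|a 2<|a 1<|b)<|d (a 11<|a 2<|a 1<|a 1<|a 1<|a 1<|a 1<|a 1<|b)<|
 d (a 10<|a 2<|a 1<|a 1<|a 1<|a 1<|a 1<|a 1<|a 1<|b)<|d (a 12<|a 5<|a 2<|b)<|e));
 (let e:=(d (a 13<|a 2<|a 2<|a 2<|b)<|d (a 13<|a 2<|a 1<|a 1<|a 1<|a 1<|b)<|d (a 13<|a 4<|a 2<|b)<|d (a 13<|a 2<|a 2<|a 1<|a 1<|b)<|
 d (a 13<|a 4<|a 1<|a 1<|b)<|d (a 13<|a 3<|a 1<|a 1<|a 1<|b)<|e);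
 (d (a 14<|a 2<|a 2<|a 1<|b)<|d (a 11<|a 1<|a 1<|a 1<|a 1<|a 1<|a 1<|a 1<|a 1<|b)<|d (a 14<|a 3<|a 1<|a 1<|b)<|
 d (a 9<|a 9<|a 1<|b)<|d (a 13<|a 5<|a 1<|b)<|d (a 13<|a 3<|a 3<|b)<|e)));
 (let e:=(let e:=(d (a 10<|a 1<|a 1<|a 1<|a 1<|a 1<|a 1<|a 1<|a 1<|a 1<|b)<|d (a 11<|a 8<|b)<|d (a 12<|a 1<|a 1<|a 1<|a 1<|a 1<|a 1<|a 1<|b)<|
 d (a 14<|a 4<|a 1<|b)<|d (a 14<|a 2<|a 1<|a 1<|a 1<|b)<|d (a 14<|a 3<|a 2<|b)<|e);
 (d (a 15<|a 3<|a 1<|b)<|d (a 15<|a 2<|a 1<|a 1<|b)<|d (a 13<|a 6<|b)<|d (a 10<|a 9<|b)<|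
 d (a 13<|a 1<|a 1<|a 1<|a 1<|a 1<|a 1<|b)<|d (a 12<|a 7<|b)<|e));
 (let e:=(d (a 16<|a 2<|a 1<|b)<|d (a 15<|a 4<|b)<|d (a 15<|a 1<|a 1<|a 1<|a 1<|b)<|
 d (a 15<|a 2<|a 2<|b)<|d (a 14<|a 5<|b)<|d (a 14<|a 1<|a 1<|a 1<|a 1<|a 1<|b)<|e);
 (a (a 19<|b)<|a (a 18<|a 1<|b)<|a (a 17<|a 2<|b)<|a (a 17<|a 1<|a 1<|b)<|a (a 16<|a 3<|b)<|a (a 16<|a 1<|a 1<|a 1<|b)<|e)))))))
  | _ => []

/-- the largest degree of `A_n` -/
def maxA (n : ℕ) : ℕ := (degA n).getLastD 0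

/-- membership -/
def memb (d : ℕ) (l : List ℕ) : Bool := l.any fun x => Nat.beq x d

theorem memb_iff {d : ℕ} {l : List ℕ} : memb d l = true ↔ d ∈ l := by
  unfold memb
  rw [List.any_eq_true]
  constructor
  · rintro ⟨x, hx, h⟩
    rwa [← Nat.eq_of_beq_eq_true h]
  · intro h
    exact ⟨d, h, Nat.beq_refl d⟩

/-- weakly decreasing -/
def dec : List ℕ → Bool
  | [] => true
  | [a] => Nat.ble 1 a
  | a :: b :: l => Nat.ble b a && dec (b :: l)

theorem dec_spec : ∀ {l : List ℕ}, dec l = true → l.Pairwise (· ≥ ·) ∧ ∀ a ∈ l, 0 < a := by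
  intro l
  induction l with
  | nil => intro _; exact ⟨List.Pairwise.nil, by simp⟩
  | cons a l ih =>
    cases l with
    | nil =>
      intro h
      have h1 : 1 ≤ a := Nat.le_of_ble_eq_true h
      refine ⟨List.pairwise_singleton _ _, fun c hc => ?_⟩
      rw [List.mem_singleton.1 hc]
      exact h1
    | cons b l =>
      intro h
      rw [dec, Bool.and_eq_true] at h
      have h1 : b ≤ a := Nat.le_of_ble_eq_true h.1
      obtain ⟨h2, h3⟩ := ih h.2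
      refine ⟨List.pairwise_cons.2 ⟨fun c hc => ?_, h2⟩, fun c hc => ?_⟩
      · rcases List.mem_cons.1 hc with rfl | hc
        · exact h1
        · exact (List.rel_of_pairwise_cons h2 hc).trans h1
      · rcases List.mem_cons.1 hc with rfl | hc
        · exact (h3 b (by simp)).trans_le h1
        · exact h3 c hc

/-- the check of a partition with a degree -/
def wchk (n F : ℕ) (l : List ℕ) (d : ℕ) : Bool :=
  dec l && Nat.beq l.sum n && (if transpose l = l then Nat.beq (Nat.mul (Nat.mul 2 d) (hookProd l)) F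
    else Nat.beq (Nat.mul d (hookProd l)) F)

/-- the check of all partitions -/
def pchk (F : ℕ) (L : List ℕ) (l : List ℕ) (H : ℕ) : Bool :=
  if transpose l = l then memb (Nat.div (Nat.div F H) 2) L else memb (Nat.div F H) L

/-- the check for `n` -/
def achk (n F : ℕ) : Bool :=
  go (pchk F (degA n)) (n + 1) n 1 [] 1 && Nat.beq (wit n).length (degA n).length &&
    ((wit n).zip (degA n)).all (fun p => wchk n F p.1 p.2) && (degA n).all (fun d => Nat.ble d (maxA n)) &&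
    memb (maxA n) (degA n)

/-- statement A1 of S4766 -/
def A1St : Prop := ∀ {n : ℕ} (_ : 2 ≤ n) {l : List ℕ} (_ : IsPart l n) {d : ℕ} (_ : d * hookProd l = n.factorial),
    (transpose l ≠ l → d ∈ D n) ∧ (transpose l = l → ∃ e : ℕ, d = 2 * e ∧ e ∈ D n)

/-- statement A2 of S4766 -/
def A2St : Prop := ∀ {n : ℕ} (_ : 2 ≤ n) {d : ℕ} (_ : d ∈ D n),
    ∃ l : List ℕ, IsPart l n ∧ ((transpose l ≠ l ∧ d * hookProd l = n.factorial) ∨
      (transpose l = l ∧ 2 * d * hookProd l = n.factorial))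

theorem mem_of_achk (h1 : A1St) (h2 : A2St) {n F : ℕ} (hn : 2 ≤ n) (hF : n.factorial = F) (h : achk n F = true) {d : ℕ} :
    (d ∈ D n ↔ d ∈ degA n) ∧ (d ∈ D n → d ≤ maxA n) ∧ maxA n ∈ D n := by
  subst hF
  unfold achk at h
  rw [Bool.and_eq_true, Bool.and_eq_true, Bool.and_eq_true, Bool.and_eq_true] at h
  obtain ⟨⟨⟨⟨hgo, hlen⟩, hw⟩, hmax⟩, hmax'⟩ := h
  have hlen' := Nat.eq_of_beq_eq_true hlen
  have key1 : ∀ d, d ∈ D n → d ∈ degA n := by
    intro d hd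
    obtain ⟨l, hl, hcase⟩ := h2 hn hd
    have hc := check_of_isPart hgo hl
    have hpos : 0 < hookProd l := by
      apply Nat.pos_of_ne_zero
      intro h0
      rcases hcase with ⟨-, he⟩ | ⟨-, he⟩ <;> · rw [h0, mul_zero] at he; exact absurd he.symm (Nat.factorial_pos n).ne'
    unfold pchk at hc
    rcases hcase with ⟨ht, he⟩ | ⟨ht, he⟩
    · rw [if_neg ht, memb_iff] at hc
      have h3 : Nat.div n.factorial (hookProd l) = d := by
        rw [← he]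
        exact Nat.mul_div_cancel d hpos
      rwa [h3] at hc
    · rw [if_pos ht, memb_iff] at hc
      have h3 : Nat.div n.factorial (hookProd l) = 2 * d := by
        rw [← he]
        exact Nat.mul_div_cancel (2 * d) hpos
      have h4 : Nat.div (2 * d) 2 = d := Nat.mul_div_cancel_left d (by norm_num)
      rwa [h3, h4] at hc
  have key2 : ∀ d, d ∈ degA n → d ∈ D n := by
    intro d hd
    obtain ⟨i, hi, rfl⟩ := List.getElem_of_mem hd
    rw [List.all_eq_true] at hw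
    have hi' : i < (wit n).length := by omega
    have h3 := hw ((wit n)[i], (degA n)[i]) (by
      rw [List.mem_iff_getElem]
      exact ⟨i, by rw [List.length_zip]; omega, by rw [List.getElem_zip]⟩)
    unfold wchk at h3
    rw [Bool.and_eq_true, Bool.and_eq_true] at h3
    obtain ⟨⟨h4, h5⟩, h6⟩ := h3
    obtain ⟨h7, h8⟩ := dec_spec h4
    have hp : IsPart (wit n)[i] n := ⟨h7, h8, Nat.eq_of_beq_eq_true h5⟩
    dsimp only at h6
    split_ifs at h6 with ht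
    · have h9 : 2 * (degA n)[i] * hookProd (wit n)[i] = n.factorial := Nat.eq_of_beq_eq_true h6
      obtain ⟨e, he, he'⟩ := (h1 hn hp h9).2 ht
      have : (degA n)[i] = e := by omega
      rwa [this]
    · have h9 : (degA n)[i] * hookProd (wit n)[i] = n.factorial := Nat.eq_of_beq_eq_true h6
      exact (h1 hn hp h9).1 ht
  refine ⟨⟨key1 d, key2 d⟩, fun hd => ?_, key2 _ (memb_iff.1 hmax')⟩
  rw [List.all_eq_true] at hmax
  exact Nat.le_of_ble_eq_true (hmax d (key1 d hd))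

theorem achk5 : achk 5 120 = true := by decide +kernel

theorem achk6 : achk 6 720 = true := by decide +kernel

theorem achk7 : achk 7 5040 = true := by decide +kernel

theorem achk8 : achk 8 40320 = true := by decide +kernel

theorem achk9 : achk 9 362880 = true := by decide +kernel

theorem achk10 : achk 10 3628800 = true := by decide +kernel

theorem achk11 : achk 11 39916800 = true := by decide +kernel

theorem achk12 : achk 12 479001600 = true := by decide +kernel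

private noncomputable def _root_.Cfsg.Agent.LsF.f8b0a03_0 : {f // @Cfsg.Agent.H704.colLen = f} := ⟨_, by first | (delta Cfsg.Agent.H704.colLen; rewrite [Cfsg.Agent.LsF.decLt_eq, Cfsg.Agent.LsF.countP_eq, Cfsg.Agent.LsF.decide_eq]; exact rfl) | exact rfl⟩
private noncomputable def _root_.Cfsg.Agent.LsF.f8b0a03_3 : {f // @Cfsg.Agent.H704.transpose = f} := ⟨_, by first | (delta Cfsg.Agent.H704.transpose; rewrite [Cfsg.Agent.LsF.f8b0a03_0.2, Cfsg.Agent.LsF.map_eq, Cfsg.Agent.LsF.range_eq, Cfsg.Agent.LsF.headD_eq]; exact rfl) | exact rfl⟩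
private noncomputable def _root_.Cfsg.Agent.LsF.f8b0a03_4 : {f // @Cfsg.Agent.H835.AN.memb = f} := ⟨_, by first | (delta Cfsg.Agent.H835.AN.memb; rewrite [Cfsg.Agent.LsF.any_eq]; exact rfl) | exact rfl⟩
private noncomputable def _root_.Cfsg.Agent.LsF.f8b0a03_5 : {f // @Cfsg.Agent.H835.AN.pchk = f} := ⟨_, by first | (delta Cfsg.Agent.H835.AN.pchk; rewrite [Cfsg.Agent.LsF.f8b0a03_3.2, Cfsg.Agent.LsF.f8b0a03_4.2, Cfsg.Agent.LsF.instDecEq_eq, Cfsg.Agent.LsF.dListEq_eq, Cfsg.Agent.LsF.ite_eq]; exact rfl) | exact rfl⟩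
private noncomputable def _root_.Cfsg.Agent.LsF.f8b0a03_6 : {f // @Cfsg.Agent.H835.AN.degA = f} := ⟨_, by first | (delta Cfsg.Agent.H835.AN.degA; (try delta Cfsg.Agent.H835.AN.degA.match_1); (try rewrite [Cfsg.Agent.LsF.instDecEq_eq, Cfsg.Agent.LsF.dite_eq]); exact rfl) | exact rfl⟩
private noncomputable def _root_.Cfsg.Agent.LsF.f8b0a03_7 : {f // @Cfsg.Agent.H835.AN.wit = f} := ⟨_, by first | (delta Cfsg.Agent.H835.AN.wit; (try delta Cfsg.Agent.H835.AN.degA.match_1); (try rewrite [Cfsg.Agent.LsF.instDecEq_eq, Cfsg.Agent.LsF.dite_eq]); exact rfl) | exact rfl⟩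
private noncomputable def _root_.Cfsg.Agent.LsF.f8b0a03_8 : {f // @Cfsg.Agent.H835.AN.dec = f} := ⟨_, by first | (delta Cfsg.Agent.H835.AN.dec List.brecOn List.brecOn.go Cfsg.Agent.H835.AN.dec._f; rewrite [Cfsg.Agent.LsF.and_eq]; (try delta Cfsg.Agent.H835.AN.dec.match_1); (try delta List.casesOn); first | dsimp -zeta only | exact rfl) | exact rfl⟩
private noncomputable def _root_.Cfsg.Agent.LsF.f8b0a03_1 : {f // @Cfsg.Agent.H704.rowHook = f} := ⟨_, by first | (delta Cfsg.Agent.H704.rowHook; rewrite [Cfsg.Agent.LsF.f8b0a03_0.2, Cfsg.Agent.LsF.nadd_pat, Cfsg.Agent.LsF.nsub_pat, Cfsg.Agent.LsF.map_eq, Cfsg.Agent.LsF.range_eq, Cfsg.Agent.LsF.prod_eq]; exact rfl) | exact rfl⟩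
private noncomputable def _root_.Cfsg.Agent.LsF.f8b0a03_9 : {f // @Cfsg.Agent.H704.hookProd = f} := ⟨_, by first | (delta Cfsg.Agent.H704.hookProd List.brecOn List.brecOn.go Cfsg.Agent.H704.hookProd._f; rewrite [Cfsg.Agent.LsF.f8b0a03_1.2, Cfsg.Agent.LsF.nmul_pat]; (try delta Cfsg.Agent.H704.hookProd.match_1); (try delta List.casesOn); first | dsimp -zeta only | exact rfl) | exact rfl⟩
private noncomputable def _root_.Cfsg.Agent.LsF.f8b0a03_10 : {f // @Cfsg.Agent.H835.AN.wchk = f} := ⟨_, by first | (delta Cfsg.Agent.H835.AN.wchk; rewrite [Cfsg.Agent.LsF.f8b0a03_8.2, Cfsg.Agent.LsF.f8b0a03_3.2, Cfsg.Agent.LsF.f8b0a03_9.2, Cfsg.Agent.LsF.and_eq, Cfsg.Agent.LsF.instDecEq_eq, Cfsg.Agent.LsF.sum_eq, Cfsg.Agent.LsF.dListEq_eq, Cfsg.Agent.LsF.ite_eq]; exact rfl) | exact rfl⟩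
private noncomputable def _root_.Cfsg.Agent.LsF.f8b0a03_11 : {f // @Cfsg.Agent.H835.AN.maxA = f} := ⟨_, by first | (delta Cfsg.Agent.H835.AN.maxA List.getLast List.brecOn List.brecOn.go List.getLastD List.getLast._f; rewrite [Cfsg.Agent.LsF.f8b0a03_6.2]; (try delta List.getLastD.match_1); (try delta List.getLast.match_1); (try delta List.casesOn); first | dsimp -zeta only | exact rfl) | exact rfl⟩
private noncomputable def _root_.Cfsg.Agent.LsF.f8b0a03_12 : {f // @Cfsg.Agent.H835.AN.achk = f} := ⟨_, by first | (delta Cfsg.Agent.H835.AN.achk; rewrite [Cfsg.Agent.LsF.f8b0a03_5.2, Cfsg.Agent.LsF.f8b0a03_6.2, Cfsg.Agent.LsF.f8b0a03_7.2, Cfsg.Agent.LsF.f8b0a03_10.2, Cfsg.Agent.LsF.f8b0a03_11.2, Cfsg.Agent.LsF.f8b0a03_4.2, Cfsg.Agent.LsF.nadd_pat, Cfsg.Agent.LsF.and_eq, Cfsg.Agent.LsF.all_eq, Cfsg.Agent.LsF.zip_eq, Cfsg.Agent.LsF.length_eq]; exact rfl) | exact rfl⟩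
private theorem _root_.Cfsg.Agent.KO2982538.e0.{ku, kv} {α : Type kv} {M : List α → Sort ku} (φ : ∀ l, M l) {z : M List.nil} {s : ∀ a l, M l → M (List.cons a l)} (h0 : φ List.nil = z) (hs : ∀ a l, φ (List.cons a l) = s a l (φ l)) (l : List α) : φ l = @List.rec α M z s l := List.rec h0 (fun a l ih => (hs a l).trans (congrArg (s a l) ih)) l
private noncomputable def _root_.Cfsg.Agent.KO2982538.k2.{ku0} : type_of% @List.all.{ku0} := @(fun x0 x1 x2 => @List.rec.{(ku0+1), ku0} @x0 @(fun x3 => (@x0 → @Bool) → @Bool) @(fun x3 => @Bool.true) @(fun x3 x4 x5 x6 => @Bool.rec.{1} @(fun x7 => @Bool) @Bool.false (@x5 @x6) (@x6 @x3)) @x1 @x2)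
private theorem _root_.Cfsg.Agent.KO2982538.e2.{ku0} : @List.all.{ku0} = @_root_.Cfsg.Agent.KO2982538.k2.{ku0} := by delta _root_.Cfsg.Agent.KO2982538.k2; funext a0 a1 a2; refine (congrFun (_root_.Cfsg.Agent.KO2982538.e0 (fun a1 a2 => @List.all.{ku0} a0 a1 a2) ?_ (fun c0 c1 => ?_) a1) a2 :) <;> (rfl')
private noncomputable def _root_.Cfsg.Agent.KO2982538.k8.{ku0, ku1} : type_of% @List.foldr.{ku0, ku1} := @(fun x0 x1 x2 x3 x4 => @List.rec.{(ku1+1), ku0} @x0 @(fun x5 => @x1) @x3 @(fun x5 x6 x7 => @x2 @x5 @x7) @x4)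
private theorem _root_.Cfsg.Agent.KO2982538.e8.{ku0, ku1} : @List.foldr.{ku0, ku1} = @_root_.Cfsg.Agent.KO2982538.k8.{ku0, ku1} := by delta _root_.Cfsg.Agent.KO2982538.k8; funext a0 a1 a2 a3 a4; refine (_root_.Cfsg.Agent.KO2982538.e0 (fun a4 => @List.foldr.{ku0, ku1} a0 a1 a2 a3 a4) ?_ (fun c0 c1 => ?_) a4 :) <;> (rfl')
private noncomputable def _root_.Cfsg.Agent.KO2982538.k9.{ku0, ku1} : type_of% @List.map.{ku0, ku1} := @(fun x0 x1 x2 x3 => @List.rec.{(ku1+1), ku0} @x0 @(fun x4 => @List.{ku1} @x1) [] @(fun x4 x5 x6 => (@x2 @x4) :: @x6) @x3)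
private theorem _root_.Cfsg.Agent.KO2982538.e9.{ku0, ku1} : @List.map.{ku0, ku1} = @_root_.Cfsg.Agent.KO2982538.k9.{ku0, ku1} := by delta _root_.Cfsg.Agent.KO2982538.k9; funext a0 a1 a2 a3; refine (_root_.Cfsg.Agent.KO2982538.e0 (fun a3 => @List.map.{ku0, ku1} a0 a1 a2 a3) ?_ (fun c0 c1 => ?_) a3 :) <;> (rfl')
private noncomputable def _root_.Cfsg.Agent.KO2982538.oLe.{ku} (α : Sort ku) (a b : Nat) (f t : α) : α := @Decidable.rec (@LE.le Nat instLENat a b) (fun _ => α) (fun _ => f) (fun _ => t) (Nat.decLe a b)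
private noncomputable def _root_.Cfsg.Agent.KO2982538.k10.{ku} (α : Sort ku) (a b : Nat) (f t : α) : α := @Bool.rec (fun _ => α) f t (Nat.ble a b)
private theorem _root_.Cfsg.Agent.KO2982538.e10.{ku} : @_root_.Cfsg.Agent.KO2982538.oLe.{ku} = @_root_.Cfsg.Agent.KO2982538.k10.{ku} := funext fun α => funext fun a => funext fun b => funext fun f => funext fun t => by delta _root_.Cfsg.Agent.KO2982538.oLe _root_.Cfsg.Agent.KO2982538.k10; cases h : Nat.ble a b <;> cases Nat.decLe a b <;> rename_i g <;> first | rfl | exact absurd (h.symm.trans (Nat.ble_eq_true_of_le g)) Bool.false_ne_true | exact absurd (Nat.le_of_ble_eq_true h) g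
private noncomputable def _root_.Cfsg.Agent.KO2982538.k11.{ku0} : type_of% @List.countP.go.{ku0} := @(fun x0 x1 x2 x3 => @List.rec.{1, ku0} @x0 @(fun x4 => ℕ → ℕ) @(fun x4 => @x4) @(fun x4 x5 x6 x7 => @Bool.rec.{1} @(fun x8 => ℕ) (@x6 @x7) (@x6 (@Nat.add @x7 (nat_lit 1))) (@x1 @x4)) @x2 @x3)
private theorem _root_.Cfsg.Agent.KO2982538.e11.{ku0} : @List.countP.go.{ku0} = @_root_.Cfsg.Agent.KO2982538.k11.{ku0} := by delta _root_.Cfsg.Agent.KO2982538.k11; funext a0 a1 a2 a3; refine (congrFun (_root_.Cfsg.Agent.KO2982538.e0 (fun a2 a3 => @List.countP.go.{ku0} a0 a1 a2 a3) ?_ (fun c0 c1 => ?_) a2) a3 :) <;> (rfl')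
private noncomputable def _root_.Cfsg.Agent.KO2982538.k12 : (by first | exact type_of% @Cfsg.Agent.H704.colLen | exact Unit : Sort _) := by first | (refine @Subtype.val _ (fun g => @Cfsg.Agent.H704.colLen = @g) (@Subtype.mk _ _ (@(fun x0 x1 => @Cfsg.Agent.KO2982538.k11.{0} _ @(fun x2 => @Cfsg.Agent.KO2982538.k10.{1} @Bool (@Nat.succ @x1) @x2 @Bool.false @Bool.true) @x0 (nat_lit 0))) ?_); rewrite [← Cfsg.Agent.KO2982538.e10.{1}, ← Cfsg.Agent.KO2982538.e11.{0}]; rfl') | exact @Cfsg.Agent.H704.colLen | exact ()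
private theorem _root_.Cfsg.Agent.KO2982538.e12 : (by first | exact @Cfsg.Agent.H704.colLen = @_root_.Cfsg.Agent.KO2982538.k12 | exact True : Prop) := by first | (delta _root_.Cfsg.Agent.KO2982538.k12; exact @Subtype.property _ (fun g => @Cfsg.Agent.H704.colLen = @g) _) | rfl | trivial
private theorem _root_.Cfsg.Agent.KO2982538.e13.{ku} {M : Nat → Sort ku} (φ : ∀ n, M n) {z : M Nat.zero} {s : ∀ n, M n → M (Nat.succ n)} (h0 : φ Nat.zero = z) (hs : ∀ n, φ (Nat.succ n) = s n (φ n)) (n : Nat) : φ n = @Nat.rec M z s n := Nat.rec h0 (fun n ih => (hs n).trans (congrArg (s n) ih)) n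
private noncomputable def _root_.Cfsg.Agent.KO2982538.k14 : type_of% @List.range.loop := @(fun x0 x1 => @Nat.rec.{1} @(fun x2 => (@List.{0} ℕ) → @List.{0} ℕ) @(fun x2 => @x2) @(fun x2 x3 x4 => @x3 (@x2 :: @x4)) @x0 @x1)
private theorem _root_.Cfsg.Agent.KO2982538.e14 : @List.range.loop = @_root_.Cfsg.Agent.KO2982538.k14 := by delta _root_.Cfsg.Agent.KO2982538.k14; funext a0 a1; refine (congrFun (_root_.Cfsg.Agent.KO2982538.e13 (fun a0 a1 => @List.range.loop a0 a1) ?_ (fun c0 => ?_) a0) a1 :) <;> (rfl')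
private noncomputable def _root_.Cfsg.Agent.KO2982538.k15 : (by first | exact type_of% @Cfsg.Agent.H704.rowHook | exact Unit : Sort _) := by first | (refine @Subtype.val _ (fun g => @Cfsg.Agent.H704.rowHook = @g) (@Subtype.mk _ _ (@(fun x0 x1 => @Cfsg.Agent.KO2982538.k8.{0, 0} _ _ @(fun x2 x3 => @Nat.mul @x2 @x3) (nat_lit 1) (@Cfsg.Agent.KO2982538.k9.{0, 0} _ _ @(fun x2 => @Nat.add (@Nat.sub @x0 @x2) (@Cfsg.Agent.KO2982538.k12 @x1 @x2)) (@Cfsg.Agent.KO2982538.k14 @x0 [])))) ?_); rewrite [← Cfsg.Agent.KO2982538.e14, ← Cfsg.Agent.KO2982538.e12, ← Cfsg.Agent.KO2982538.e9.{0, 0}, ← Cfsg.Agent.KO2982538.e8.{0, 0}]; (try delta Cfsg.Agent.H704.rowHook); (try generalize @Cfsg.Agent.H704.colLen = g0); rfl') | exact @Cfsg.Agent.H704.rowHook | exact ()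
private theorem _root_.Cfsg.Agent.KO2982538.e15 : (by first | exact @Cfsg.Agent.H704.rowHook = @_root_.Cfsg.Agent.KO2982538.k15 | exact True : Prop) := by first | (delta _root_.Cfsg.Agent.KO2982538.k15; exact @Subtype.property _ (fun g => @Cfsg.Agent.H704.rowHook = @g) _) | rfl | trivial
private noncomputable def _root_.Cfsg.Agent.KO2982538.oEq.{ku} (α : Sort ku) (a b : Nat) (f t : α) : α := @Decidable.rec (a = b) (fun _ => α) (fun _ => f) (fun _ => t) (Nat.decEq a b)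
private noncomputable def _root_.Cfsg.Agent.KO2982538.k20.{ku} (α : Sort ku) (a b : Nat) (f t : α) : α := @Bool.rec (fun _ => α) f t (Nat.beq a b)
private theorem _root_.Cfsg.Agent.KO2982538.e20.{ku} : @_root_.Cfsg.Agent.KO2982538.oEq.{ku} = @_root_.Cfsg.Agent.KO2982538.k20.{ku} := funext fun α => funext fun a => funext fun b => funext fun f => funext fun t => by delta _root_.Cfsg.Agent.KO2982538.oEq _root_.Cfsg.Agent.KO2982538.k20; cases h : Nat.beq a b <;> cases Nat.decEq a b <;> rename_i g <;> first | rfl | exact absurd g (Nat.ne_of_beq_eq_false h) | exact absurd (Nat.eq_of_beq_eq_true h) g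
private noncomputable def _root_.Cfsg.Agent.KO2982538.k21 : (by first | exact type_of% @Cfsg.Agent.H704.go | exact Unit : Sort _) := by first | (refine @Subtype.val _ (fun g => @Cfsg.Agent.H704.go = @g) (@Subtype.mk _ _ (@(letI c0 := @Nat.sub; letI c1 := @Nat.add; @(fun x0 x1 x2 x3 x4 x5 => @Nat.rec.{1} @(fun x6 => ℕ → ℕ → (@List.{0} ℕ) → ℕ → @Bool) @(fun x6 x7 x8 x9 => @Bool.false) @(fun x6 x7 x8 x9 x10 x11 => @Cfsg.Agent.KO2982538.k20.{1} @Bool @x8 (nat_lit 0) (@Cfsg.Agent.KO2982538.k10.{1} @Bool (@Nat.succ @x8) @x9 (@Cfsg.Agent.KO2982538.k2.{0} _ (@Cfsg.Agent.KO2982538.k14 (@c0 (@c1 @x8 (nat_lit 1)) @x9) []) @(fun x12 => @x7 (@c0 @x8 (@c1 @x9 @x12)) (@c1 @x9 @x12) ((@c1 @x9 @x12) :: @x10) (@Nat.mul (@Cfsg.Agent.KO2982538.k15 (@c1 @x9 @x12) @x10) @x11))) @Bool.true) (@x0 @x10 @x11)) @x1 @x2 @x3 @x4 @x5))) ?_); rewrite [← Cfsg.Agent.KO2982538.e15, ← Cfsg.Agent.KO2982538.e14, ← Cfsg.Agent.KO2982538.e2.{0},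 ← Cfsg.Agent.KO2982538.e10.{1}, ← Cfsg.Agent.KO2982538.e20.{1}]; funext a0 a1 a2 a3 a4 a5; refine (congrFun (congrFun (congrFun (congrFun (_root_.Cfsg.Agent.KO2982538.e13 (fun a1 a2 a3 a4 a5 => @Cfsg.Agent.H704.go a0 a1 a2 a3 a4 a5) ?_ (fun c0 => ?_) a1) a2) a3) a4) a5 :) <;> ((try delta Cfsg.Agent.H704.go Cfsg.Agent.H704.go._f); (try generalize @Cfsg.Agent.H704.rowHook = g0); rfl')) | exact @Cfsg.Agent.H704.go | exact ()
private theorem _root_.Cfsg.Agent.KO2982538.e21 : (by first | exact @Cfsg.Agent.H704.go = @_root_.Cfsg.Agent.KO2982538.k21 | exact True : Prop) := by first | (delta _root_.Cfsg.Agent.KO2982538.k21; exact @Subtype.property _ (fun g => @Cfsg.Agent.H704.go = @g) _) | rfl | trivial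
private noncomputable def _root_.Cfsg.Agent.KO2982538.k25s : (by first | exact Subtype (fun g => @Subtype.val.{1} _ _ (@Cfsg.Agent.LsF.f8b0a03_11) = @g) | exact Unit : Sort _) := by first | (refine @Subtype.mk _ _ (@(letI c0 := @List.rec.{1, 0}; letI c1 := @List.rec.{2, 0}; letI c2 := @List.noConfusion.{0, 0}; letI c3 := @rfl.{2}; letI c4 := @heq_of_eq.{1}; letI c5 := @PProd.mk.{1, 1}; @(fun x0 => @c0 ℕ @(fun x1 => ℕ) (nat_lit 0) @(fun x1 x2 x3 => @c0 ℕ @(fun x4 => (@Ne.{1} _ (@x1 :: @x4) []) → (@PProd.{1, 1} ((@Ne.{1} _ @x4 []) → ℕ) (@c1 ℕ @(fun x6 => Type) @PUnit.{1} @(fun x6 x7 x8 => @PProd.{1, 1} ((@Ne.{1} _ @x7 []) → ℕ) @x8) @x4)) → ℕ) @(fun x4 x5 => @x1) @(fun x4 x5 x6 x7 x8 => ((@x8).1) @(fun (x9 : @Eq.{1} _ (@x4 :: @x5) []) => @c2 _ _ _ _ _ (@c3 _ _) (@c4 _ _ _ @x9))) @x2 (@List.getLast._proof_2.{0} _ @x1 @x2) (@c0 ℕ @(fun x4 => @PProd.{1, 1} ((@Ne.{1} _ @x4 []) → ℕ) (@c1 ℕ @(fun x5 => Type)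 @PUnit.{1} @(fun x5 x6 x7 => @PProd.{1, 1} ((@Ne.{1} _ @x6 []) → ℕ) @x7) @x4)) (@c5 _ _ @(fun x4 => @False.rec.{1} @(fun x5 => ℕ) (@x4 (@rfl.{1} _ _))) @PUnit.unit.{1}) @(fun x4 x5 x6 => @c5 _ _ @(fun x7 => @c0 ℕ @(fun x8 => (@Ne.{1} _ (@x4 :: @x8) []) → (@PProd.{1, 1} ((@Ne.{1} _ @x8 []) → ℕ) (@c1 ℕ @(fun x10 => Type) @PUnit.{1} @(fun x10 x11 x12 => @PProd.{1, 1} ((@Ne.{1} _ @x11 []) → ℕ) @x12) @x8)) → ℕ) @(fun x8 x9 => @x4) @(fun x8 x9 x10 x11 x12 => ((@x12).1) @(fun (x13 : @Eq.{1} _ (@x8 :: @x9) []) => @c2 _ _ _ _ _ (@c3 _ _) (@c4 _ _ _ @x13))) @x5 @x7 @x6) @x6) @x2)) (@Subtype.val.{1} _ @(fun x1 => @Eq.{1} _ @Cfsg.Agent.H835.AN.degA @x1) @Cfsg.Agent.LsF.f8b0a03_6 @x0)))) ?_; (try delta Cfsg.Agent.LsF.f8b0a03_11); (try generalize @Cfsg.Agent.H835.AN.degA = g0); (try generalize @Cfsg.Agent.LsF.f8b0a03_6 = g1); rfl') | exact ⟨_, rfl⟩ | exact ()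
private noncomputable def _root_.Cfsg.Agent.KO2982538.k25 : (by first | exact type_of% (@Subtype.val _ _ _root_.Cfsg.Agent.KO2982538.k25s) | exact Unit : Sort _) := by first | exact @Subtype.val _ _ _root_.Cfsg.Agent.KO2982538.k25s | exact ()
private theorem _root_.Cfsg.Agent.KO2982538.e25 : (by first | exact type_of% (show _ = @_root_.Cfsg.Agent.KO2982538.k25 from @Subtype.property _ _ _root_.Cfsg.Agent.KO2982538.k25s) | exact True : Prop) := by first | exact @Subtype.property _ _ _root_.Cfsg.Agent.KO2982538.k25s | trivial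
private noncomputable def _root_.Cfsg.Agent.KO2982538.k26s : (by first | exact Subtype (fun g => @Cfsg.Agent.LsF.prod (ℕ) _ _ = @g) | exact Unit : Sort _) := by first | (refine @Subtype.mk _ _ (@(fun x0 => @List.rec.{1, 0} ℕ @(fun x1 => ℕ) (nat_lit 1) @(fun x1 x2 x3 => @Nat.mul @x1 @x3) @x0)) ?_; (try delta Cfsg.Agent.LsF.prod); with_reducible_and_instances rfl) | exact ⟨_, rfl⟩ | exact ()
private noncomputable def _root_.Cfsg.Agent.KO2982538.k26 : (by first | exact type_of% (@Subtype.val _ _ _root_.Cfsg.Agent.KO2982538.k26s) | exact Unit : Sort _) := by first | exact @Subtype.val _ _ _root_.Cfsg.Agent.KO2982538.k26s | exact ()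
private theorem _root_.Cfsg.Agent.KO2982538.e26 : (by first | exact type_of% (show _ = @_root_.Cfsg.Agent.KO2982538.k26 from @Subtype.property _ _ _root_.Cfsg.Agent.KO2982538.k26s) | exact True : Prop) := by first | exact @Subtype.property _ _ _root_.Cfsg.Agent.KO2982538.k26s | trivial
private noncomputable def _root_.Cfsg.Agent.KO2982538.k27 : (by first | exact type_of% @Cfsg.Agent.LsF.countP | exact Unit : Sort _) := by first | (refine @Subtype.val _ (fun g => @Cfsg.Agent.LsF.countP = @g) (@Subtype.mk _ _ (@(fun x0 x1 x2 => @List.rec.{1, 0} @x0 @(fun x3 => ℕ) (nat_lit 0) @(fun x3 x4 x5 => @Bool.rec.{1} @(fun x6 => ℕ) @x5 (@Nat.succ @x5) (@x1 @x3)) @x2)) ?_); rfl') | exact @Cfsg.Agent.LsF.countP | exact ()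
private theorem _root_.Cfsg.Agent.KO2982538.e27 : (by first | exact @Cfsg.Agent.LsF.countP = @_root_.Cfsg.Agent.KO2982538.k27 | exact True : Prop) := by first | (delta _root_.Cfsg.Agent.KO2982538.k27; exact @Subtype.property _ (fun g => @Cfsg.Agent.LsF.countP = @g) _) | rfl | trivial
private noncomputable def _root_.Cfsg.Agent.KO2982538.k28s : (by first | exact Subtype (fun g => @Subtype.val.{1} _ _ (@Cfsg.Agent.LsF.f8b0a03_0) = @g) | exact Unit : Sort _) := by first | (refine @Subtype.mk _ _ (@(fun x0 x1 => @Cfsg.Agent.KO2982538.k27 _ @(fun x2 => @Decidable.rec.{1} _ @(fun x3 => @Bool) @(fun x3 => @Bool.false) @(fun x3 => @Bool.true) (@Cfsg.Agent.LsF.decLt @x1 @x2)) @x0)) ?_; rewrite [← Cfsg.Agent.KO2982538.e27]; (try delta Cfsg.Agent.LsF.f8b0a03_0 Cfsg.Agent.LsF.ldecide); with_reducible_and_instances rfl) | exact ⟨_, rfl⟩ | exact ()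
private noncomputable def _root_.Cfsg.Agent.KO2982538.k28 : (by first | exact type_of% (@Subtype.val _ _ _root_.Cfsg.Agent.KO2982538.k28s) | exact Unit : Sort _) := by first | exact @Subtype.val _ _ _root_.Cfsg.Agent.KO2982538.k28s | exact ()
private theorem _root_.Cfsg.Agent.KO2982538.e28 : (by first | exact type_of% (show _ = @_root_.Cfsg.Agent.KO2982538.k28 from @Subtype.property _ _ _root_.Cfsg.Agent.KO2982538.k28s) | exact True : Prop) := by first | exact @Subtype.property _ _ _root_.Cfsg.Agent.KO2982538.k28s | trivial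
private noncomputable def _root_.Cfsg.Agent.KO2982538.k29s : (by first | exact Subtype (fun g => @Subtype.val.{1} _ _ (@Cfsg.Agent.LsF.f8b0a03_1) = @g) | exact Unit : Sort _) := by first | (refine @Subtype.mk _ _ (@(fun x0 x1 => @Cfsg.Agent.KO2982538.k26 (@Cfsg.Agent.LsF.map _ _ @(fun x2 => @Nat.add (@Nat.sub @x0 @x2) (@Cfsg.Agent.KO2982538.k28 @x1 @x2)) (@Cfsg.Agent.LsF.range @x0)))) ?_; rewrite [← Cfsg.Agent.KO2982538.e26, ← Cfsg.Agent.KO2982538.e28]; (try delta Cfsg.Agent.LsF.f8b0a03_1); with_reducible_and_instances rfl) | exact ⟨_, rfl⟩ | exact ()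
private noncomputable def _root_.Cfsg.Agent.KO2982538.k29 : (by first | exact type_of% (@Subtype.val _ _ _root_.Cfsg.Agent.KO2982538.k29s) | exact Unit : Sort _) := by first | exact @Subtype.val _ _ _root_.Cfsg.Agent.KO2982538.k29s | exact ()
private theorem _root_.Cfsg.Agent.KO2982538.e29 : (by first | exact type_of% (show _ = @_root_.Cfsg.Agent.KO2982538.k29 from @Subtype.property _ _ _root_.Cfsg.Agent.KO2982538.k29s) | exact True : Prop) := by first | exact @Subtype.property _ _ _root_.Cfsg.Agent.KO2982538.k29s | trivial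
private noncomputable def _root_.Cfsg.Agent.KO2982538.k30s : (by first | exact Subtype (fun g => @Subtype.val.{1} _ _ (@Cfsg.Agent.LsF.f8b0a03_9) = @g) | exact Unit : Sort _) := by first | (refine @Subtype.mk _ _ (@(letI c0 := @PProd.mk.{1, 1}; @(fun x0 => (@List.rec.{1, 0} ℕ @(fun x1 => @PProd.{1, 1} ℕ (@List.rec.{2, 0} ℕ @(fun x2 => Type) @PUnit.{1} @(fun x2 x3 x4 => @PProd.{1, 1} ℕ @x4) @x1)) (@c0 _ _ (nat_lit 1) @PUnit.unit.{1}) @(fun x1 x2 x3 => @c0 _ _ (@Nat.mul (@Cfsg.Agent.KO2982538.k29 @x1 @x2) ((@x3).1)) @x3) @x0).1))) ?_; rewrite [← Cfsg.Agent.KO2982538.e29]; (try delta Cfsg.Agent.LsF.f8b0a03_9); with_reducible_and_instances rfl) | exact ⟨_, rfl⟩ | exact ()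
private noncomputable def _root_.Cfsg.Agent.KO2982538.k30 : (by first | exact type_of% (@Subtype.val _ _ _root_.Cfsg.Agent.KO2982538.k30s) | exact Unit : Sort _) := by first | exact @Subtype.val _ _ _root_.Cfsg.Agent.KO2982538.k30s | exact ()
private theorem _root_.Cfsg.Agent.KO2982538.e30 : (by first | exact type_of% (show _ = @_root_.Cfsg.Agent.KO2982538.k30 from @Subtype.property _ _ _root_.Cfsg.Agent.KO2982538.k30s) | exact True : Prop) := by first | exact @Subtype.property _ _ _root_.Cfsg.Agent.KO2982538.k30s | trivial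
private noncomputable def _root_.Cfsg.Agent.KO2982538.k31s : (by first | exact Subtype (fun g => @Subtype.val.{1} _ _ (@Cfsg.Agent.LsF.f8b0a03_3) = @g) | exact Unit : Sort _) := by first | (refine @Subtype.mk _ _ (@(fun x0 => @Cfsg.Agent.LsF.map _ _ (@Cfsg.Agent.KO2982538.k28 @x0) (@Cfsg.Agent.LsF.range (@Cfsg.Agent.LsF.headD _ @x0 (nat_lit 0))))) ?_; rewrite [← Cfsg.Agent.KO2982538.e28]; (try delta Cfsg.Agent.LsF.f8b0a03_3); with_reducible_and_instances rfl) | exact ⟨_, rfl⟩ | exact ()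
private noncomputable def _root_.Cfsg.Agent.KO2982538.k31 : (by first | exact type_of% (@Subtype.val _ _ _root_.Cfsg.Agent.KO2982538.k31s) | exact Unit : Sort _) := by first | exact @Subtype.val _ _ _root_.Cfsg.Agent.KO2982538.k31s | exact ()
private theorem _root_.Cfsg.Agent.KO2982538.e31 : (by first | exact type_of% (show _ = @_root_.Cfsg.Agent.KO2982538.k31 from @Subtype.property _ _ _root_.Cfsg.Agent.KO2982538.k31s) | exact True : Prop) := by first | exact @Subtype.property _ _ _root_.Cfsg.Agent.KO2982538.k31s | trivial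
private noncomputable def _root_.Cfsg.Agent.KO2982538.k32s : (by first | exact Subtype (fun g => @Cfsg.Agent.LsF.sum (ℕ) _ _ = @g) | exact Unit : Sort _) := by first | (refine @Subtype.mk _ _ (@(fun x0 => @List.rec.{1, 0} ℕ @(fun x1 => ℕ) (nat_lit 0) @(fun x1 x2 x3 => @Nat.add @x1 @x3) @x0)) ?_; (try delta Cfsg.Agent.LsF.sum); with_reducible_and_instances rfl) | exact ⟨_, rfl⟩ | exact ()
private noncomputable def _root_.Cfsg.Agent.KO2982538.k32 : (by first | exact type_of% (@Subtype.val _ _ _root_.Cfsg.Agent.KO2982538.k32s) | exact Unit : Sort _) := by first | exact @Subtype.val _ _ _root_.Cfsg.Agent.KO2982538.k32s | exact ()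
private theorem _root_.Cfsg.Agent.KO2982538.e32 : (by first | exact type_of% (show _ = @_root_.Cfsg.Agent.KO2982538.k32 from @Subtype.property _ _ _root_.Cfsg.Agent.KO2982538.k32s) | exact True : Prop) := by first | exact @Subtype.property _ _ _root_.Cfsg.Agent.KO2982538.k32s | trivial
private noncomputable def _root_.Cfsg.Agent.KO2982538.k33s : (by first | exact Subtype (fun g => @Subtype.val.{1} _ _ (@Cfsg.Agent.LsF.f8b0a03_8) = @g) | exact Unit : Sort _) := by first | (refine @Subtype.mk _ _ (@(letI c0 := @List.rec.{1, 0}; letI c1 := @List.rec.{2, 0}; letI c2 := @PProd.mk.{1, 1}; letI c3 := @Nat.ble; @(fun x0 => (@c0 ℕ @(fun x1 => @PProd.{1, 1} @Bool (@c1 ℕ @(fun x2 => Type) @PUnit.{1} @(fun x2 x3 x4 => @PProd.{1, 1} @Bool @x4) @x1)) (@c2 _ _ @Bool.true @PUnit.unit.{1}) @(fun x1 x2 x3 => @c2 _ _ (@c0 ℕ @(fun x4 => (@PProd.{1, 1} @Bool (@c1 ℕ @(fun x5 => Type) @PUnit.{1} @(fun x5 x6 x7 => @PProd.{1,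 1} @Bool @x7) @x4)) → @Bool) @(fun x4 => @c3 (nat_lit 1) @x1) @(fun x4 x5 x6 x7 => @Bool.rec.{1} @(fun x8 => @Bool) @Bool.false ((@x7).1) (@c3 @x4 @x1)) @x2 @x3) @x3) @x0).1))) ?_; (try delta Cfsg.Agent.LsF.f8b0a03_8 Cfsg.Agent.LsF.and); with_reducible_and_instances rfl) | exact ⟨_, rfl⟩ | exact ()
private noncomputable def _root_.Cfsg.Agent.KO2982538.k33 : (by first | exact type_of% (@Subtype.val _ _ _root_.Cfsg.Agent.KO2982538.k33s) | exact Unit : Sort _) := by first | exact @Subtype.val _ _ _root_.Cfsg.Agent.KO2982538.k33s | exact ()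
private theorem _root_.Cfsg.Agent.KO2982538.e33 : (by first | exact type_of% (show _ = @_root_.Cfsg.Agent.KO2982538.k33 from @Subtype.property _ _ _root_.Cfsg.Agent.KO2982538.k33s) | exact True : Prop) := by first | exact @Subtype.property _ _ _root_.Cfsg.Agent.KO2982538.k33s | trivial
private noncomputable def _root_.Cfsg.Agent.KO2982538.k34s : (by first | exact Subtype (fun g => @Subtype.val.{1} _ _ (@Cfsg.Agent.LsF.f8b0a03_10) = @g) | exact Unit : Sort _) := by first | (refine @Subtype.mk _ _ (@(letI c0 := @Bool.rec.{1}; letI c1 := @Bool.false; letI c2 := @Nat.beq; letI c3 := @Nat.mul; @(fun x0 x1 x2 x3 => @c0 @(fun x4 => @Bool) @c1 (@Decidable.rec.{1} _ @(fun x4 => @Bool) @(fun x4 => @c2 (@c3 @x3 (@Cfsg.Agent.KO2982538.k30 @x2)) @x1) @(fun x4 => @c2 (@c3 (@c3 (nat_lit 2) @x3) (@Cfsg.Agent.KO2982538.k30 @x2)) @x1) (@Cfsg.Agent.LsF.dListEq _ @Cfsg.Agent.LsF.decEq (@Cfsg.Agent.KO2982538.k31 @x2) @x2))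 (@c0 @(fun x4 => @Bool) @c1 (@c2 (@Cfsg.Agent.KO2982538.k32 @x2) @x0) (@Cfsg.Agent.KO2982538.k33 @x2))))) ?_; rewrite [← Cfsg.Agent.KO2982538.e32, ← Cfsg.Agent.KO2982538.e30, ← Cfsg.Agent.KO2982538.e33, ← Cfsg.Agent.KO2982538.e31]; (try delta Cfsg.Agent.LsF.f8b0a03_10 Cfsg.Agent.LsF.and Cfsg.Agent.LsF.lite); with_reducible_and_instances rfl) | exact ⟨_, rfl⟩ | exact ()
private noncomputable def _root_.Cfsg.Agent.KO2982538.k34 : (by first | exact type_of% (@Subtype.val _ _ _root_.Cfsg.Agent.KO2982538.k34s) | exact Unit : Sort _) := by first | exact @Subtype.val _ _ _root_.Cfsg.Agent.KO2982538.k34s | exact ()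
private theorem _root_.Cfsg.Agent.KO2982538.e34 : (by first | exact type_of% (show _ = @_root_.Cfsg.Agent.KO2982538.k34 from @Subtype.property _ _ _root_.Cfsg.Agent.KO2982538.k34s) | exact True : Prop) := by first | exact @Subtype.property _ _ _root_.Cfsg.Agent.KO2982538.k34s | trivial
private noncomputable def _root_.Cfsg.Agent.KO2982538.k35s : (by first | exact Subtype (fun g => @Subtype.val.{1} _ _ (@Cfsg.Agent.LsF.f8b0a03_5) = @g) | exact Unit : Sort _) := by first | (refine @Subtype.mk _ _ (@(letI c0 := @Subtype.val.{1}; letI c1 := @Cfsg.Agent.H835.AN.memb; letI c2 := @Cfsg.Agent.LsF.f8b0a03_4; letI c3 := @Nat.div; @(fun x0 x1 x2 x3 => @Decidable.rec.{1} _ @(fun x4 => @Bool) @(fun x4 => @c0 _ @(fun x5 => @Eq.{1} _ @c1 @x5) @c2 (@c3 @x0 @x3) @x1) @(fun x4 => @c0 _ @(fun x5 => @Eq.{1} _ @c1 @x5) @c2 (@c3 (@c3 @x0 @x3) (nat_lit 2)) @x1) (@Cfsg.Agent.LsF.dListEq _ @Cfsg.Agent.LsF.decEq (@Cfsg.Agent.KO2982538.k31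 @x2) @x2)))) ?_; rewrite [← Cfsg.Agent.KO2982538.e31]; (try delta Cfsg.Agent.LsF.f8b0a03_5 Cfsg.Agent.LsF.lite); with_reducible_and_instances rfl) | exact ⟨_, rfl⟩ | exact ()
private noncomputable def _root_.Cfsg.Agent.KO2982538.k35 : (by first | exact type_of% (@Subtype.val _ _ _root_.Cfsg.Agent.KO2982538.k35s) | exact Unit : Sort _) := by first | exact @Subtype.val _ _ _root_.Cfsg.Agent.KO2982538.k35s | exact ()
private theorem _root_.Cfsg.Agent.KO2982538.e35 : (by first | exact type_of% (show _ = @_root_.Cfsg.Agent.KO2982538.k35 from @Subtype.property _ _ _root_.Cfsg.Agent.KO2982538.k35s) | exact True : Prop) := by first | exact @Subtype.property _ _ _root_.Cfsg.Agent.KO2982538.k35s | trivial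
private noncomputable def _root_.Cfsg.Agent.KO2982538.k36 : (by first | exact type_of% @Cfsg.Agent.LsF.length | exact Unit : Sort _) := by first | (refine @Subtype.val _ (fun g => @Cfsg.Agent.LsF.length = @g) (@Subtype.mk _ _ (@(fun x0 x1 => @List.rec.{1, 0} @x0 @(fun x2 => ℕ) (nat_lit 0) @(fun x2 x3 x4 => @Nat.succ @x4) @x1)) ?_); rfl') | exact @Cfsg.Agent.LsF.length | exact ()
private theorem _root_.Cfsg.Agent.KO2982538.e36 : (by first | exact @Cfsg.Agent.LsF.length = @_root_.Cfsg.Agent.KO2982538.k36 | exact True : Prop) := by first | (delta _root_.Cfsg.Agent.KO2982538.k36; exact @Subtype.property _ (fun g => @Cfsg.Agent.LsF.length = @g) _) | rfl | trivial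
private noncomputable def _root_.Cfsg.Agent.KO2982538.k37s : (by first | exact Subtype (fun g => @Subtype.val.{1} _ _ (@Cfsg.Agent.LsF.f8b0a03_12) = @g) | exact Unit : Sort _) := by first | (refine @Subtype.mk _ _ (@(letI c0 := @Bool.rec.{1}; letI c1 := @Bool.false; letI c2 := @Subtype.val.{1}; letI c3 := @Cfsg.Agent.H835.AN.degA; letI c4 := @Cfsg.Agent.LsF.f8b0a03_6; letI c5 := @Cfsg.Agent.LsF.all; letI c6 := @Cfsg.Agent.H835.AN.wit; letI c7 := @Cfsg.Agent.LsF.f8b0a03_7; @(fun x0 x1 => @c0 @(fun x2 => @Bool) @c1 (@c2 _ @(fun x2 => @Eq.{1} _ @Cfsg.Agent.H835.AN.memb @x2) @Cfsg.Agent.LsF.f8b0a03_4 (@Cfsg.Agent.KO2982538.k25 @x0) (@c2 _ @(fun x2 => @Eq.{1} _ @c3 @x2) @c4 @x0)) (@c0 @(fun x2 => @Bool) @c1 (@c5 _ (@c2 _ @(fun x2 => @Eq.{1} _ @c3 @x2) @c4 @x0) @(fun x2 => @Nat.ble @x2 (@Cfsg.Agent.KO2982538.k25 @x0))) (@c0 @(fun x2 => @Bool) @c1 (@c5 _ (@Cfsg.Agent.LsF.zip _ _ (@c2 _ @(fun x2 => @Eq.{1}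 _ @c6 @x2) @c7 @x0) (@c2 _ @(fun x2 => @Eq.{1} _ @c3 @x2) @c4 @x0)) @(fun x2 => @Cfsg.Agent.KO2982538.k34 @x0 @x1 (@Prod.fst.{0, 0} _ _ @x2) (@Prod.snd.{0, 0} _ _ @x2))) (@c0 @(fun x2 => @Bool) @c1 (@Nat.beq (@Cfsg.Agent.KO2982538.k36 _ (@c2 _ @(fun x2 => @Eq.{1} _ @c6 @x2) @c7 @x0)) (@Cfsg.Agent.KO2982538.k36 _ (@c2 _ @(fun x2 => @Eq.{1} _ @c3 @x2) @c4 @x0))) (@Cfsg.Agent.KO2982538.k21 (@Cfsg.Agent.KO2982538.k35 @x1 (@c2 _ @(fun x2 => @Eq.{1} _ @c3 @x2) @c4 @x0)) (@Nat.add @x0 (nat_lit 1)) @x0 (nat_lit 1) [] (nat_lit 1)))))))) ?_; rewrite [← Cfsg.Agent.KO2982538.e21, ← Cfsg.Agent.KO2982538.e36, ← Cfsg.Agent.KO2982538.e25, ← Cfsg.Agent.KO2982538.e34, ← Cfsg.Agent.KO2982538.e35]; (try delta Cfsg.Agent.LsF.f8b0a03_12 Cfsg.Agent.LsF.and); with_reducible_and_instances rfl) | exact ⟨_, rfl⟩ | exact ()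
private noncomputable def _root_.Cfsg.Agent.KO2982538.k37 : (by first | exact type_of% (@Subtype.val _ _ _root_.Cfsg.Agent.KO2982538.k37s) | exact Unit : Sort _) := by first | exact @Subtype.val _ _ _root_.Cfsg.Agent.KO2982538.k37s | exact ()
private theorem _root_.Cfsg.Agent.KO2982538.e37 : (by first | exact type_of% (show _ = @_root_.Cfsg.Agent.KO2982538.k37 from @Subtype.property _ _ _root_.Cfsg.Agent.KO2982538.k37s) | exact True : Prop) := by first | exact @Subtype.property _ _ _root_.Cfsg.Agent.KO2982538.k37s | trivial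

theorem achk13 : achk 13 6227020800 = true := by ((try (rewrite [Cfsg.Agent.LsF.f8b0a03_12.2])); (first | (rewrite [Cfsg.Agent.KO2982538.e37]; decide +kernel) | decide +kernel))

theorem achk14 : achk 14 87178291200 = true := by ((try (rewrite [Cfsg.Agent.LsF.f8b0a03_12.2])); (first | (rewrite [Cfsg.Agent.KO2982538.e37]; decide +kernel) | decide +kernel))

theorem achk15 : achk 15 1307674368000 = true := by ((try (rewrite [Cfsg.Agent.LsF.f8b0a03_12.2])); (first | (rewrite [Cfsg.Agent.KO2982538.e37]; decide +kernel) | decide +kernel))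

theorem achk16 : achk 16 20922789888000 = true := by ((try (rewrite [Cfsg.Agent.LsF.f8b0a03_12.2])); (first | (rewrite [Cfsg.Agent.KO2982538.e37]; decide +kernel) | decide +kernel))

theorem achk17 : achk 17 355687428096000 = true := by ((try (rewrite [Cfsg.Agent.LsF.f8b0a03_12.2])); (first | (rewrite [Cfsg.Agent.KO2982538.e37]; decide +kernel) | decide +kernel))

theorem achk18 : achk 18 6402373705728000 = true := by ((try (rewrite [Cfsg.Agent.LsF.f8b0a03_12.2])); (first | (rewrite [Cfsg.Agent.KO2982538.e37]; decide +kernel) | decide +kernel))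

theorem achk19 : achk 19 121645100408832000 = true := by ((try (rewrite [Cfsg.Agent.LsF.f8b0a03_12.2])); (first | (rewrite [Cfsg.Agent.KO2982538.e37]; decide +kernel) | decide +kernel))

theorem achk_all {n : ℕ} (hn : 5 ≤ n) (hn' : n ≤ 19) : ∃ F, n.factorial = F ∧ achk n F = true := by
  interval_cases n
  · exact ⟨_, by norm_num [Nat.factorial], achk5⟩
  · exact ⟨_, by norm_num [Nat.factorial], achk6⟩
  · exact ⟨_, by norm_num [Nat.factorial], achk7⟩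
  · exact ⟨_, by norm_num [Nat.factorial], achk8⟩
  · exact ⟨_, by norm_num [Nat.factorial], achk9⟩
  · exact ⟨_, by norm_num [Nat.factorial], achk10⟩
  · exact ⟨_, by norm_num [Nat.factorial], achk11⟩
  · exact ⟨_, by norm_num [Nat.factorial], achk12⟩
  · exact ⟨_, by norm_num [Nat.factorial], achk13⟩
  · exact ⟨_, by norm_num [Nat.factorial], achk14⟩
  · exact ⟨_, by norm_num [Nat.factorial], achk15⟩
  · exact ⟨_, by norm_num [Nat.factorial], achk16⟩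
  · exact ⟨_, by norm_num [Nat.factorial], achk17⟩
  · exact ⟨_, by norm_num [Nat.factorial], achk18⟩
  · exact ⟨_, by norm_num [Nat.factorial], achk19⟩

/-- **The degrees of `A_n`, `5 ≤ n ≤ 19`** (from A1, A2) -/
theorem mem_D_iff_of (h1 : A1St) (h2 : A2St) {n : ℕ} (hn : 5 ≤ n) (hn' : n ≤ 19) {d : ℕ} : d ∈ D n ↔ d ∈ degA n := by
  obtain ⟨F, hF, h⟩ := achk_all hn hn'
  exact (mem_of_achk h1 h2 (by omega) hF h).1

end Cfsg.Agent.H835.AN

private theorem dce_24473e5fcd59 : _root_.True := by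
  try have : _root_.True := by simp only [_root_.Cfsg.Agent.H835.AN.dec.eq_3]
  try have : _root_.True := by simp only [_root_.Cfsg.Agent.H835.AN.dec.eq_def]
  try have : _root_.True := by simp only [_root_.Cfsg.Agent.H835.AN.dec.eq_2]
  try have : _root_.True := by simp only [_root_.Cfsg.Agent.H835.AN.dec.eq_1]
  exact _root_.True.intro
end

-- part: H89/AN/AOneTwo
section
set_option linter.all false
open scoped Cfsg.Agent.FastGrp

/-!
# S4766, pieces A1 and A2 (helper89): the degrees of the alternating groups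

From `H117.O1.AltDeg`.
-/

set_option autoImplicit false

namespace Cfsg.Agent.H89.AN

open Cfsg Cfsg.Agent.H691.AN Cfsg.Agent.H704 Cfsg.Agent.H117.O1

/-- A1 -/
theorem a1_mem {n : ℕ} (hn : 2 ≤ n) {l : List ℕ} (hl : IsPart l n) {d : ℕ} (hd : d * hookProd l = n.factorial) :
    (transpose l ≠ l → d ∈ D n) ∧ (transpose l = l → ∃ e : ℕ, d = 2 * e ∧ e ∈ D n) := by
  refine ⟨fun ht => mem_alt_of_ne hn hl ht hd, fun ht => ?_⟩
  obtain ⟨e, he, he'⟩ := exists_alt_deg hn hl ht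
  refine ⟨e, ?_, he⟩
  apply Nat.eq_of_mul_eq_mul_right (Nat.pos_of_ne_zero fun h0 => ?_) (hd.trans he'.symm)
  rw [h0, mul_zero] at hd
  exact Nat.factorial_ne_zero n hd.symm

/-- A2 -/
theorem a2_part {n : ℕ} (hn : 2 ≤ n) {d : ℕ} (hd : d ∈ D n) :
    ∃ l : List ℕ, IsPart l n ∧ ((transpose l ≠ l ∧ d * hookProd l = n.factorial) ∨
      (transpose l = l ∧ 2 * d * hookProd l = n.factorial)) := alt_deg hn hd

end Cfsg.Agent.H89.AN
end

-- part: H35/AN/A3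
section
prune_inst 0x30104541772212000004000222000095350001020060000021640142094dc34089420140460010100044b2801804002002100450400000000a00700000270729802ac200963c0f842e0009801105190c0000088000000000000080000000000020c410000
set_option linter.all false
open scoped Cfsg.Agent.FastGrp

-- part: H35/AN/Low
section
/-!
# The low degrees of `A_n`, `n ≥ 20` (S4766, A3; helper35)
-/

set_option autoImplicit false
set_option maxRecDepth 100000

namespace Cfsg.Agent.H35.AN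

open Cfsg Cfsg.Agent.H704 Cfsg.Agent.H704.DS Cfsg.Agent.H691.AN

/-- the degrees with at most three boxes outside the first row -/
def Low (n d : ℕ) : Prop :=
  d = 1 ∨ d = n - 1 ∨ 2 * d = n * (n - 3) ∨ 2 * d = (n - 1) * (n - 2) ∨ 6 * d = n * (n - 1) * (n - 5) ∨
      3 * d = n * (n - 2) * (n - 4) ∨ 6 * d = (n - 1) * (n - 2) * (n - 3)

theorem cancel {c a b x : ℕ} (hc : 0 < c) (h : c * a = x) (h' : x = c * b) : a = b :=
  Nat.eq_of_mul_eq_mul_left hc (h.trans h')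

theorem row_low {n : ℕ} (hn : 20 ≤ n) {l : List ℕ} {d : ℕ} (hl : IsPart l n) (he : d * hookProd l = n.factorial)
    (hh : n ≤ l.headD 0 + 3) : Low n d := by
  obtain ⟨hs, hp, hsum⟩ := hl
  cases l with
  | nil => rw [List.sum_nil] at hsum; omega
  | cons a μ =>
    rw [List.headD_cons] at hh
    rw [List.sum_cons] at hsum
    obtain ⟨y, rfl⟩ : ∃ y, a = y + 3 := ⟨a - 3, by omega⟩
    have hy := Nat.factorial_pos y
    have hps : ∀ x ∈ μ, 0 < x := fun x hx => hp x (List.mem_cons_of_mem _ hx)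
    have hsp := hs.of_cons
    have hsplit := Cfsg.Agent.H999.DS.rowHook_split (a := y + 3) hsp (by
      have hb : μ.headD 0 ≤ μ.sum := by
        cases μ with
        | nil => exact le_rfl
        | cons b μ => rw [List.headD_cons, List.sum_cons]; omega
      omega)
    rw [hookProd, hsplit] at he
    clear hs hsplit
    rcases μ with _ | ⟨b, _ | ⟨c, _ | ⟨e, _ | ⟨f, t⟩⟩⟩⟩
    · -- []
      left
      have h1 : n = y + 3 := by rw [← hsum]; rfl
      subst h1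
      have h2 : d * (y + 3).factorial = (y + 3).factorial := by
        refine Eq.trans ?_ he
        simp only [Cfsg.Agent.H999.DS.rowP, hookProd, _root_.List.headD_eq_head?_getD, _root_.List.head?_nil, _root_.Option.getD_none, _root_.List.range_zero, _root_.List.map_nil, _root_.List.prod_nil, _root_.tsub_zero, _root_.one_mul, _root_.mul_one]
      have h3 := Nat.factorial_pos (y + 3)
      exact Nat.eq_of_mul_eq_mul_right h3 (by rw [h2, one_mul])
    · -- [b]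
      simp only [List.sum_cons, List.sum_nil, add_zero] at hsum
      have hb0 : 0 < b := hps b (by simp)
      have hb3 : b ≤ 3 := by omega
      subst hsum
      interval_cases b
      · right; left
        refine cancel (c := (y + 4) * ((y + 2) * (y + 1) * y.factorial)) (by (clear * -; positivity)) ?_ (x := (y + 3 + 1).factorial) ?_
        · rw [← he]
          simp only [Cfsg.Agent.H999.DS.rowP, hookProd, rowHook, colLen, Nat.factorial_succ, _root_.List.countP_singleton, _root_.Order.lt_one_iff, _root_.decide_eq_true_eq, _root_.List.headD_eq_head?_getD, _root_.List.head?_cons, _root_.Option.getD_some, _root_.List.range_one, _root_.List.map_cons, _root_.tsub_zero, ↓ _root_.reduceIte, _root_.List.map_nil, _root_.List.prod_cons, _root_.List.prod_nil, _root_.mul_one, _root_.Nat.add_one_sub_one, _root_.List.countP_nil, _root_.add_zero]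
          ring
        · simp only [Nat.factorial_succ, _root_.add_tsub_cancel_right]
          ring
      · right; right; left
        refine cancel (c := (y + 4) * (y + 3) * ((y + 1) * y.factorial)) (by (clear * -; positivity)) ?_ (x := (y + 3 + 2).factorial) ?_
        · rw [← he]
          simp only [Cfsg.Agent.H999.DS.rowP, hookProd, rowHook, colLen, Nat.factorial_succ, List.range_succ, _root_.List.countP_singleton, _root_.Order.lt_two_iff, _root_.decide_eq_true_eq, _root_.List.headD_eq_head?_getD, _root_.List.head?_cons, _root_.Option.getD_some, _root_.List.range_zero, _root_.List.nil_append, _root_.List.cons_append, _root_.List.map_cons, _root_.tsub_zero, _root_.zero_le, ↓ _root_.reduceIte, _root_.Nat.add_one_sub_one, _root_.Std.le_refl, _root_.List.map_nil, _root_.List.prod_cons, _root_.List.prod_nil, _root_.mul_one, _root_.Nat.reduceSubDiff, _root_.List.countP_nil, _root_.add_zero]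
          ring
        · rw [show y + 3 + 2 - 3 = y + 2 by omega]
          simp [Nat.factorial_succ]
          ring
      · right; right; right; right; left
        refine cancel (c := (y + 4) * (y + 3) * (y + 2) * y.factorial) (by (clear * -; positivity)) ?_ (x := (y + 3 + 3).factorial) ?_
        · rw [← he]
          simp only [Cfsg.Agent.H999.DS.rowP, hookProd, rowHook, colLen, Nat.factorial_succ, List.range_succ, _root_.List.countP_singleton, _root_.decide_eq_true_eq, _root_.List.headD_eq_head?_getD, _root_.List.head?_cons, _root_.Option.getD_some, _root_.List.range_zero, _root_.List.nil_append, _root_.List.cons_append, _root_.List.map_cons, _root_.tsub_zero, _root_.Nat.ofNat_pos, ↓ _root_.reduceIte, _root_.Nat.add_one_sub_one, _root_.Nat.one_lt_ofNat, _root_.Nat.reduceSubDiff, _root_.Nat.lt_add_one, _root_.List.map_nil, _root_.List.prod_cons, _root_.List.prod_nil, _root_.mul_one, _root_.add_tsub_cancel_right,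 _root_.List.countP_nil, _root_.add_zero, _root_.Nat.reduceSub, _root_.Nat.reduceMul]
          ring
        · rw [show y + 3 + 3 - 1 = y + 5 by omega, show y + 3 + 3 - 5 = y + 1 by omega]
          simp [Nat.factorial_succ]
          ring
    · -- [b, c]
      simp only [List.sum_cons, List.sum_nil, add_zero] at hsum
      have hb0 : 0 < b := hps b (by simp)
      have hc0 : 0 < c := hps c (by simp)
      have hbc : c ≤ b := List.rel_of_pairwise_cons hsp (by simp)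
      have hb3 : b ≤ 2 := by omega
      have hc1 : c = 1 := by omega
      subst hc1
      subst hsum
      interval_cases b
      · right; right; right; left
        refine cancel (c := (y + 5) * ((y + 2) * (y + 1) * y.factorial)) (by (clear * -; positivity)) ?_
          (x := (y + 3 + (1 + 1)).factorial) ?_
        · rw [← he]
          simp only [Cfsg.Agent.H999.DS.rowP, hookProd, rowHook, colLen, Nat.factorial_succ, List.range_succ, _root_.List.headD_eq_head?_getD, _root_.List.head?_cons, _root_.Option.getD_some, _root_.List.range_zero, _root_.List.nil_append, _root_.List.map_cons, _root_.tsub_zero, _root_.Order.lt_one_iff, _root_.decide_true, _root_.List.countP_cons_of_pos, _root_.List.countP_nil, _root_.zero_add, _root_.Nat.reduceAdd, _root_.List.map_nil, _root_.List.prod_cons, _root_.List.prod_nil, _root_.mul_one, _root_.Nat.add_one_sub_one, _root_.List.countP_singleton, _root_.decide_eq_true_eq,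 ↓ _root_.reduceIte, _root_.add_zero]
          ring
        · rw [show y + 3 + (1 + 1) - 1 = y + 4 by omega, show y + 3 + (1 + 1) - 2 = y + 3 by omega]
          simp [Nat.factorial_succ]
          ring
      · right; right; right; right; right; left
        refine cancel (c := (y + 5) * (y + 3) * ((y + 1) * y.factorial)) (by (clear * -; positivity)) ?_
          (x := (y + 3 + (2 + 1)).factorial) ?_
        · rw [← he]
          simp only [Cfsg.Agent.H999.DS.rowP, hookProd, rowHook, colLen, Nat.factorial_succ, List.range_succ, _root_.List.headD_eq_head?_getD, _root_.List.head?_cons, _root_.Option.getD_some, _root_.List.range_zero, _root_.List.nil_append, _root_.List.cons_append, _root_.List.map_cons, _root_.tsub_zero, _root_.Order.lt_two_iff, _root_.zero_le, _root_.decide_true, _root_.List.countP_cons_of_pos, _root_.Order.lt_one_iff, _root_.List.countP_nil, _root_.zero_add, _root_.Nat.reduceAdd, _root_.Nat.add_one_sub_one,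 _root_.Std.le_refl, _root_.lt_self_iff_false, _root_.decide_false, _root_.Bool.false_eq_true, _root_.not_false_eq_true, _root_.List.countP_cons_of_neg, _root_.List.map_nil, _root_.List.prod_cons, _root_.List.prod_nil, _root_.mul_one, _root_.Nat.reduceSubDiff, _root_.List.countP_singleton, _root_.decide_eq_true_eq, ↓ _root_.reduceIte, _root_.one_ne_zero, _root_.add_zero]
          ring
        · rw [show y + 3 + (2 + 1) - 2 = y + 4 by omega, show y + 3 + (2 + 1) - 4 = y + 2 by omega]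
          simp [Nat.factorial_succ]
          ring
    · -- [b, c, e]
      simp only [List.sum_cons, List.sum_nil, add_zero] at hsum
      have hb0 : 0 < b := hps b (by simp)
      have hc0 : 0 < c := hps c (by simp)
      have he0 : 0 < e := hps e (by simp)
      obtain rfl : b = 1 := by omega
      obtain rfl : c = 1 := by omega
      obtain rfl : e = 1 := by omega
      subst hsum
      right; right; right; right; right; right
      refine cancel (c := (y + 6) * ((y + 2) * (y + 1) * y.factorial)) (by (clear * -; positivity)) ?_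
          (x := (y + 3 + (1 + (1 + 1))).factorial) ?_
      · rw [← he]
        simp only [Cfsg.Agent.H999.DS.rowP, hookProd, rowHook, colLen, Nat.factorial_succ, List.range_succ, _root_.List.headD_eq_head?_getD, _root_.List.head?_cons, _root_.Option.getD_some, _root_.List.range_zero, _root_.List.nil_append, _root_.List.map_cons, _root_.tsub_zero, _root_.Order.lt_one_iff, _root_.decide_true, _root_.List.countP_cons_of_pos, _root_.List.countP_nil, _root_.zero_add, _root_.Nat.reduceAdd, _root_.List.map_nil, _root_.List.prod_cons, _root_.List.prod_nil, _root_.mul_one, _root_.Nat.add_one_sub_one, _root_.List.countP_singleton, _root_.decide_eq_true_eq, ↓ _root_.reduceIte, _root_.add_zero, _root_.Nat.reduceMul]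
        ring
      · rw [show y + 3 + (1 + (1 + 1)) - 1 = y + 5 by omega, show y + 3 + (1 + (1 + 1)) - 2 = y + 4 by omega,
          show y + 3 + (1 + (1 + 1)) - 3 = y + 3 by omega]
        simp [Nat.factorial_succ]
        ring
    · exfalso
      simp only [List.sum_cons] at hsum
      have hb0 : 0 < b := hps b (by simp)
      have hc0 : 0 < c := hps c (by simp)
      have he0 : 0 < e := hps e (by simp)
      have hf0 : 0 < f := hps f (by simp)
      omega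

/-- the tables -/
def chk (n : ℕ) : Bool := Nat.blt ((n - 1) ^ 3) (2 * tg n 4) && Nat.blt ((n - 1) ^ 3) (tg n 8)

theorem chk_all : ((List.range 42).all fun i => chk (20 + i)) = true := by decide +kernel

theorem high {n : ℕ} (hn : 60 ≤ n) : LBs 1 4 n ((n - 1) ^ 3 + 1) := by
  refine lb_high (m := n) (by norm_num) hn le_rfl ?_
  obtain ⟨y, rfl⟩ := Nat.exists_eq_add_of_le hn
  have e1 : Rp 4 (60 + y) = (60 + y) * (59 + y) * (58 + y) * (53 + y) := by
    simp only [Rp]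
    rw [show 60 + y = (57 + y) + 1 + 1 + 1 by omega, Nat.succ_descFactorial_succ, Nat.succ_descFactorial_succ,
      Nat.succ_descFactorial_succ, Nat.descFactorial_zero, show 57 + y + 1 + 1 + 1 - 1 - 2 * 3 = 53 + y by omega]
    ring
  rw [e1, show 60 + y - 1 = 59 + y by omega, show Nat.factorial 4 = 24 from rfl, show wt 4 = 95 from rfl]
  nlinarith only [_root_.sq_nonneg (↑y : ℤ), _root_.Nat.cast_nonneg (α := ℤ) (y)]

/-- not few boxes outside the first row and column -/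
theorem lb4 {n : ℕ} (hn : 20 ≤ n) {l : List ℕ} {d : ℕ} (hl : IsPart l n) (he : d * hookProd l = n.factorial)
    (h1 : l.headD 0 + 4 ≤ n) (h2 : colLen l 0 + 4 ≤ n) : (n - 1) ^ 3 < 2 * d := by
  rcases Nat.lt_or_ge n 60 with h | h
  · have h3 := List.all_eq_true.1 chk_all (n - 20) (by rw [List.mem_range]; omega)
    rw [show 20 + (n - 20) = n by omega, chk, Bool.and_eq_true, Nat.blt_eq] at h3
    have h4 := lbt hn (by omega) (K := 4) (by norm_num) l d hl.sorted hl.sum he (by omega) (by omega)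
    omega
  · have h4 := high h l d hl.sorted hl.sum he (by omega) (by omega)
    omega

theorem lb8 {n : ℕ} (hn : 20 ≤ n) {l : List ℕ} {d : ℕ} (hl : IsPart l n) (he : d * hookProd l = n.factorial)
    (h1 : l.headD 0 + 8 ≤ n) (h2 : colLen l 0 + 8 ≤ n) : (n - 1) ^ 3 < d := by
  rcases Nat.lt_or_ge n 60 with h | h
  · have h3 := List.all_eq_true.1 chk_all (n - 20) (by rw [List.mem_range]; omega)
    rw [show 20 + (n - 20) = n by omega, chk, Bool.and_eq_true, Nat.blt_eq, Nat.blt_eq] at h3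
    have h4 := lbt hn (by omega) (K := 8) (by norm_num) l d hl.sorted hl.sum he (by omega) (by omega)
    omega
  · have h4 := high h l d hl.sorted hl.sum he (by omega) (by omega)
    omega

/-- all partitions -/
theorem part_low {n : ℕ} (hn : 20 ≤ n) {l : List ℕ} {d : ℕ} (hl : IsPart l n) (he : d * hookProd l = n.factorial) :
    Low n d ∨ (n - 1) ^ 3 < 2 * d := by
  by_cases h1 : n ≤ l.headD 0 + 3
  · exact Or.inl (row_low hn hl he h1)
  by_cases h2 : n ≤ colLen l 0 + 3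
  · refine Or.inl (row_low hn (isPart_transpose hl) (by rw [hookProd_transpose hl, he]) ?_)
    rwa [headD_eq_getD, getD_transpose hl.sorted]
  exact Or.inr (lb4 hn hl he (by omega) (by omega))

/-- self-conjugate partitions -/
theorem self_low {n : ℕ} (hn : 20 ≤ n) {l : List ℕ} {d : ℕ} (hl : IsPart l n) (hself : transpose l = l)
    (he : d * hookProd l = n.factorial) : (n - 1) ^ 3 < d := by
  have hpos : 0 < l.headD 0 := by
    by_contra h0
    have h1 := sum_eq_sum_colLen hl.sorted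
    rw [show l.headD 0 = 0 by omega, Finset.sum_range_zero, hl.sum] at h1
    omega
  have h1 := Cfsg.Agent.H999.DS.head_add_col_le hl.sorted hpos
  have h2 : colLen l 0 = l.headD 0 := by
    have h3 := getD_transpose hl.sorted 0
    rw [hself] at h3
    rw [headD_eq_getD, h3]
  rw [hl.sum] at h1
  exact lb8 hn hl he (by omega) (by omega)

/-- **A3**, from A2 -/
theorem a3_of {n : ℕ} (hn : 20 ≤ n)
    (a2 : ∀ {d : ℕ}, d ∈ D n → ∃ l : List ℕ, IsPart l n ∧ ((transpose l ≠ l ∧ d * hookProd l = n.factorial) ∨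
      (transpose l = l ∧ 2 * d * hookProd l = n.factorial))) {d : ℕ} (hd : d ∈ D n) :
    d = 1 ∨ d = n - 1 ∨ 2 * d = n * (n - 3) ∨ 2 * d = (n - 1) * (n - 2) ∨ 6 * d = n * (n - 1) * (n - 5) ∨
      3 * d = n * (n - 2) * (n - 4) ∨ 6 * d = (n - 1) * (n - 2) * (n - 3) ∨ (n - 1) ^ 3 < 2 * d := by
  obtain ⟨l, hl, ⟨-, h⟩ | ⟨h1, h⟩⟩ := a2 hd
  · rcases part_low hn hl h with h2 | h2
    · rcases h2 with h2 | h2 | h2 | h2 | h2 | h2 | h2
      · exact Or.inl h2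
      · exact Or.inr (Or.inl h2)
      · exact Or.inr (Or.inr (Or.inl h2))
      · exact Or.inr (Or.inr (Or.inr (Or.inl h2)))
      · exact Or.inr (Or.inr (Or.inr (Or.inr (Or.inl h2))))
      · exact Or.inr (Or.inr (Or.inr (Or.inr (Or.inr (Or.inl h2)))))
      · exact Or.inr (Or.inr (Or.inr (Or.inr (Or.inr (Or.inr (Or.inl h2))))))
    · exact Or.inr (Or.inr (Or.inr (Or.inr (Or.inr (Or.inr (Or.inr h2))))))
  · exact Or.inr (Or.inr (Or.inr (Or.inr (Or.inr (Or.inr (Or.inr (self_low hn hl h1 h)))))))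

end Cfsg.Agent.H35.AN
end

-- part: H35/AN/A3
section
/-!
# S4766, A3 (helper35)
-/

set_option autoImplicit false

namespace Cfsg.Agent.H35.AN

open Cfsg Cfsg.Agent.H691.AN

/-- **A3: low degrees** -/
theorem a3_low {n : ℕ} (hn : 20 ≤ n) {d : ℕ} (hd : d ∈ D n) :
    d = 1 ∨ d = n - 1 ∨ 2 * d = n * (n - 3) ∨ 2 * d = (n - 1) * (n - 2) ∨ 6 * d = n * (n - 1) * (n - 5) ∨
      3 * d = n * (n - 2) * (n - 4) ∨ 6 * d = (n - 1) * (n - 2) * (n - 3) ∨ (n - 1) ^ 3 < 2 * d :=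
  a3_of hn (fun hd => Cfsg.Agent.H89.AN.a2_part (by omega) hd) hd

end Cfsg.Agent.H35.AN
end

private theorem dce_63eb9ffe38d4 : _root_.True := by
  try have : _root_.True := by simp only [_root_.Cfsg.Agent.H35.AN.chk.eq_1]
  try have : _root_.True := by simp only [_root_.Cfsg.Agent.H999.DS.rowP.eq_1]
  try have : _root_.True := by simp only [_root_.Cfsg.Agent.H704.colLen.eq_1]
  exact _root_.True.intro
end

-- part: H71/AN/Deg
section
set_option linter.all false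
open scoped Cfsg.Agent.FastGrp

/-!
# S4766, pieces A4, A5, A6: degrees of the alternating groups (helper71)

From A1, A2 (the degrees of `A_n` in terms of partitions), as hypotheses `A1`, `A2`:

* `a4_of` : `n - 1`, `n (n - 3) / 2`, `(n - 1) (n - 2) / 2` are degrees of `A_n`, `7 ≤ n`;
* `a5_of` : a prime power degree is `n - 1`, `10 ≤ n`;
* `a6_of` : a degree is `1` or at least `n - 1`, `7 ≤ n`.
-/

set_option autoImplicit false
set_option linter.unusedSectionVars false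

namespace Cfsg.Agent.H71.AN

open Cfsg Cfsg.Agent.H691.AN Cfsg.Agent.H704

/-- the statement of A1 -/
def A1 : Prop := ∀ {n : ℕ}, 2 ≤ n → ∀ {l : List ℕ}, IsPart l n → ∀ {d : ℕ}, d * hookProd l = n.factorial →
    (transpose l ≠ l → d ∈ D n) ∧ (transpose l = l → ∃ e : ℕ, d = 2 * e ∧ e ∈ D n)

/-- the statement of A2 -/
def A2 : Prop := ∀ {n : ℕ}, 2 ≤ n → ∀ {d : ℕ}, d ∈ D n →
    ∃ l : List ℕ, IsPart l n ∧ ((transpose l ≠ l ∧ d * hookProd l = n.factorial) ∨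
      (transpose l = l ∧ 2 * d * hookProd l = n.factorial))

theorem headD_of_self {l : List ℕ} {n : ℕ} (hl : IsPart l n) (h : transpose l = l) : l.headD 0 = colLen l 0 := by
  have h1 : (transpose l).headD 0 = colLen l 0 := by rw [headD_eq_getD, getD_transpose hl.sorted]
  rwa [h] at h1

/-- the degree of a self-conjugate partition -/
theorem self_ge {n : ℕ} (hn : 9 ≤ n) {l : List ℕ} (hl : IsPart l n) (h : transpose l = l) {d : ℕ}
    (hd : d * hookProd l = n.factorial) : n * (n - 3) ≤ 2 * d := by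
  have h1 := headD_of_self hl h
  have h2 := headD_add_colLen_le hl.pos 0
  have h3 := hl.sum
  exact ld_all hn l d hl.sorted hl.sum hd (by omega) (by omega)

theorem self_seven {l : List ℕ} (hl : IsPart l 7) (h : transpose l = l) : 12 * hookProd l ≤ Nat.factorial 7 := by
  have := check_of_isPart (n := 7) (chk := fun l H => !(decide (transpose l = l)) ||
    decide (12 * H ≤ Nat.factorial 7)) (by decide +kernel) hl
  simpa [h] using this

theorem self_eight {l : List ℕ} (hl : IsPart l 8) (h : transpose l = l) : 14 * hookProd l ≤ Nat.factorial 8 := by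
  have := check_of_isPart (n := 8) (chk := fun l H => !(decide (transpose l = l)) ||
    decide (14 * H ≤ Nat.factorial 8)) (by decide +kernel) hl
  simpa [h] using this

theorem self_twelve {l : List ℕ} (hl : IsPart l 12) (h : transpose l = l) : 55 * hookProd l ≤ Nat.factorial 12 := by
  have := check_of_isPart (n := 12) (chk := fun l H => !(decide (transpose l = l)) ||
    decide (55 * H ≤ Nat.factorial 12)) (by decide +kernel) hl
  simpa [h] using this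

theorem le_of_mul_hook {l : List ℕ} (hl : Dec l) {n c d : ℕ} (h : c * hookProd l ≤ n.factorial)
    (hd : d * hookProd l = n.factorial) : c ≤ d := by
  rw [← hd] at h
  exact Nat.le_of_mul_le_mul_right h (hookProd_pos hl)

/-- **A6** -/
theorem a6_of (h2 : A2) {n : ℕ} (hn : 7 ≤ n) {d : ℕ} (hd : d ∈ D n) : d = 1 ∨ n - 1 ≤ d := by
  obtain ⟨l, hl, h | h⟩ := h2 (by omega) hd
  · have hdeg : IsDeg n d := ⟨l, hl, h.2⟩
    by_cases h9 : 9 ≤ n
    · rcases low_degree h9 hdeg with h3 | h3 | h3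
      · exact Or.inl h3
      · right; omega
      · right
        obtain ⟨m, rfl⟩ := Nat.exists_eq_add_of_le h9
        rw [show 9 + m - 3 = m + 6 by omega] at h3
        rw [show 9 + m - 1 = m + 8 by omega]
        nlinarith
    · obtain ⟨-, -, h7, h8, -⟩ := deg_small hdeg
      have h78 : n = 7 ∨ n = 8 := by omega
      rcases h78 with rfl | rfl
      · have h3 := h7 rfl
        simp only [List.mem_cons, List.not_mem_nil, or_false] at h3
        omega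
      · have h3 := h8 rfl
        simp only [List.mem_cons, List.not_mem_nil, or_false] at h3
        omega
  · obtain ⟨hs, h⟩ := h
    right
    by_cases h9 : 9 ≤ n
    · have h3 := self_ge h9 hl hs h
      obtain ⟨m, rfl⟩ := Nat.exists_eq_add_of_le h9
      rw [show 9 + m - 3 = m + 6 by omega] at h3
      rw [show 9 + m - 1 = m + 8 by omega]
      nlinarith
    · have h78 : n = 7 ∨ n = 8 := by omega
      rcases h78 with rfl | rfl
      · have := le_of_mul_hook hl.sorted (self_seven hl hs) h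
        omega
      · have := le_of_mul_hook hl.sorted (self_eight hl hs) h
        omega

/-- **A5** -/
theorem a5_of (h2 : A2) {n : ℕ} (hn : 10 ≤ n) {p k : ℕ} (hp : p.Prime) (hk : 0 < k) (h : p ^ k ∈ D n) :
    p ^ k = n - 1 := by
  obtain ⟨l, hl, h | h⟩ := h2 (by omega) h
  · rcases pp_theorem hn ⟨l, hl, h.2⟩ hp hk (Or.inl rfl) with h3 | ⟨rfl, h3⟩
    · exact h3
    · exfalso
      have h4 : (2 : ℕ) ∣ p ^ k := by rw [h3]; norm_num
      have h5 : (3 : ℕ) ∣ p ^ k := by rw [h3]; norm_num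
      have h6 := (Nat.prime_dvd_prime_iff_eq Nat.prime_two hp).1 (Nat.prime_two.dvd_of_dvd_pow h4)
      have h7 := (Nat.prime_dvd_prime_iff_eq Nat.prime_three hp).1 (Nat.prime_three.dvd_of_dvd_pow h5)
      omega
  · obtain ⟨hs, h⟩ := h
    exfalso
    have h3 := self_ge (by omega) hl hs h
    rcases pp_theorem hn ⟨l, hl, h⟩ hp hk (Or.inr rfl) with h4 | ⟨rfl, h4⟩
    · rw [h4] at h3
      obtain ⟨m, rfl⟩ := Nat.exists_eq_add_of_le hn
      rw [show 10 + m - 3 = m + 7 by omega, show 10 + m - 1 = m + 9 by omega] at h3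
      nlinarith
    · have h5 := le_of_mul_hook hl.sorted (self_twelve hl hs) h
      omega

/-! ### A4 -/

theorem isPart_one {n : ℕ} (hn : 7 ≤ n) : IsPart [n - 1, 1] n :=
  ⟨by simp; omega, by intro a ha; simp at ha; omega, by simp; omega⟩

theorem isPart_two {n : ℕ} (hn : 7 ≤ n) : IsPart [n - 2, 2] n :=
  ⟨by simp; omega, by intro a ha; simp at ha; omega, by simp; omega⟩

theorem isPart_three {n : ℕ} (hn : 7 ≤ n) : IsPart [n - 2, 1, 1] n :=
  ⟨by simp; omega, by intro a ha; simp at ha; omega, by simp; omega⟩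

theorem deg_one_row {n d : ℕ} (hn : 7 ≤ n) (hd : d * hookProd [n - 1, 1] = n.factorial) : d = n - 1 := by
  obtain ⟨m, rfl⟩ : ∃ m, n = m + 2 := ⟨n - 2, by omega⟩
  rw [show m + 2 - 1 = m + 1 by omega] at hd ⊢
  rw [hookProd, hookProd, hookProd, rowHook_nil, rowHook_one, Nat.factorial_one, mul_one, mul_one,
    Nat.factorial_succ, Nat.factorial_succ] at hd
  have h1 : 0 < (m + 2) * m.factorial := Nat.mul_pos (by omega) (Nat.factorial_pos m)
  apply Nat.eq_of_mul_eq_mul_right h1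
  rw [hd]
  ring

theorem transpose_ne {l : List ℕ} {n : ℕ} (hl : IsPart l n) (h : l.headD 0 ≠ colLen l 0) : transpose l ≠ l :=
  fun h1 => h (headD_of_self hl h1)

/-- **A4** -/
theorem a4_of (h1 : A1) {n : ℕ} (hn : 7 ≤ n) :
    n - 1 ∈ D n ∧ n * (n - 3) / 2 ∈ D n ∧ (n - 1) * (n - 2) / 2 ∈ D n := by
  refine ⟨?_, ?_, ?_⟩
  · have hl := isPart_one hn
    obtain ⟨d, -, hd⟩ := exists_deg hl.sorted hl.sum
    have h2 := (h1 (by omega) hl hd).1 (transpose_ne hl (by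
      rw [List.headD_cons, colLen_cons, colLen_cons, colLen_nil, if_pos (by omega), if_pos (by omega)]; omega))
    rwa [deg_one_row hn hd] at h2
  · have hl := isPart_two hn
    obtain ⟨d, -, hd⟩ := exists_deg hl.sorted hl.sum
    have h2 := (h1 (by omega) hl hd).1 (transpose_ne hl (by
      rw [List.headD_cons, colLen_cons, colLen_cons, colLen_nil, if_pos (by omega), if_pos (by omega)]; omega))
    have h3 := deg_two_row hn hl hd
    rwa [show n * (n - 3) / 2 = d by omega]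
  · have hl := isPart_three hn
    obtain ⟨d, -, hd⟩ := exists_deg hl.sorted hl.sum
    have h2 := (h1 (by omega) hl hd).1 (transpose_ne hl (by
      rw [List.headD_cons, colLen_cons, colLen_cons, colLen_cons, colLen_nil, if_pos (by omega), if_pos (by omega)]
      omega))
    have h3 := deg_three_row hn hl hd
    rwa [show (n - 1) * (n - 2) / 2 = d by omega]

end Cfsg.Agent.H71.AN
end

-- part: H212/AN/Socle_mg
section
prune_inst 0x100035450422000000000002000000042400010000600000010003400805030009000940440011120020a28000000020020004504000000000004000002002080028820010100c80020000001100180000000880000000000000800000000000008400000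
set_option linter.all false
open scoped Cfsg.Agent.FastGrp

-- part: H212/AN/Socle
section
/-!
# S4766, piece C3: the socle of `G / Sol(G)` (helper212)

`c3_socle` (inputs: the statements of C1 and C2).
-/

set_option autoImplicit false
set_option linter.unusedSectionVars false

namespace Cfsg.Agent.H212.AN

open Cfsg Cfsg.Agent.H691.AN Cfsg.Agent.Characters.Core
open Cfsg.Agent.H424.DegTools

universe u

variable {Y : Type u} [Group Y] [Finite Y]

/-- a nontrivial normal subgroup contains a minimal normal subgroup -/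
theorem exists_min (K : Subgroup Y) (hK : K.Normal) (hne : K ≠ ⊥) :
    ∃ W : Subgroup Y, W ≤ K ∧ W.Normal ∧ W ≠ ⊥ ∧ ∀ L : Subgroup Y, L.Normal → L ≤ W → L = ⊥ ∨ L = W := by
  obtain ⟨W, hW⟩ := (Set.toFinite {L : Subgroup Y | L.Normal ∧ L ≠ ⊥ ∧ L ≤ K}).exists_minimal ⟨K, hK, hne, le_rfl⟩
  refine ⟨W, hW.prop.2.2, hW.prop.1, hW.prop.2.1, fun L hL hLW => ?_⟩
  by_cases h : L = ⊥
  · exact Or.inl h
  · right
    exact le_antisymm hLW (hW.le_of_le ⟨hL, h, hLW.trans hW.prop.2.2⟩ hLW)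

theorem comm_of_degrees {G : Type u} [Group G] [Finite G] (h : ∀ d ∈ charDegrees G, d = 1) (a b : G) :
    a * b = b * a := by
  have h1 : ∀ a b : G, a * b = b * a := by
    rw [S0187.result]
    intro χ
    obtain ⟨n, hn⟩ := isCharacter_apply_one (isIrr_isCharacter χ.2)
    rw [hn, h n (mem_charDegrees.2 ⟨χ, χ.2, hn⟩), Nat.cast_one]
  exact h1 a b

/-- a nonabelian simple normal subgroup meets its centralizer trivially -/
theorem inf_cent {W : Subgroup Y} (hs : IsSimpleGroup W) (hna : ¬ IsMulCommutative W) :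
    W ⊓ Subgroup.centralizer (W : Set Y) = ⊥ := by
  have hz : Subgroup.center W = ⊥ := by
    rcases hs.eq_bot_or_eq_top_of_normal (Subgroup.center W) inferInstance with h | h
    · exact h
    · exfalso
      apply hna
      refine ⟨⟨fun a b => ?_⟩⟩
      have ha : b ∈ Subgroup.center W := by rw [h]; trivial
      exact Subgroup.mem_center_iff.1 ha a
  rw [eq_bot_iff]
  rintro x ⟨hx, hxc⟩
  have h1 : (⟨x, hx⟩ : W) ∈ Subgroup.center W := by
    rw [Subgroup.mem_center_iff]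
    intro g
    exact Subtype.ext (Subgroup.mem_centralizer_iff.1 hxc g g.2)
  rw [hz, Subgroup.mem_bot] at h1
  exact congrArg Subtype.val h1

section

variable {n : ℕ}
  (hC1 : ∀ {A : Type u} [Group A] [Finite A] {S : Subgroup A}, AlmostSimple A S → charDegrees A ⊆ D n →
    Nonempty (S ≃* An n))

include hC1

/-- a nonabelian simple normal subgroup is isomorphic to `A_n` -/
theorem equiv_of_simple (h : charDegrees Y ⊆ D n) {W : Subgroup Y} (hW : W.Normal) (hs : IsSimpleGroup W)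
    (hna : ¬ IsMulCommutative W) : Nonempty (W ≃* An n) := by
  set C : Subgroup Y := Subgroup.centralizer (W : Set Y) with hC
  have hCn : C.Normal := by rw [hC]; infer_instance
  have hinf : W ⊓ C = ⊥ := inf_cent hs hna
  let f : W →* W.map (QuotientGroup.mk' C) := (QuotientGroup.mk' C).subgroupMap W
  have hsurj : Function.Surjective f := (QuotientGroup.mk' C).subgroupMap_surjective W
  have hinj : Function.Injective f := by
    rw [injective_iff_map_eq_one]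
    intro x hx
    have h1 : (QuotientGroup.mk' C) (x : Y) = 1 := congrArg Subtype.val hx
    have h2 : (x : Y) ∈ C := (QuotientGroup.eq_one_iff _).1 h1
    have h3 : (x : Y) ∈ W ⊓ C := ⟨x.2, h2⟩
    rw [hinf, Subgroup.mem_bot] at h3
    exact Subtype.ext h3
  let e : W ≃* W.map (QuotientGroup.mk' C) := MulEquiv.ofBijective f ⟨hinj, hsurj⟩
  have hA : AlmostSimple (Y ⧸ C) (W.map (QuotientGroup.mk' C)) := by
    refine ⟨hW.map _ (QuotientGroup.mk'_surjective C), ?_, ?_, ?_⟩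
    · have : Nontrivial (W.map (QuotientGroup.mk' C)) := e.symm.toEquiv.nontrivial
      exact IsSimpleGroup.isSimpleGroup_of_surjective (f : W →* _) hsurj
    · intro hc
      apply hna
      refine ⟨⟨fun a b => e.injective ?_⟩⟩
      rw [map_mul, map_mul]
      exact hc.is_comm.comm _ _
    · rw [eq_bot_iff]
      intro x hx
      obtain ⟨y, rfl⟩ := QuotientGroup.mk'_surjective C x
      rw [Subgroup.mem_bot]
      refine (QuotientGroup.eq_one_iff _).2 ?_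
      rw [hC, Subgroup.mem_centralizer_iff]
      intro w hw
      have h1 := Subgroup.mem_centralizer_iff.1 hx _ ⟨w, hw, rfl⟩
      rw [← map_mul, ← map_mul, QuotientGroup.mk'_apply, QuotientGroup.mk'_apply, QuotientGroup.eq] at h1
      -- `(w y)⁻¹ (y w) ∈ C ⊓ W`
      have h2 : (w * y)⁻¹ * (y * w) ∈ W := by
        have h3 : (w * y)⁻¹ * (y * w) = y⁻¹ * w⁻¹ * y * w := by group
        rw [h3]
        refine W.mul_mem ?_ hw
        have := hW.conj_mem _ (W.inv_mem hw) y⁻¹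
        rwa [inv_inv] at this
      have h4 : (w * y)⁻¹ * (y * w) ∈ W ⊓ C := ⟨h2, h1⟩
      rw [hinf, Subgroup.mem_bot, inv_mul_eq_one] at h4
      exact h4
  obtain ⟨e'⟩ := hC1 hA ((charDegrees_of_surjective (QuotientGroup.mk' C) (QuotientGroup.mk'_surjective C)).trans h)
  exact ⟨e.trans e'⟩

/-- C3 -/
theorem c3_socle
    (hC2 : ∀ {Y : Type u} [Group Y] [Finite Y], charDegrees Y ⊆ D n → ∀ W : Subgroup Y, W.Normal → W ≠ ⊥ →
      (∀ K : Subgroup Y, K.Normal → K ≤ W → K = ⊥ ∨ K = W) → ¬ IsMulCommutative W → IsSimpleGroup W)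
    [Nontrivial Y] (h : charDegrees Y ⊆ D n)
    (hrad : ∀ K : Subgroup Y, K.Normal → Group.IsSolvable K → K = ⊥) :
    ∃ S : Subgroup Y, S.Normal ∧ Nonempty (S ≃* An n) ∧ Subgroup.centralizer (S : Set Y) = ⊥ := by
  have hnab : ∀ W : Subgroup Y, W.Normal → W ≠ ⊥ → ¬ IsMulCommutative W := by
    intro W hW hne hc
    exact hne (hrad W hW (Group.isSolvable_of_comm fun a b => hc.is_comm.comm a b))
  have key : ∀ K : Subgroup Y, K.Normal → K ≠ ⊥ → ∃ W : Subgroup Y, W ≤ K ∧ W.Normal ∧ IsSimpleGroup W ∧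
      ¬ IsMulCommutative W := by
    intro K hK hne
    obtain ⟨W, hWK, hW, hW0, hmin⟩ := exists_min K hK hne
    exact ⟨W, hWK, hW, hC2 h W hW hW0 hmin (hnab W hW hW0), hnab W hW hW0⟩
  obtain ⟨W, -, hW, hs, hna⟩ := key ⊤ inferInstance (by
    intro h1
    exact (Subgroup.nontrivial_iff_ne_bot ⊤).1 inferInstance h1)
  obtain ⟨e⟩ := equiv_of_simple hC1 h hW hs hna
  refine ⟨W, hW, ⟨e⟩, ?_⟩
  by_contra hC
  obtain ⟨W', hWC, hW', hs', hna'⟩ := key (Subgroup.centralizer (W : Set Y)) inferInstance hC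
  obtain ⟨e'⟩ := equiv_of_simple hC1 h hW' hs' hna'
  have hcomm : ∀ (a : W) (b : W'), Commute (a : Y) (b : Y) := by
    intro a b
    exact Subgroup.mem_centralizer_iff.1 (hWC b.2) a a.2
  have hinf : W ⊓ W' = ⊥ := by
    rw [eq_bot_iff, ← inf_cent hs hna]
    exact inf_le_inf_left _ hWC
  let f : W × W' →* Y := MonoidHom.noncommCoprod W.subtype W'.subtype hcomm
  have hf : ∀ q : W × W', f q = q.1 * q.2 := fun q => rfl
  have hinj : Function.Injective f := by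
    rw [injective_iff_map_eq_one]
    rintro ⟨a, b⟩ hq
    rw [hf] at hq
    have h1 : (a : Y) = (b : Y)⁻¹ := mul_eq_one_iff_eq_inv.1 hq
    have h2 : (a : Y) ∈ W ⊓ W' := ⟨a.2, by rw [h1]; exact W'.inv_mem b.2⟩
    rw [hinf, Subgroup.mem_bot] at h2
    have h3 : (b : Y) = 1 := by rw [h2, one_mul] at hq; exact hq
    exact Prod.ext (Subtype.ext h2) (Subtype.ext h3)
  have hn : f.range.Normal := by
    refine ⟨?_⟩
    rintro _ ⟨⟨a, b⟩, rfl⟩ g
    refine ⟨⟨⟨g * a * g⁻¹, hW.conj_mem _ a.2 g⟩, ⟨g * b * g⁻¹, hW'.conj_mem _ b.2 g⟩⟩, ?_⟩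
    rw [hf, hf]
    change g * a * g⁻¹ * (g * b * g⁻¹) = g * (a * b) * g⁻¹
    group
  -- the largest degree
  have hfin : (D n).Finite := by
    apply (Set.finite_Iic (Nat.card (An n))).subset
    intro d hd
    exact Nat.le_of_dvd Nat.card_pos (dvd_card hd)
  obtain ⟨b, hb⟩ := hfin.exists_maximal ⟨1, one_mem_degrees⟩
  have hb1 : b * b ∈ charDegrees f.range := by
    rw [← charDegrees_congr (((e.prodCongr e').symm).trans (MonoidHom.ofInjective hinj))]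
    exact mul_mem_prod hb.prop hb.prop
  obtain ⟨d, hd, hbd, -⟩ := clifford_up f.range hb1
  have hd' := h hd
  have hle := Nat.le_of_dvd (pos_of_mem hd') hbd
  have hb0 := pos_of_mem hb.prop
  have hdb : d ≤ b := hb.le_of_ge hd' (by nlinarith)
  have hb2 : b = 1 := by nlinarith
  apply hna
  refine ⟨⟨fun x y => e.injective ?_⟩⟩
  rw [map_mul, map_mul]
  refine comm_of_degrees (fun c hc => ?_) _ _
  have hc0 := pos_of_mem hc
  have := hb.le_of_ge hc (by omega)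
  omega

end

end Cfsg.Agent.H212.AN
end

-- part: H142/AN/E1
section
/-!
S4766, piece E1: a group with `cd(G) = cd(A_n)`, a normal subgroup `N ≅ A_n`, is `A_n × A`, `A` abelian.
-/

set_option autoImplicit false

namespace Cfsg.Agent.H142.AN

open Cfsg Cfsg.Agent.H691.AN Cfsg.Agent.Characters.Core Cfsg.Agent.H424.DegTools

universe u v

/-- all degrees are `1` : the group is abelian -/
theorem comm_of_degrees {G : Type u} [Group G] [Finite G] (h : ∀ d ∈ charDegrees G, d = 1) (a b : G) :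
    a * b = b * a := by
  classical
  have := finite_irr (G := G)
  have := Fintype.ofFinite (IrrCharacter G)
  have h1 := Cfsg.Agent.SmallSimple.DegreeData.sum_sq (G := G)
  have h2 : ∀ χ : IrrCharacter G, charDegree (χ : G → ℂ) ^ 2 = 1 := by
    intro χ
    rw [h _ ⟨χ, rfl⟩, one_pow]
  rw [Finset.sum_congr rfl (fun χ _ => h2 χ), Finset.sum_const, smul_eq_mul, mul_one, Finset.card_univ,
    ← Nat.card_eq_fintype_card, card_irr] at h1
  have h3 : commProb G = 1 := by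
    rw [commProb_def', h1, div_self]
    have : Nat.card G ≠ 0 := Nat.card_pos.ne'
    exact_mod_cast this
  have h4 := commProb_eq_one_iff.1 h3
  exact h4.is_comm.comm a b

/-- linear characters of subgroups of abelian groups extend -/
theorem exists_ext {Z : Type u} {A : Type v} [Group Z] [CommGroup A] [Finite A] (f : Z →* A)
    (hf : Function.Injective f) (l : Z →* ℂˣ) : ∃ m : A →* ℂˣ, ∀ z, m (f z) = l z := by
  have : NeZero ((Monoid.exponent A : ℕ) : ℂ) :=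
    ⟨Nat.cast_ne_zero.2 (Monoid.exponent_ne_zero_of_finite)⟩
  obtain ⟨m, hm⟩ := MonoidHom.domRestrict_surjective (G := A) ℂ f.range
    (l.comp (MonoidHom.ofInjective hf).symm.toMonoidHom)
  refine ⟨m, fun z => ?_⟩
  have h1 := DFunLike.congr_fun hm ⟨f z, z, rfl⟩
  have h2 : (MonoidHom.ofInjective hf).symm ⟨f z, z, rfl⟩ = z := by
    rw [MulEquiv.symm_apply_eq]
    rfl
  change m (f z) = l ((MonoidHom.ofInjective hf).symm ⟨f z, z, rfl⟩) at h1
  rw [h1, h2]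

/-- `G ↪ S × A`, `A` abelian, the first projection surjective: same degrees -/
theorem degrees_of_embed {G : Type u} {S : Type v} {A : Type*} [Group G] [Finite G] [Group S] [CommGroup A] [Finite A]
    (f₁ : G →* S) (hf₁ : Function.Surjective f₁) (f₂ : G →* A) (hinj : ∀ g, f₁ g = 1 → f₂ g = 1 → g = 1) :
    charDegrees G = charDegrees S := by
  classical
  refine Set.Subset.antisymm ?_ (charDegrees_of_surjective f₁ hf₁)
  intro d hd
  have := Fintype.ofFinite G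
  obtain ⟨χ, hχ, h1⟩ := mem_charDegrees.1 hd
  have hcen : f₁.ker ≤ Subgroup.center G := by
    intro z hz
    rw [Subgroup.mem_center_iff]
    intro g
    have h2 : g * z * g⁻¹ * z⁻¹ = 1 := by
      apply hinj
      · rw [map_mul, map_mul, map_mul, MonoidHom.mem_ker.1 hz, map_inv, map_inv, MonoidHom.mem_ker.1 hz]; group
      · rw [map_mul, map_mul, map_mul, map_inv, map_inv, mul_comm (f₂ g), mul_inv_cancel_right, mul_inv_cancel]
    have h3 : g * z = (g * z * g⁻¹ * z⁻¹) * (z * g) := by group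
    rw [h3, h2, one_mul]
  -- the central character
  have hχ1 : χ 1 ≠ 0 := isIrr_apply_one_ne_zero hχ
  have hω : ∀ z ∈ f₁.ker, ∀ g, χ (g * z) = χ z / χ 1 * χ g := by
    intro z hz g
    obtain ⟨w, -, hw⟩ := CharDeep.DegreeBound.exists_omega hχ (hcen hz)
    have h2 := hw 1
    rw [one_mul] at h2
    rw [h2, mul_div_assoc, div_self hχ1, mul_one, hw]
  let l₀ : f₁.ker →* ℂ :=
    { toFun := fun z => χ z / χ 1
      map_one' := by rw [OneMemClass.coe_one, div_self hχ1]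
      map_mul' := by
        intro x y
        rw [Subgroup.coe_mul, hω y y.2 x]
        field_simp }
  obtain ⟨m, hm⟩ := exists_ext (f₂.comp f₁.ker.subtype) (by
    rw [injective_iff_map_eq_one]
    intro z hz
    exact Subtype.ext (hinj z z.2 hz)) l₀.toHomUnits
  have hirr := OddOrderCharacters.InertiaAbelian.isIrr_mul_hom (m.comp f₂)⁻¹ hχ
  have hval : ∀ z : f₁.ker, (((m.comp f₂)⁻¹ (z : G) : ℂˣ) : ℂ) * χ z = χ 1 := by
    intro z
    have h2 : m (f₂ z) = l₀.toHomUnits z := hm z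
    have h3 : ((m (f₂ z) : ℂˣ) : ℂ) = χ z / χ 1 := by
      rw [h2]; rfl
    have h4 : ((m (f₂ z) : ℂˣ) : ℂ) ≠ 0 := (m (f₂ z)).ne_zero
    rw [MonoidHom.inv_apply, MonoidHom.comp_apply, Units.val_inv_eq_inv_val, h3]
    rw [h3] at h4
    have h5 : χ z ≠ 0 := by
      intro h6
      rw [h6, zero_div] at h4
      exact h4 rfl
    field_simp
  have : Fintype f₁.ker := Fintype.ofFinite _
  obtain ⟨χ', hχ'⟩ := Blocks.Deflate.exists_deflation f₁.ker _ hirr (by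
    rw [Finset.sum_congr rfl (fun z _ => hval z), Finset.sum_const, nsmul_eq_mul]
    refine mul_ne_zero ?_ hχ1
    rw [Finset.card_univ]
    exact Nat.cast_ne_zero.2 Fintype.card_ne_zero)
  have h5 : d ∈ charDegrees (G ⧸ f₁.ker) := by
    refine mem_charDegrees.2 ⟨χ', χ'.2, ?_⟩
    have h6 := congrFun hχ' 1
    have h7 := hval 1
    rw [OneMemClass.coe_one] at h7
    rw [h7] at h6
    rw [← h1, h6]
    rfl
  rwa [charDegrees_congr (QuotientGroup.quotientKerEquivOfSurjective f₁ hf₁)] at h5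

/-- a retraction onto a normal subgroup -/
theorem exists_prod {H : Type u} [Group H] [Finite H] (N : Subgroup H) [N.Normal] {S : Type v} [Group S] [Finite S]
    (p : H →* S) (hp : Function.Injective (p.comp N.subtype)) (hs : Function.Surjective (p.comp N.subtype)) :
    Nonempty (H ≃* S × (H ⧸ N)) := by
  have hinj : Function.Injective (p.prod (QuotientGroup.mk' N)) := by
    rw [injective_iff_map_eq_one]
    intro g hg
    have h1 : p g = 1 := congrArg Prod.fst hg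
    have h2 : (QuotientGroup.mk' N) g = 1 := congrArg Prod.snd hg
    have h3 : g ∈ N := (QuotientGroup.eq_one_iff g).1 h2
    have h4 := hp (a₁ := ⟨g, h3⟩) (a₂ := 1) (by rw [map_one]; exact h1)
    exact congrArg Subtype.val h4
  have hc : Nat.card H = Nat.card (S × (H ⧸ N)) := by
    rw [Nat.card_prod, Subgroup.card_eq_card_quotient_mul_card_subgroup N, mul_comm]
    congr 1
    exact Nat.card_congr (Equiv.ofBijective _ ⟨hp, hs⟩)
  exact ⟨MulEquiv.ofBijective _ ((Nat.bijective_iff_injective_and_card _).2 ⟨hinj, hc⟩)⟩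

/-- the largest degree -/
theorem exists_max {G : Type u} [Group G] [Finite G] : ∃ b ∈ charDegrees G, ∀ d ∈ charDegrees G, d ≤ b := by
  have hfin : (charDegrees G).Finite :=
    (Set.finite_Iic (Nat.card G)).subset fun d hd => Nat.le_of_dvd Nat.card_pos (dvd_card hd)
  obtain ⟨b, hb, hmax⟩ := hfin.exists_maximal ⟨1, one_mem_degrees⟩
  refine ⟨b, hb, fun d hd => ?_⟩
  by_contra hcon
  push Not at hcon
  exact absurd (hmax hd hcon.le) (not_le.2 hcon)

theorem alt_or_top {n : ℕ} (hn : 7 ≤ n) {K : Subgroup (Equiv.Perm (Fin n))} (hK : alternatingGroup (Fin n) ≤ K) :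
    K = alternatingGroup (Fin n) ∨ K = ⊤ := by
  have : Nontrivial (Fin n) := Fin.nontrivial_iff_two_le.2 (by omega)
  have h1 : (alternatingGroup (Fin n)).index = 2 := alternatingGroup.index_eq_two
  have h2 := Subgroup.relIndex_mul_index hK
  rw [h1] at h2
  have h3 : (alternatingGroup (Fin n)).relIndex K ∣ 2 := ⟨_, h2.symm⟩
  rcases (Nat.dvd_prime Nat.prime_two).1 h3 with h4 | h4
  · left
    exact le_antisymm (Subgroup.relIndex_eq_one.1 h4) hK
  · right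
    rw [h4] at h2
    exact Subgroup.index_eq_one.1 (by omega)

/-- the action on `N ≅ A_n` -/
theorem exists_pi {n : ℕ} (hn : 7 ≤ n) {G : Type u} [Group G] (N : Subgroup G) [N.Normal] (e : N ≃* An n) :
    ∃ π : G →* Equiv.Perm (Fin n), (∀ x : N, π x = (e x : Equiv.Perm (Fin n))) := by
  obtain ⟨ψ, hψ⟩ := StandardComponent.AltAut.exists_autHom n hn
  obtain ⟨m, rfl⟩ : ∃ m, n = m + 2 := ⟨n - 2, by omega⟩
  refine ⟨ψ.comp ((MulAut.congr e).toMonoidHom.comp MulAut.conjNormal), fun x => ?_⟩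
  apply StandardComponent.AltAut.conj_unique (m := m) (by omega)
  intro y
  have h1 := hψ (MulAut.congr e (MulAut.conjNormal (x : G))) y
  change (ψ (MulAut.congr e (MulAut.conjNormal (x : G)))) * y * (ψ (MulAut.congr e (MulAut.conjNormal (x : G))))⁻¹ = _
  rw [← h1]
  have h2 : (MulAut.congr e (MulAut.conjNormal (x : G))) y = e (x * e.symm y * x⁻¹) := by
    change e (MulAut.conjNormal (x : G) (e.symm y)) = _
    congr 1
  rw [h2, map_mul, map_mul, e.apply_symm_apply, map_inv]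
  rfl

/-- **E1** -/
theorem e1_end {n : ℕ} (hn : 7 ≤ n) (o1 : charDegrees (Equiv.Perm (Fin n)) ≠ D n)
    (a6 : ∀ d ∈ D n, d = 1 ∨ n - 1 ≤ d) {G : Type u} [Group G] [Finite G] (h : charDegrees G = D n)
    (N : Subgroup G) [N.Normal] (e : N ≃* An n) :
    ∃ (A : Type) (_ : CommGroup A), Nonempty (G ≃* (An n × A)) := by
  obtain ⟨π, hπ⟩ := exists_pi hn N e
  obtain ⟨b, hb, hmax⟩ := exists_max (G := An n)
  have hb0 := pos_of_mem hb
  have hle : alternatingGroup (Fin n) ≤ π.range := by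
    intro y hy
    refine ⟨(e.symm ⟨y, hy⟩ : N), ?_⟩
    rw [hπ, e.apply_symm_apply]
  have hinj : ∀ g, π g = 1 → (QuotientGroup.mk' N) g = 1 → g = 1 := by
    intro g h1 h2
    have h3 : g ∈ N := (QuotientGroup.eq_one_iff g).1 h2
    have h4 := hπ ⟨g, h3⟩
    rw [h1] at h4
    have h5 : e ⟨g, h3⟩ = 1 := Subtype.ext h4.symm
    have h6 := (map_eq_one_iff e e.injective).1 h5
    exact congrArg Subtype.val h6
  -- degrees of `X`, if `A_n × X` is involved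
  have hdeg : ∀ c : ℕ, (∃ d ∈ D n, b * c ∣ d) → 0 < c → c = 1 := by
    rintro c ⟨d, hd, hcd⟩ hc
    have h1 := Nat.le_of_dvd (pos_of_mem hd) hcd
    have h2 := h1.trans (hmax d hd)
    have h3 : c ≤ 1 := Nat.le_of_mul_le_mul_left (by rwa [mul_one]) hb0
    omega
  rcases alt_or_top hn hle with hr | hr
  · -- `G = N C(N)`
    have hpi : ∀ g, π g ∈ alternatingGroup (Fin n) := fun g => by rw [← hr]; exact ⟨g, rfl⟩
    obtain ⟨E⟩ := exists_prod N (π.codRestrict (alternatingGroup (Fin n)) hpi) (by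
      intro x y hxy
      apply e.injective
      apply Subtype.ext
      rw [← hπ, ← hπ]
      exact congrArg Subtype.val hxy) (by
      intro y
      refine ⟨e.symm y, Subtype.ext ?_⟩
      change π (e.symm y : N) = _
      rw [hπ, e.apply_symm_apply])
    have hcomm : ∀ x y : G ⧸ N, x * y = y * x := by
      apply comm_of_degrees
      intro c hc
      refine hdeg c ⟨b * c, ?_, dvd_rfl⟩ (pos_of_mem hc)
      rw [← h, charDegrees_congr E]
      exact mul_mem_prod hb hc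
    let i1 : CommGroup (G ⧸ N) := { (inferInstance : Group (G ⧸ N)) with mul_comm := hcomm }
    let i2 : CommGroup (Shrink.{0} (G ⧸ N)) := inferInstance
    exact ⟨Shrink.{0} (G ⧸ N), i2, ⟨E.trans ((MulEquiv.refl _).prodCongr Shrink.mulEquiv.symm)⟩⟩
  · exfalso
    have hsurj : Function.Surjective π := MonoidHom.range_eq_top.1 hr
    set H := (alternatingGroup (Fin n)).comap π with hH
    have hHn : H.Normal := by rw [hH]; infer_instance
    have : Nontrivial (Fin n) := Fin.nontrivial_iff_two_le.2 (by omega)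
    have hHi : H.index = 2 := by
      rw [hH, Subgroup.index_comap_of_surjective _ hsurj]
      exact alternatingGroup.index_eq_two
    have hNH : N ≤ H := by
      intro x hx
      rw [hH, Subgroup.mem_comap]
      have := hπ ⟨x, hx⟩
      rw [this]
      exact (e ⟨x, hx⟩).2
    obtain ⟨E⟩ := exists_prod (N.subgroupOf H) ((π.comp H.subtype).codRestrict (alternatingGroup (Fin n))
      fun g => g.2) (by
      rintro ⟨x, hx⟩ ⟨y, hy⟩ hxy
      have h1 : π x = π y := congrArg Subtype.val hxy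
      have h2 := hπ ⟨x, hx⟩
      have h3 := hπ ⟨y, hy⟩
      have h4 : e ⟨x, hx⟩ = e ⟨y, hy⟩ := by
        apply Subtype.ext
        rw [← h2, ← h3]
        exact h1
      have h5 := congrArg Subtype.val (e.injective h4)
      exact Subtype.ext (Subtype.ext h5)) (by
      intro y
      refine ⟨⟨⟨(e.symm y : N), hNH (e.symm y).2⟩, (e.symm y).2⟩, Subtype.ext ?_⟩
      change π (e.symm y : N) = _
      rw [hπ, e.apply_symm_apply])
    have hcommH : ∀ x y : H ⧸ N.subgroupOf H, x * y = y * x := by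
      apply comm_of_degrees
      intro c hc
      obtain ⟨d, hd, hd2, -⟩ := clifford_up H (c := b * c) (by
        rw [charDegrees_congr E]
        exact mul_mem_prod hb hc)
      rw [h] at hd
      exact hdeg c ⟨d, hd, hd2⟩ (pos_of_mem hc)
    have hcomm : ∀ x y : G ⧸ N, x * y = y * x := by
      apply comm_of_degrees
      intro c hc
      have h1 : c ∈ D n := by
        rw [← h]
        exact charDegrees_of_surjective (QuotientGroup.mk' N) (QuotientGroup.mk'_surjective N) hc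
      have h2 : c ∣ (H.map (QuotientGroup.mk' N)).index := by
        have : (H.map (QuotientGroup.mk' N)).Normal := hHn.map _ (QuotientGroup.mk'_surjective N)
        refine ito hc _ ?_
        rintro _ ⟨x, hx, rfl⟩ _ ⟨y, hy, rfl⟩
        have h3 := hcommH (QuotientGroup.mk (⟨x, hx⟩ : H)) (QuotientGroup.mk (⟨y, hy⟩ : H))
        rw [← QuotientGroup.mk_mul, ← QuotientGroup.mk_mul, QuotientGroup.eq] at h3
        rw [← map_mul, ← map_mul]
        exact QuotientGroup.eq.2 h3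
      have h3 : (H.map (QuotientGroup.mk' N)).index ∣ 2 := by
        rw [← hHi]
        exact Subgroup.index_map_dvd _ (QuotientGroup.mk'_surjective N)
      have h4 := Nat.le_of_dvd (by norm_num) (h2.trans h3)
      rcases a6 c h1 with h5 | h5
      · exact h5
      · omega
    let i1 : CommGroup (G ⧸ N) := { (inferInstance : Group (G ⧸ N)) with mul_comm := hcomm }
    exact o1 (by rw [← h, degrees_of_embed π hsurj (QuotientGroup.mk' N) hinj])

end Cfsg.Agent.H142.AN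
end
end

-- part: H691/AN/Frame
section
set_option linter.all false
open scoped Cfsg.Agent.FastGrp

/-!
# S4766: the frame (helper691)

`G` with `charDegrees G = D n`, not solvable; the socle of `G / Sol(G)` is `A_n`; no chief factor below `A_n`: then `G` has
a normal subgroup isomorphic to `A_n` with solvable quotient.
-/

set_option autoImplicit false

namespace Cfsg.Agent.H691.AN

open Cfsg Cfsg.Agent.H681.DegBasic Cfsg.Agent.H686.CharKit
open scoped commutatorElement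

universe u

/-- there is no abelian chief factor below `A_n` -/
def NoChief (n : ℕ) : Prop :=
  ∀ {G : Type u} [Group G] [Finite G], charDegrees G ⊆ D n → ∀ (N V : Subgroup G) [N.Normal] [V.Normal], V ≤ N →
    ((N ⧸ V.subgroupOf N) ≃* An n) → ⁅N, N⁆ = N → ⁅V, V⁆ = ⊥ → V ≠ ⊥ →
    (∀ K : Subgroup G, K.Normal → K ≤ V → K = ⊥ ∨ K = V) → False

/-- a maximal normal subgroup of `G` properly contained in `M` -/
theorem exists_max_normal {G : Type u} [Group G] [Finite G] {M : Subgroup G} (hM : M ≠ ⊥) :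
    ∃ K : Subgroup G, K.Normal ∧ K < M ∧ ∀ L : Subgroup G, L.Normal → K ≤ L → L ≤ M → L = K ∨ L = M := by
  classical
  have hfin : (Set.univ : Set (Subgroup G)).Finite := Set.toFinite _
  obtain ⟨K, ⟨hK1, hK2⟩, hK3⟩ := (hfin.subset (Set.subset_univ {K : Subgroup G | K.Normal ∧ K < M})).exists_maximal
    ⟨⊥, inferInstance, bot_lt_iff_ne_bot.2 hM⟩
  refine ⟨K, hK1, hK2, fun L hL hKL hLM => ?_⟩
  by_cases h : L = M
  · exact Or.inr h
  · left
    exact le_antisymm (hK3 ⟨hL, lt_of_le_of_ne hLM h⟩ hKL) hKL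

theorem map_commutator_eq {G H : Type*} [Group G] [Group H] (f : G →* H) {N : Subgroup G} (h : ⁅N, N⁆ = N) :
    ⁅N.map f, N.map f⁆ = N.map f := by
  rw [← Subgroup.map_commutator, h]

/-- `(N / K) / (V / K) ≃ N / V` -/
theorem exists_equiv {G : Type u} [Group G] {N V K : Subgroup G} [N.Normal] [V.Normal] [K.Normal] (hKV : K ≤ V)
    (_hVN : V ≤ N) : Nonempty ((N.map (QuotientGroup.mk' K) ⧸ (V.map (QuotientGroup.mk' K)).subgroupOf
      (N.map (QuotientGroup.mk' K))) ≃* (N ⧸ V.subgroupOf N)) := by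
  have hn : (V.map (QuotientGroup.mk' K)).Normal := Subgroup.Normal.map inferInstance _ (QuotientGroup.mk'_surjective K)
  have hn' : ((V.map (QuotientGroup.mk' K)).subgroupOf (N.map (QuotientGroup.mk' K))).Normal := inferInstance
  let f : N →* N.map (QuotientGroup.mk' K) := (QuotientGroup.mk' K).subgroupMap N
  have hf : Function.Surjective f := (QuotientGroup.mk' K).subgroupMap_surjective N
  let g : N →* (N.map (QuotientGroup.mk' K) ⧸ (V.map (QuotientGroup.mk' K)).subgroupOf (N.map (QuotientGroup.mk' K))) :=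
    (QuotientGroup.mk' _).comp f
  have hg : Function.Surjective g := (QuotientGroup.mk'_surjective _).comp hf
  have hker : g.ker = V.subgroupOf N := by
    ext x
    rw [MonoidHom.mem_ker, MonoidHom.comp_apply, QuotientGroup.mk'_apply, QuotientGroup.eq_one_iff,
      Subgroup.mem_subgroupOf, Subgroup.mem_subgroupOf]
    constructor
    · rintro ⟨v, hv, hvx⟩
      have h1 : (QuotientGroup.mk' K) v = (QuotientGroup.mk' K) (x : G) := hvx
      have h2 : v⁻¹ * (x : G) ∈ K := QuotientGroup.eq.1 h1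
      have h3 : (x : G) = v * (v⁻¹ * (x : G)) := by group
      rw [h3]
      exact V.mul_mem hv (hKV h2)
    · intro hx
      exact ⟨x, hx, rfl⟩
  exact ⟨((QuotientGroup.quotientMulEquivOfEq hker).symm.trans
    (QuotientGroup.quotientKerEquivOfSurjective g hg)).symm⟩

/-- a perfect solvable subgroup is trivial -/
theorem eq_bot_of_perfect {G : Type*} [Group G] {M : Subgroup G} (h1 : ⁅M, M⁆ = M) (hs : Group.IsSolvable M) :
    M = ⊥ := by
  obtain ⟨k, hk⟩ := hs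
  have h0 : commutator M = ⊤ := by
    have h3 : (commutator M).map M.subtype = M := by
      rw [Subgroup.map_subtype_commutator, h1]
    rw [eq_top_iff]
    intro x _
    have h4 : (x : G) ∈ (commutator M).map M.subtype := by rw [h3]; exact x.2
    obtain ⟨y, hy, hyx⟩ := h4
    have : y = x := Subtype.ext hyx
    rwa [← this]
  have h2 : ∀ j, derivedSeries M j = ⊤ := by
    intro j
    induction j with
    | zero => rfl
    | succ j ih => rw [derivedSeries_succ, ih]; exact h0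
  rw [h2 k] at hk
  rw [eq_bot_iff]
  intro x hx
  have h4 : (⟨x, hx⟩ : M) ∈ (⊤ : Subgroup M) := Subgroup.mem_top _
  rw [hk, Subgroup.mem_bot] at h4
  exact Subgroup.mem_bot.2 (congrArg Subtype.val h4)

/-- **The kernel is trivial.** -/
theorem kernel_trivial {n : ℕ} (hNC : NoChief.{u} n) {G : Type u} [Group G] [Finite G] (h : charDegrees G ⊆ D n)
    (N M : Subgroup G) [hN : N.Normal] [hM : M.Normal] (hMN : M ≤ N) (e : (N ⧸ M.subgroupOf N) ≃* An n)
    (hperf : ⁅N, N⁆ = N) (hsol : Group.IsSolvable M) : M = ⊥ := by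
  by_contra hne
  obtain ⟨K, hK, hKM, hmax⟩ := exists_max_normal hne
  have hsurj := QuotientGroup.mk'_surjective K
  have iM : (M.map (QuotientGroup.mk' K)).Normal := hM.map _ hsurj
  have iN : (N.map (QuotientGroup.mk' K)).Normal := hN.map _ hsurj
  obtain ⟨e'⟩ := exists_equiv (N := N) hKM.le hMN
  have hmne : M.map (QuotientGroup.mk' K) ≠ ⊥ := by
    rw [Ne, Subgroup.map_eq_bot_iff, QuotientGroup.ker_mk']
    exact fun h1 => hKM.not_ge h1
  have hmin : ∀ L : Subgroup (G ⧸ K), L.Normal → L ≤ M.map (QuotientGroup.mk' K) →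
      L = ⊥ ∨ L = M.map (QuotientGroup.mk' K) := by
    intro L hL hLM
    have h1 : K ≤ L.comap (QuotientGroup.mk' K) := by
      intro x hx
      rw [Subgroup.mem_comap, QuotientGroup.mk'_apply, (QuotientGroup.eq_one_iff x).2 hx]
      exact L.one_mem
    have h2 : L.comap (QuotientGroup.mk' K) ≤ M := by
      intro x hx
      obtain ⟨y, hy, hyx⟩ := hLM hx
      have h3 : y⁻¹ * x ∈ K := QuotientGroup.eq.1 hyx
      have h4 : x = y * (y⁻¹ * x) := by group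
      rw [h4]
      exact M.mul_mem hy (hKM.le h3)
    have h5 : L = (L.comap (QuotientGroup.mk' K)).map (QuotientGroup.mk' K) :=
      (Subgroup.map_comap_eq_self_of_surjective hsurj L).symm
    rcases hmax _ (hL.comap _) h1 h2 with h6 | h6
    · left
      rw [h5, h6, Subgroup.map_eq_bot_iff, QuotientGroup.ker_mk']
    · right
      rw [h5, h6]
  refine hNC (G := G ⧸ K) (fun d hd => h (charDegrees_comp (QuotientGroup.mk' K) hsurj hd))
    (N.map (QuotientGroup.mk' K)) (M.map (QuotientGroup.mk' K)) (Subgroup.map_mono hMN) (e'.trans e)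
    (map_commutator_eq _ hperf) ?_ hmne hmin
  -- the chief factor is abelian
  have hsolM : Group.IsSolvable (M.map (QuotientGroup.mk' K)) :=
    Group.isSolvable_of_surjective ((QuotientGroup.mk' K).subgroupMap_surjective M)
  have hcn : (⁅M.map (QuotientGroup.mk' K), M.map (QuotientGroup.mk' K)⁆ : Subgroup (G ⧸ K)).Normal :=
    inferInstance
  rcases hmin _ hcn (Subgroup.commutator_le_right _ _) with h1 | h1
  · exact h1
  · exact absurd (eq_bot_of_perfect h1 hsolM) hmne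

/-- a maximal solvable normal subgroup -/
theorem exists_rad (G : Type u) [Group G] [Finite G] : ∃ R : Subgroup G, ∃ _ : R.Normal, Group.IsSolvable R ∧
    ∀ K : Subgroup (G ⧸ R), K.Normal → Group.IsSolvable K → K = ⊥ := by
  classical
  obtain ⟨R, ⟨hR1, hR2⟩, hR3⟩ := ((Set.toFinite (Set.univ : Set (Subgroup G))).subset
    (Set.subset_univ {K : Subgroup G | K.Normal ∧ Group.IsSolvable K})).exists_maximal
    ⟨⊥, inferInstance, inferInstance⟩
  refine ⟨R, hR1, hR2, fun K hK hKs => ?_⟩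
  have h1 : R ≤ K.comap (QuotientGroup.mk' R) := by
    intro x hx
    rw [Subgroup.mem_comap, QuotientGroup.mk'_apply, (QuotientGroup.eq_one_iff x).2 hx]
    exact K.one_mem
  have h2 : Group.IsSolvable (K.comap (QuotientGroup.mk' R)) := by
    let f : R →* K.comap (QuotientGroup.mk' R) := Subgroup.inclusion h1
    let g : K.comap (QuotientGroup.mk' R) →* K := (QuotientGroup.mk' R).subgroupComap K
    refine Group.isSolvable_of_ker_le_range f g ?_
    intro x hx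
    have h3 : (QuotientGroup.mk' R) (x : G) = 1 := congrArg Subtype.val (MonoidHom.mem_ker.1 hx)
    have h4 : (x : G) ∈ R := (QuotientGroup.eq_one_iff _).1 h3
    exact ⟨⟨x, h4⟩, rfl⟩
  have h3 := hR3 ⟨hK.comap _, h2⟩ h1
  rw [← Subgroup.map_comap_eq_self_of_surjective (QuotientGroup.mk'_surjective R) K, Subgroup.map_eq_bot_iff,
    QuotientGroup.ker_mk']
  exact h3

/-- the last term of the derived series -/
theorem exists_perfect (G : Type u) [Group G] [Finite G] : ∃ N : Subgroup G, ∃ _ : N.Normal,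
    Group.IsSolvable (G ⧸ N) ∧ ⁅N, N⁆ = N := by
  classical
  have htop : Group.IsSolvable (G ⧸ (⊤ : Subgroup G)) := by
    have : Subsingleton (G ⧸ (⊤ : Subgroup G)) := QuotientGroup.subsingleton_quotient_top
    infer_instance
  obtain ⟨N, ⟨hN1, hN2⟩, hN3⟩ := ((Set.toFinite (Set.univ : Set (Subgroup G))).subset
    (Set.subset_univ {K : Subgroup G | ∃ _ : K.Normal, Group.IsSolvable (G ⧸ K)})).exists_minimal
    ⟨⊤, inferInstance, htop⟩
  refine ⟨N, hN1, hN2, le_antisymm (Subgroup.commutator_le_right _ _) (hN3 ⟨inferInstance, ?_⟩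
    (Subgroup.commutator_le_right _ _))⟩
  -- `G / [N, N]` is solvable
  let f : N →* G ⧸ ⁅N, N⁆ := (QuotientGroup.mk' ⁅N, N⁆).comp N.subtype
  let g : G ⧸ ⁅N, N⁆ →* G ⧸ N := QuotientGroup.map _ _ (MonoidHom.id G) (Subgroup.commutator_le_right _ _)
  have hf : Group.IsSolvable f.range := by
    refine ⟨1, ?_⟩
    rw [derivedSeries_succ, derivedSeries_zero, Subgroup.commutator_eq_bot_iff_le_centralizer]
    rintro ⟨_, x, rfl⟩ -
    rw [Subgroup.mem_centralizer_iff]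
    rintro ⟨_, y, rfl⟩ -
    apply Subtype.ext
    change (QuotientGroup.mk' ⁅N, N⁆) (y : G) * (QuotientGroup.mk' ⁅N, N⁆) (x : G) =
      (QuotientGroup.mk' ⁅N, N⁆) (x : G) * (QuotientGroup.mk' ⁅N, N⁆) (y : G)
    rw [← map_mul, ← map_mul, QuotientGroup.mk'_apply, QuotientGroup.mk'_apply, QuotientGroup.eq]
    have h1 : ⁅(x : G)⁻¹, (y : G)⁻¹⁆ ∈ (⁅N, N⁆ : Subgroup G) :=
      Subgroup.commutator_mem_commutator (N.inv_mem x.2) (N.inv_mem y.2)
    rw [commutatorElement_def, inv_inv, inv_inv] at h1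
    have h2 : ((y : G) * (x : G))⁻¹ * ((x : G) * (y : G)) = (x : G)⁻¹ * (y : G)⁻¹ * (x : G) * (y : G) := by group
    rw [h2]
    exact h1
  refine Group.isSolvable_of_ker_le_range f.range.subtype g ?_
  intro x hx
  rw [Subgroup.range_subtype]
  obtain ⟨y, rfl⟩ := QuotientGroup.mk_surjective x
  have h1 : (QuotientGroup.mk y : G ⧸ N) = 1 := MonoidHom.mem_ker.1 hx
  exact ⟨⟨y, (QuotientGroup.eq_one_iff y).1 h1⟩, rfl⟩

/-- the quotients of the derived series in `Out` -/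
theorem perfect_le {Y : Type u} [Group Y] {S : Subgroup Y} [hS : S.Normal]
    (hc : Subgroup.centralizer (S : Set Y) = ⊥) (hout : Group.IsSolvable (Cfsg.Out S)) {P : Subgroup Y}
    (hP : ⁅P, P⁆ = P) : P ≤ S := by
  let f : Y →* Cfsg.Out S := (QuotientGroup.mk' (Cfsg.Inn S)).comp (MulAut.conjNormal (H := S))
  have h1 : P.map f = ⊥ := eq_bot_of_perfect (map_commutator_eq f hP)
    (Group.isSolvable_of_isSolvable_injective (f := (P.map f).subtype) Subtype.val_injective)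
  intro y hy
  have h2 : f y = 1 := by
    have : f y ∈ P.map f := ⟨y, hy, rfl⟩
    rwa [h1, Subgroup.mem_bot] at this
  have h3 : (MulAut.conjNormal (H := S) y) ∈ Cfsg.Inn S := (QuotientGroup.eq_one_iff _).1 h2
  obtain ⟨s, hs⟩ := h3
  have h4 : (s : Y)⁻¹ * y ∈ Subgroup.centralizer (S : Set Y) := by
    rw [Subgroup.mem_centralizer_iff]
    intro t ht
    have h5 := congrArg (fun φ : MulAut S => ((φ ⟨t, ht⟩ : S) : Y)) hs
    simp only [MulAut.conj_apply, MulAut.conjNormal_apply, Subgroup.coe_mul, Subgroup.coe_inv] at h5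
    have h6 : (s : Y) * t = y * t * y⁻¹ * s := by rw [← h5]; group
    calc t * ((s : Y)⁻¹ * y) = (s : Y)⁻¹ * ((s : Y) * t) * (s : Y)⁻¹ * y := by group
      _ = (s : Y)⁻¹ * (y * t * y⁻¹ * s) * (s : Y)⁻¹ * y := by rw [h6]
      _ = (s : Y)⁻¹ * y * t := by group
  rw [hc, Subgroup.mem_bot] at h4
  have h7 : y = s := by
    have := congrArg (fun z => (s : Y) * z) h4
    simpa [← mul_assoc] using this
  rw [h7]
  exact s.2

/-- a perfect subgroup of a group with solvable quotient by a normal subgroup lies in the normal subgroup -/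
theorem perfect_le_of_solvable {Y : Type u} [Group Y] {N : Subgroup Y} [N.Normal] (h : Group.IsSolvable (Y ⧸ N))
    {P : Subgroup Y} (hP : ⁅P, P⁆ = P) : P ≤ N := by
  have h1 : P.map (QuotientGroup.mk' N) = ⊥ := eq_bot_of_perfect (map_commutator_eq _ hP)
    (Group.isSolvable_of_isSolvable_injective (f := (P.map (QuotientGroup.mk' N)).subtype) Subtype.val_injective)
  rw [Subgroup.map_eq_bot_iff, QuotientGroup.ker_mk'] at h1
  exact h1

/-- **The frame.** -/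
theorem frame {n : ℕ} (hn : 5 ≤ n)
    (hns : ∀ {G : Type u} [Group G] [Finite G], Group.IsSolvable G → charDegrees G = D n → False)
    (hsoc : ∀ {Y : Type u} [Group Y] [Finite Y] [Nontrivial Y], charDegrees Y ⊆ D n →
      (∀ K : Subgroup Y, K.Normal → Group.IsSolvable K → K = ⊥) →
      ∃ S : Subgroup Y, S.Normal ∧ Nonempty (S ≃* An n) ∧ Subgroup.centralizer (S : Set Y) = ⊥)
    (hout : ∀ {S : Type u} [Group S] [Finite S] [IsSimpleGroup S], Group.IsSolvable (Cfsg.Out S))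
    (hNC : NoChief.{u} n) {G : Type u} [Group G] [Finite G] (h : charDegrees G = D n) :
    ∃ N : Subgroup G, ∃ _ : N.Normal, Nonempty (N ≃* An n) ∧ Group.IsSolvable (G ⧸ N) ∧ ⁅N, N⁆ = N := by
  obtain ⟨R, iR, hRs, hR⟩ := exists_rad G
  obtain ⟨N, iN, hNs, hNp⟩ := exists_perfect G
  have hsurj := QuotientGroup.mk'_surjective R
  have hnt : Nontrivial (G ⧸ R) := by
    by_contra hcon
    rw [not_nontrivial_iff_subsingleton] at hcon
    have h1 : R = ⊤ := by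
      rw [eq_top_iff]
      intro x _
      exact (QuotientGroup.eq_one_iff x).1 (Subsingleton.elim _ _)
    subst h1
    exact hns (Group.isSolvable_of_isSolvable_injective (f := (Subgroup.topEquiv (G := G)).symm.toMonoidHom)
      (Subgroup.topEquiv (G := G)).symm.injective) h
  obtain ⟨S, iS, ⟨e⟩, hc⟩ := hsoc (Y := G ⧸ R) (fun d hd => h ▸ charDegrees_comp (QuotientGroup.mk' R) hsurj hd) hR
  have hA : IsSimpleGroup (An n) := alternatingGroup.isSimpleGroup (by simpa using hn)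
  have hsimp : IsSimpleGroup S := e.isSimpleGroup
  have hnab : ¬ IsMulCommutative S := by
    intro hcc
    have h1 : Subgroup.centralizer (S : Set (G ⧸ R)) ≥ S := by
      intro x hx
      rw [Subgroup.mem_centralizer_iff]
      intro y hy
      exact congrArg Subtype.val (hcc.is_comm.comm (⟨y, hy⟩ : S) ⟨x, hx⟩)
    rw [hc] at h1
    have h2 : S = ⊥ := le_bot_iff.1 h1
    have h3 := hsimp.toNontrivial
    rw [h2] at h3
    exact not_subsingleton _ (inferInstance : Subsingleton (⊥ : Subgroup (G ⧸ R)))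
  have hSp : ⁅S, S⁆ = S := by
    have h1 : (commutator S) = ⊤ := by
      rcases hsimp.eq_bot_or_eq_top_of_normal (commutator S) inferInstance with h2 | h2
      · exfalso
        apply hnab
        refine ⟨⟨fun a b => ?_⟩⟩
        have h3 : ⁅a, b⁆ ∈ commutator S := by
          rw [commutator_def]
          exact Subgroup.commutator_mem_commutator (Subgroup.mem_top a) (Subgroup.mem_top b)
        rw [h2, Subgroup.mem_bot, commutatorElement_eq_one_iff_mul_comm] at h3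
        exact h3
      · exact h2
    rw [← Subgroup.map_subtype_commutator, h1, ← MonoidHom.range_eq_map, Subgroup.range_subtype]
  -- the image of `N`
  have iN' : (N.map (QuotientGroup.mk' R)).Normal := iN.map _ hsurj
  have himg : N.map (QuotientGroup.mk' R) = S := by
    apply le_antisymm
    · exact perfect_le hc hout (map_commutator_eq _ hNp)
    · have h1 : Group.IsSolvable ((G ⧸ R) ⧸ N.map (QuotientGroup.mk' R)) := by
        let g : G ⧸ N →* ((G ⧸ R) ⧸ N.map (QuotientGroup.mk' R)) :=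
          QuotientGroup.map N (N.map (QuotientGroup.mk' R)) (QuotientGroup.mk' R) (Subgroup.le_comap_map _ _)
        have hg : Function.Surjective g := by
          intro x
          obtain ⟨y, rfl⟩ := QuotientGroup.mk_surjective x
          obtain ⟨z, rfl⟩ := QuotientGroup.mk_surjective y
          exact ⟨QuotientGroup.mk z, rfl⟩
        exact Group.isSolvable_of_surjective hg
      exact perfect_le_of_solvable h1 hSp
  -- the quotient
  have hMN : N ⊓ R ≤ N := inf_le_left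
  have e1 : Nonempty ((N ⧸ (N ⊓ R).subgroupOf N) ≃* S) := by
    let f : N →* N.map (QuotientGroup.mk' R) := (QuotientGroup.mk' R).subgroupMap N
    have hf : Function.Surjective f := (QuotientGroup.mk' R).subgroupMap_surjective N
    have hker : f.ker = (N ⊓ R).subgroupOf N := by
      ext x
      rw [MonoidHom.mem_ker, Subgroup.mem_subgroupOf, Subgroup.mem_inf, Subtype.ext_iff]
      change (QuotientGroup.mk' R) (x : G) = 1 ↔ _
      rw [QuotientGroup.mk'_apply, QuotientGroup.eq_one_iff]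
      exact ⟨fun h => ⟨x.2, h⟩, fun h => h.2⟩
    exact ⟨((QuotientGroup.quotientMulEquivOfEq hker).symm.trans
      (QuotientGroup.quotientKerEquivOfSurjective f hf)).trans (MulEquiv.subgroupCongr himg)⟩
  obtain ⟨e1⟩ := e1
  have hMs : Group.IsSolvable (N ⊓ R : Subgroup G) :=
    Group.isSolvable_of_isSolvable_injective (f := Subgroup.inclusion (inf_le_right : N ⊓ R ≤ R))
      (Subgroup.inclusion_injective _)
  have hM : N ⊓ R = ⊥ := kernel_trivial hNC h.le N (N ⊓ R) hMN (e1.trans e) hNp hMs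
  refine ⟨N, iN, ?_, hNs, hNp⟩
  have h5 : (N ⊓ R).subgroupOf N = ⊥ := by rw [hM, Subgroup.bot_subgroupOf]
  exact ⟨((QuotientGroup.quotientBot.symm.trans (QuotientGroup.quotientMulEquivOfEq h5.symm)).trans e1).trans e⟩

end Cfsg.Agent.H691.AN
end

-- part: H866/AN/B6_mg
section
prune_inst 0x1010000020120000000000000000000000000000000000002002000000000000000000000001020020000000000008000000000000000000000000000400008000000000000100000009000000000000000000000000000000000000000000200000000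
set_option linter.all false
open scoped Cfsg.Agent.FastGrp

-- part: H866/AN/B6
section
/-!
# S4766, piece B6: the Frobenius section (helper866)

`A` is a normal subgroup of `G` of index `m` containing `G'`, every degree of `G` dividing `m` is `1` or `m`, every
`q`-group quotient of `G` is abelian, and `G` has an irreducible character of degree `m` with `[A, A]` in its kernel:
`b6_frob` gives a chief factor `A / N` on which `G / A` acts freely.

Modulo `[A, A]` every degree divides `m` (Itô), so every subgroup `L > A` has `L' = G'` (`comm_le`: a linear character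
of `L` nontrivial on `G'` would lie under a character of degree `1`). With a prime `q` dividing `|G'|`, a prime
`p ≠ q` dividing `m` and `x ∉ A` with `x ^ p ∈ A`, the subgroup `K` of the `a ∈ A` such that the `q`-part of `[x, a]`
is trivial is a proper supplement of `G'` in `A`.
-/

set_option autoImplicit false

namespace Cfsg.Agent.H866.AN

open Cfsg Cfsg.Agent.H691.AN Cfsg.Agent.Characters.Core Cfsg.Agent.Characters.Linear

universe u

/-! ### Characters -/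

section Chars

variable {G : Type u} [Group G]

/-- A linear character which is nontrivial at an element outside the commutator subgroup. -/
theorem exists_lin [Finite G] {y : G} (hy : y ∉ commutator G) : ∃ μ : G →* ℂˣ, μ y ≠ 1 := by
  have : Finite (Abelianization G) :=
    Finite.of_surjective (QuotientGroup.mk' (commutator G)) (QuotientGroup.mk'_surjective _)
  have h1 : Abelianization.of y ≠ 1 := by
    intro h
    apply hy
    rw [← Abelianization.ker_of, MonoidHom.mem_ker]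
    exact h
  obtain ⟨f, hf⟩ := CommGroup.exists_apply_ne_one_of_hasEnoughRootsOfUnity (Abelianization G) ℂ h1
  exact ⟨f.comp Abelianization.of, hf⟩

/-- Subgroups properly containing `A` have the same commutator subgroup as `G`. -/
theorem comm_le [Finite G] {m : ℕ} (hdiv : ∀ d ∈ charDegrees G, d ∣ m → d = 1 ∨ d = m)
    (A : Subgroup G) (hA : A.Normal) (hcA : commutator G ≤ A) (hi : A.index = m)
    (hab : ∀ a ∈ A, ∀ b ∈ A, a * b = b * a) (L : Subgroup G) (hAL : A ≤ L) (hne : L ≠ A) :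
    commutator G ≤ ⁅L, L⁆ := by
  classical
  have := Fintype.ofFinite G
  have hLn : L.Normal := by
    constructor
    intro n hn g
    have h1 : g * n * g⁻¹ * n⁻¹ ∈ L := hAL (hcA (Subgroup.commutator_mem_commutator (Subgroup.mem_top g) (Subgroup.mem_top n)))
    have h2 := L.mul_mem h1 hn
    simpa only [_root_.inv_mul_cancel_right] using h2
  have := Fintype.ofFinite L
  intro y hy
  by_contra hyL
  have hyL' : y ∈ L := hAL (hcA hy)
  have h1 : (⟨y, hyL'⟩ : L) ∉ commutator L := by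
    intro h
    apply hyL
    have h2 := Subgroup.mem_map_of_mem L.subtype h
    rwa [Subgroup.map_subtype_commutator] at h2
  obtain ⟨μ, hμ⟩ := exists_lin h1
  obtain ⟨ψ, hψ, hne0⟩ := Cfsg.Agent.CharDeep.PowerDegrees.exists_irr_over L (isIrrCharacter_hom μ)
  obtain ⟨d, hd0, hd⟩ := isIrr_apply_one hψ
  have h2 := S0887.result L ψ hψ _ (isIrrCharacter_hom μ) hne0 d 1 hd (by simp)
  rw [Nat.div_one] at h2
  have hdm : d ∈ charDegrees G := H424.DegTools.mem_charDegrees.2 ⟨ψ, hψ, hd⟩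
  have hdd : d ∣ m := by
    have := H424.DegTools.ito hdm A hab
    rwa [hi] at this
  have hri := Subgroup.relIndex_mul_index hAL
  have hrne : A.relIndex L ≠ 1 := by
    intro h
    rw [Subgroup.relIndex_eq_one] at h
    exact hne (le_antisymm h hAL)
  have hd1 : d = 1 := by
    rcases hdiv d hdm hdd with h | h
    · exact h
    · exfalso
      rw [h, ← hi, ← hri] at h2
      have h3 : 0 < L.index := Nat.pos_of_ne_zero Subgroup.index_ne_zero_of_finite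
      have h4 := Nat.le_of_dvd h3 h2.2
      have h5 : A.relIndex L ≠ 0 := by
        intro h0
        rw [h0, zero_mul] at hri
        exact Subgroup.index_ne_zero_of_finite (H := A) hri.symm
      have h6 : 2 ≤ A.relIndex L := by omega
      nlinarith only [h3, h4, h6]
  subst hd1
  obtain ⟨f, rfl⟩ := exists_hom_of_isIrrCharacter hψ (by simpa using hd)
  have h3 : (fun n : L => (f (n : G) : ℂ)) = fun n => (μ n : ℂ) := by
    by_contra hcon
    exact hne0 (classInner_irr_ne (isIrrCharacter_hom (f.comp L.subtype)) (isIrrCharacter_hom μ) hcon)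
  have h4 : f y = 1 := Abelianization.commutator_subset_ker f hy
  apply hμ
  have h5 := congrFun h3 ⟨y, hyL'⟩
  rw [h4] at h5
  exact Units.ext h5.symm

/-- A character of degree larger than `1` whose kernel contains `N` forces `G / N` to be nonabelian. -/
theorem not_comm_le [Finite G] {m : ℕ} (hm1 : 1 < m) (N : Subgroup G) [N.Normal]
    {χ : G → ℂ} (hχ : IsIrrCharacter G χ) (h1 : χ 1 = (m : ℕ)) (hN : ∀ g ∈ N, χ g = χ 1) :
    ¬ commutator G ≤ N := by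
  intro hle
  have hχ2 := hχ
  obtain ⟨k, ρ, hρ, hρβ⟩ := hχ2
  have hker : ∀ z ∈ N, ρ z = 1 := by
    intro z hz
    have h1 : ρ z = LinearMap.id := by
      rw [← Cfsg.Agent.Characters.Values.character_eq_finrank_iff, hρβ, hN z hz, ← hρβ]
      simp only [_root_.Representation.char_one, _root_.Module.finrank_fintype_fun_eq_card, _root_.Fintype.card_fin]
    exact h1
  let ρ' : Representation ℂ (G ⧸ N) (Fin k → ℂ) := QuotientGroup.lift N ρ hker
  have h2 : χ = ρ'.character ∘ QuotientGroup.mk' N := by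
    rw [← hρβ]
    rfl
  have h3 : IsIrrCharacter (G ⧸ N) ρ'.character :=
    Cfsg.Agent.CharactersDeep.MaxInduced.isIrr_of_comp (QuotientGroup.mk' N) ⟨k, ρ', rfl⟩ (by rw [← h2]; exact hχ)
  have h4 : m ∈ charDegrees (G ⧸ N) := by
    refine H424.DegTools.mem_charDegrees.2 ⟨_, h3, ?_⟩
    rw [← h1, h2]
    simp only [_root_.Representation.char_one, _root_.Module.finrank_fintype_fun_eq_card, _root_.Fintype.card_fin, _root_.QuotientGroup.coe_mk', _root_.Function.comp_apply, _root_.QuotientGroup.mk_one]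
  have h5 := H424.DegTools.ito h4 ⊤ (by
    intro a _ b _
    induction a using QuotientGroup.induction_on with
    | H a =>
    induction b using QuotientGroup.induction_on with
    | H b =>
    rw [← QuotientGroup.mk_mul, ← QuotientGroup.mk_mul, QuotientGroup.eq]
    have h := hle (Subgroup.commutator_mem_commutator (Subgroup.mem_top b⁻¹) (Subgroup.mem_top a⁻¹))
    rw [commutatorElement_def] at h
    have e : (a * b)⁻¹ * (b * a) = b⁻¹ * a⁻¹ * b⁻¹⁻¹ * a⁻¹⁻¹ := by group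
    rw [e]
    exact h)
  rw [Subgroup.index_top] at h5
  exact absurd (Nat.dvd_one.1 h5) hm1.ne'

end Chars

/-! ### Groups -/

section Grp

variable {G : Type u} [Group G]

/-- The preimage in `A` of `N` under a map which is multiplicative on `A`. -/
def pull (A N : Subgroup G) (φ : G → G) (h1 : ∀ a ∈ A, ∀ b ∈ A, φ (a * b) = φ a * φ b) : Subgroup G where
  carrier := {a | a ∈ A ∧ φ a ∈ N}
  one_mem' := by
    refine ⟨A.one_mem, ?_⟩
    have h := h1 1 A.one_mem 1 A.one_mem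
    rw [mul_one] at h
    rw [left_eq_mul.1 h]
    exact N.one_mem
  mul_mem' := by
    rintro a b ⟨ha, ha'⟩ ⟨hb, hb'⟩
    refine ⟨A.mul_mem ha hb, ?_⟩
    rw [h1 a ha b hb]
    exact N.mul_mem ha' hb'
  inv_mem' := by
    rintro a ⟨ha, ha'⟩
    refine ⟨A.inv_mem ha, ?_⟩
    have h := h1 1 A.one_mem 1 A.one_mem
    rw [mul_one] at h
    have h0 := left_eq_mul.1 h
    have h2 := h1 a ha a⁻¹ (A.inv_mem ha)
    rw [mul_inv_cancel, h0] at h2
    rw [← inv_eq_of_mul_eq_one_right h2.symm]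
    exact N.inv_mem ha'

theorem pull_normal {A N : Subgroup G} (hA : A.Normal) (hN : N.Normal) {φ : G → G}
    {h1 : ∀ a ∈ A, ∀ b ∈ A, φ (a * b) = φ a * φ b} (h2 : ∀ g, ∀ a ∈ A, φ (g * a * g⁻¹) = g * φ a * g⁻¹) :
    (pull A N φ h1).Normal := by
  constructor
  rintro n ⟨hn, hn'⟩ g
  refine ⟨hA.conj_mem n hn g, ?_⟩
  rw [h2 g n hn]
  exact hN.conj_mem _ hn' g

/-- If `A` is abelian and `[x, A] ≤ Q` then `A ⟨x⟩` is abelian modulo `Q`. -/
theorem comm_sup_le {A Q : Subgroup G} [hQ : Q.Normal] (hab : ∀ a ∈ A, ∀ b ∈ A, a * b = b * a) {x : G}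
    (hx : ∀ a ∈ A, x * a * x⁻¹ * a⁻¹ ∈ Q) : ⁅A ⊔ Subgroup.zpowers x, A ⊔ Subgroup.zpowers x⁆ ≤ Q := by
  have hker : Q = (QuotientGroup.mk' Q).ker := (QuotientGroup.ker_mk' Q).symm
  conv_rhs => rw [hker]
  rw [← Subgroup.map_eq_bot_iff, Subgroup.map_commutator, Subgroup.commutator_eq_bot_iff_le_centralizer,
    Subgroup.map_sup, MonoidHom.map_zpowers]
  set B := A.map (QuotientGroup.mk' Q) with hB
  set y := QuotientGroup.mk' Q x with hy
  have h1 : B ≤ Subgroup.centralizer (B : Set (G ⧸ Q)) := by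
    rintro _ ⟨a, ha, rfl⟩
    rw [Subgroup.mem_centralizer_iff]
    rintro _ ⟨b, hb, rfl⟩
    rw [← map_mul, ← map_mul, hab b hb a ha]
  have h2 : y ∈ Subgroup.centralizer (B : Set (G ⧸ Q)) := by
    rw [Subgroup.mem_centralizer_iff]
    rintro _ ⟨b, hb, rfl⟩
    rw [hy, ← map_mul, ← map_mul]
    refine (QuotientGroup.eq.2 ?_).symm
    have h := hQ.conj_mem _ (hx b hb) (x * b)⁻¹
    have e : (x * b)⁻¹ * (x * b * x⁻¹ * b⁻¹) * (x * b)⁻¹⁻¹ = (b * x)⁻¹ * (x * b) := by group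
    rw [e] at h
    have e2 : (x * b)⁻¹ * (b * x) = ((b * x)⁻¹ * (x * b))⁻¹ := by group
    rw [e2]
    exact Q.inv_mem h
  have h3 : B ⊔ Subgroup.zpowers y ≤ Subgroup.centralizer (B : Set (G ⧸ Q)) :=
    sup_le h1 (by rwa [Subgroup.zpowers_le])
  have h4 : B ≤ Subgroup.centralizer ((B ⊔ Subgroup.zpowers y : Subgroup (G ⧸ Q)) : Set (G ⧸ Q)) :=
    Subgroup.le_centralizer_iff.1 h3
  refine sup_le h4 ?_
  rw [Subgroup.le_centralizer_iff]
  refine sup_le ?_ ?_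
  · rw [Subgroup.le_centralizer_iff, Subgroup.zpowers_le]
    exact h2
  · rw [Subgroup.le_centralizer_iff]
    intro z hz
    obtain ⟨i, rfl⟩ := Subgroup.mem_zpowers_iff.1 hz
    rw [Subgroup.mem_centralizer_iff]
    intro w hw
    obtain ⟨j, rfl⟩ := Subgroup.mem_zpowers_iff.1 hw
    rw [← zpow_add, ← zpow_add, add_comm]

end Grp

/-! ### The chief factor, `A` abelian -/

/-- The case `[A, A] = 1`. -/
theorem frob_abelian {G : Type u} [Group G] [Finite G]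
    (hpq : ∀ (q : ℕ) (K : Subgroup G) [K.Normal], q.Prime → IsPGroup q (G ⧸ K) → commutator G ≤ K)
    (A : Subgroup G) (hA : A.Normal) (hcA : commutator G ≤ A) (hAt : A ≠ ⊤)
    (hab : ∀ a ∈ A, ∀ b ∈ A, a * b = b * a)
    (hL : ∀ L : Subgroup G, A ≤ L → L ≠ A → commutator G ≤ ⁅L, L⁆)
    (hG : commutator G ≠ ⊥) : ∃ (N : Subgroup G) (q a : ℕ), Frob G N A q a := by
  classical
  have h1 : Nat.card (commutator G) ≠ 1 := by rwa [Ne, Subgroup.card_eq_one]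
  obtain ⟨q, hq, hqd⟩ := Nat.exists_prime_and_dvd h1
  have := Fact.mk hq
  obtain ⟨n, hn⟩ : ∃ n, n = Nat.card A := ⟨_, rfl⟩
  have hn0 : n ≠ 0 := by rw [hn]; exact Nat.card_pos.ne'
  obtain ⟨k, s, hrk, hqk⟩ : ∃ k s : ℕ, q ^ s * k = n ∧ ¬ q ∣ k :=
    ⟨_, _, Nat.ordProj_mul_ordCompl_eq_self n q, Nat.not_dvd_ordCompl hq hn0⟩
  have hpown : ∀ a ∈ A, a ^ n = 1 := by
    intro a ha
    have h := pow_card_eq_one' (x := (⟨a, ha⟩ : A))
    rw [← hn] at h
    exact congrArg Subtype.val h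
  have hmulpow : ∀ (j : ℕ), ∀ a ∈ A, ∀ b ∈ A, (a * b) ^ j = a ^ j * b ^ j :=
    fun j a ha b hb => Commute.mul_pow (hab a ha b hb) j
  have hconjpow : ∀ (j : ℕ) (g : G), ∀ a ∈ A, (g * a * g⁻¹) ^ j = g * a ^ j * g⁻¹ := fun j g a _ => conj_pow
  have hφmul : ∀ x : G, ∀ a ∈ A, ∀ b ∈ A, x * (a * b) * x⁻¹ * (a * b)⁻¹ =
      (x * a * x⁻¹ * a⁻¹) * (x * b * x⁻¹ * b⁻¹) := by
    intro x a ha b hb
    have hu : x * b * x⁻¹ * b⁻¹ ∈ A := A.mul_mem (hA.conj_mem b hb x) (A.inv_mem hb)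
    have h := hab _ hu a⁻¹ (A.inv_mem ha)
    calc x * (a * b) * x⁻¹ * (a * b)⁻¹ = (x * a * x⁻¹) * ((x * b * x⁻¹ * b⁻¹) * a⁻¹) := by group
      _ = (x * a * x⁻¹) * (a⁻¹ * (x * b * x⁻¹ * b⁻¹)) := by rw [h]
      _ = (x * a * x⁻¹ * a⁻¹) * (x * b * x⁻¹ * b⁻¹) := by group
  have hcomm : ∀ g h : G, g * h * g⁻¹ * h⁻¹ ∈ A := fun g h =>
    hcA (Subgroup.commutator_mem_commutator (Subgroup.mem_top g) (Subgroup.mem_top h))
  have hφconj : ∀ x g : G, ∀ a ∈ A, x * (g * a * g⁻¹) * x⁻¹ * (g * a * g⁻¹)⁻¹ =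
      g * (x * a * x⁻¹ * a⁻¹) * g⁻¹ := by
    intro x g a ha
    have hc := hcomm x⁻¹ g⁻¹
    rw [inv_inv, inv_inv] at hc
    have h := hab _ hc a ha
    calc x * (g * a * g⁻¹) * x⁻¹ * (g * a * g⁻¹)⁻¹
        = g * (x * (((x⁻¹ * g⁻¹ * x * g) * a) * (x⁻¹ * g⁻¹ * x * g)⁻¹) * x⁻¹ * a⁻¹) * g⁻¹ := by group
      _ = g * (x * ((a * (x⁻¹ * g⁻¹ * x * g)) * (x⁻¹ * g⁻¹ * x * g)⁻¹) * x⁻¹ * a⁻¹) * g⁻¹ := by rw [h]
      _ = g * (x * a * x⁻¹ * a⁻¹) * g⁻¹ := by group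
  have hφpow : ∀ (x : G) (j : ℕ), ∀ a ∈ A, x * a ^ j * x⁻¹ * (a ^ j)⁻¹ = (x * a * x⁻¹ * a⁻¹) ^ j := by
    intro x j a ha
    rw [hmulpow j _ (hA.conj_mem a ha x) _ (A.inv_mem ha), conj_pow, inv_pow]
  -- the `q'`-part of `A`
  let Q : Subgroup G := pull A ⊥ (fun a => a ^ k) (hmulpow k)
  have hQn : Q.Normal := pull_normal hA inferInstance (hconjpow k)
  have memQ : ∀ a, a ∈ Q ↔ a ∈ A ∧ a ^ k = 1 := fun a => Iff.rfl
  have b1 : ¬ commutator G ≤ Q := by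
    intro h
    obtain ⟨y, hy⟩ := exists_prime_orderOf_dvd_card' q hqd
    have h2 : orderOf (y : G) ∣ k := orderOf_dvd_of_pow_eq_one ((memQ y).1 (h y.2)).2
    rw [Subgroup.orderOf_coe, hy] at h2
    exact hqk h2
  -- a prime `p ≠ q` dividing the index
  have hp : ∃ p, p.Prime ∧ p ∣ A.index ∧ p ≠ q := by
    by_contra hcon
    push Not at hcon
    have h2 : A.index = q ^ A.index.primeFactorsList.length :=
      Nat.eq_prime_pow_of_unique_prime_dvd Subgroup.index_ne_zero_of_finite (fun {d} hd hd2 => hcon d hd hd2)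
    apply b1
    apply hpq q Q hq
    intro g
    induction g using QuotientGroup.induction_on with
    | H g =>
    refine ⟨A.index.primeFactorsList.length + s, ?_⟩
    rw [← QuotientGroup.mk_pow, QuotientGroup.eq_one_iff, memQ, pow_add, ← h2, pow_mul]
    have h3 : g ^ A.index ∈ A := by
      have := hA
      exact A.pow_index_mem g
    refine ⟨A.pow_mem h3 _, ?_⟩
    rw [← pow_mul _ (q ^ s) k, hrk]
    exact hpown _ h3
  obtain ⟨p, hp, hpd, hpq'⟩ := hp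
  have := Fact.mk hp
  obtain ⟨x, hxA, hxp⟩ : ∃ x : G, x ∉ A ∧ x ^ p ∈ A := by
    have := hA
    obtain ⟨y, hy⟩ := exists_prime_orderOf_dvd_card' (G := G ⧸ A) p hpd
    obtain ⟨x, rfl⟩ := QuotientGroup.mk_surjective y
    refine ⟨x, ?_, ?_⟩
    · intro hx
      rw [(QuotientGroup.eq_one_iff x).2 hx, orderOf_one] at hy
      exact hp.one_lt.ne hy
    · rw [← QuotientGroup.eq_one_iff, QuotientGroup.mk_pow, ← hy]
      exact pow_orderOf_eq_one _
  have hsup : ∀ (R : Subgroup G), R.Normal → ∀ z : G, z ∉ A → (∀ a ∈ A, z * a * z⁻¹ * a⁻¹ ∈ R) →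
      commutator G ≤ R := by
    intro R hR z hz hz2
    refine (hL (A ⊔ Subgroup.zpowers z) le_sup_left ?_).trans (comm_sup_le hab hz2)
    intro h
    apply hz
    rw [← h]
    exact (le_sup_right : Subgroup.zpowers z ≤ A ⊔ Subgroup.zpowers z) (Subgroup.mem_zpowers z)
  -- the supplement
  let K : Subgroup G := pull A Q (fun a => x * a * x⁻¹ * a⁻¹) (hφmul x)
  have hKn : K.Normal := pull_normal hA hQn (hφconj x)
  have memK : ∀ a, a ∈ K ↔ a ∈ A ∧ x * a * x⁻¹ * a⁻¹ ∈ Q := fun a => Iff.rfl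
  have hKA : K ≤ A := fun a ha => ((memK a).1 ha).1
  have hKne : K ≠ A := by
    intro h
    exact b1 (hsup Q hQn x hxA fun a ha => by
      rw [← h] at ha
      exact ((memK a).1 ha).2)
  have hKr : ∀ a ∈ A, a ^ q ^ s ∈ K := by
    intro a ha
    rw [memK]
    refine ⟨A.pow_mem ha _, ?_⟩
    have hu : x * a * x⁻¹ * a⁻¹ ∈ A := A.mul_mem (hA.conj_mem a ha x) (A.inv_mem ha)
    rw [hφpow x _ a ha, memQ]
    refine ⟨A.pow_mem hu _, ?_⟩
    rw [← pow_mul, hrk]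
    exact hpown _ hu
  have hKp : ∀ a ∈ A, a ^ p ∈ commutator G ⊔ K := by
    intro a ha
    have hax : (a * x) ^ p ∈ A := by
      have := hA
      rw [← QuotientGroup.eq_one_iff, QuotientGroup.mk_pow, QuotientGroup.mk_mul, (QuotientGroup.eq_one_iff a).2 ha,
        one_mul, ← QuotientGroup.mk_pow, (QuotientGroup.eq_one_iff _).2 hxp]
    have hν : (a * x) ^ p * (x ^ p)⁻¹ ∈ K := by
      rw [memK]
      refine ⟨A.mul_mem hax (A.inv_mem hxp), ?_⟩
      have e1 : x * (a * x) ^ p * x⁻¹ = (a * x) ^ p := by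
        have h2 : x * (a * x) ^ p * x⁻¹ = a⁻¹ * (a * x) ^ p * a := by
          have h3 : (a⁻¹ * (a * x) * a⁻¹⁻¹) ^ p = a⁻¹ * (a * x) ^ p * a⁻¹⁻¹ := conj_pow
          rw [inv_inv] at h3
          rw [← conj_pow, ← h3]
          congr 1
          group
        rw [h2, mul_assoc, hab _ hax _ ha, ← mul_assoc, inv_mul_cancel, one_mul]
      have e2 : x * ((a * x) ^ p * (x ^ p)⁻¹) * x⁻¹ * ((a * x) ^ p * (x ^ p)⁻¹)⁻¹ = 1 := by
        have h2 : x * ((a * x) ^ p * (x ^ p)⁻¹) * x⁻¹ = (x * (a * x) ^ p * x⁻¹) * (x ^ p)⁻¹ := by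
          have h3 : x * (x ^ p)⁻¹ * x⁻¹ = (x ^ p)⁻¹ := by
            have h4 : Commute x (x ^ p)⁻¹ := (Commute.self_pow x p).inv_right
            rw [h4.eq, mul_inv_cancel_right]
          calc x * ((a * x) ^ p * (x ^ p)⁻¹) * x⁻¹ = (x * (a * x) ^ p * x⁻¹) * (x * (x ^ p)⁻¹ * x⁻¹) := by group
            _ = _ := by rw [h3]
        rw [h2, e1, mul_inv_cancel]
      rw [e2]
      exact Q.one_mem
    have hG' : a ^ p * ((a * x) ^ p * (x ^ p)⁻¹)⁻¹ ∈ commutator G := by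
      rw [← Abelianization.ker_of, MonoidHom.mem_ker]
      simp only [map_mul, map_pow, map_inv, mul_pow]
      group
    have h := Subgroup.mul_mem _ (Subgroup.mem_sup_left (T := K) hG') (Subgroup.mem_sup_right (S := commutator G) hν)
    rwa [inv_mul_cancel_right] at h
  have hKG : A ≤ commutator G ⊔ K := by
    intro a ha
    have hcop : Nat.Coprime p (q ^ s) := Nat.Coprime.pow_right _ ((Nat.coprime_primes hp hq).2 hpq')
    have h2 := Nat.gcd_eq_gcd_ab p (q ^ s)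
    rw [hcop.gcd_eq_one] at h2
    have h3 : a = (a ^ p) ^ (Nat.gcdA p (q ^ s)) * (a ^ q ^ s) ^ (Nat.gcdB p (q ^ s)) := by
      rw [← zpow_natCast a p, ← zpow_natCast a (q ^ s), ← zpow_mul, ← zpow_mul, ← zpow_add, ← h2, Nat.cast_one, zpow_one]
    rw [h3]
    exact Subgroup.mul_mem _ (Subgroup.zpow_mem _ (hKp a ha) _)
      (Subgroup.zpow_mem _ (Subgroup.mem_sup_right (hKr a ha)) _)
  -- the chief factor
  let S : Set (Subgroup G) := {N | N.Normal ∧ K ≤ N ∧ N ≤ A ∧ N ≠ A}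
  obtain ⟨N, ⟨hNn, hKN, hNA, hNne⟩, hNmax⟩ := (Set.toFinite S).exists_maximal ⟨K, hKn, le_rfl, hKA, hKne⟩
  have hchief : ∀ K' : Subgroup G, K'.Normal → N ≤ K' → K' ≤ A → K' = N ∨ K' = A := by
    intro K' hK' h2 h3
    by_cases h4 : K' = A
    · exact Or.inr h4
    · exact Or.inl (le_antisymm (hNmax ⟨hK', hKN.trans h2, h3, h4⟩ h2) h2)
  have hnot : ¬ commutator G ≤ N := fun h => hNne (le_antisymm hNA (hKG.trans (sup_le h hKN)))
  have hpowN : ∀ a ∈ A, a ^ q ^ s ∈ N := fun a ha => hKN (hKr a ha)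
  have hlt : ∃ a ∈ A, a ∉ N := by
    by_contra hcon
    push Not at hcon
    exact hNne (le_antisymm hNA hcon)
  have hexpo : ∀ a ∈ A, a ^ q ∈ N := by
    rcases hchief (pull A N (fun a => a ^ q) (hmulpow q)) (pull_normal hA hNn (hconjpow q))
      (fun a ha => ⟨hNA ha, N.pow_mem ha q⟩) (fun a ha => ha.1) with h | h
    · exfalso
      obtain ⟨a, ha, haN⟩ := hlt
      have h2 : ∀ j : ℕ, a ^ q ^ j ∉ N := by
        intro j
        induction j with
        | zero => simpa using haN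
        | succ j ih =>
          intro h3
          apply ih
          rw [← h]
          refine ⟨A.pow_mem ha _, ?_⟩
          show (a ^ q ^ j) ^ q ∈ N
          rwa [← pow_mul, ← pow_succ]
      exact h2 s (hpowN a ha)
    · intro a ha
      rw [← h] at ha
      exact ha.2
  have hpgrp : IsPGroup q (A ⧸ N.subgroupOf A) := by
    intro g
    induction g using QuotientGroup.induction_on with
    | H g =>
    refine ⟨s, ?_⟩
    rw [← QuotientGroup.mk_pow, QuotientGroup.eq_one_iff, Subgroup.mem_subgroupOf]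
    exact hpowN g g.2
  obtain ⟨a, ha⟩ := IsPGroup.iff_card.1 hpgrp
  refine ⟨N, q, a, ?_⟩
  refine {
    normN := hNn
    normM := hA
    le := hNA
    ne_top := hAt
    comm := hcA
    prime := hq
    pos := ?_
    card := ha
    abel := ?_
    expo := hexpo
    chief := hchief
    free := ?_ }
  · rcases Nat.eq_zero_or_pos a with h0 | h0
    · exfalso
      rw [h0, pow_zero] at ha
      have h2 : N.relIndex A = 1 := ha
      rw [Subgroup.relIndex_eq_one] at h2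
      exact hNne (le_antisymm hNA h2)
    · exact h0
  · rw [Subgroup.commutator_le]
    intro g hg h hh
    have e : g * h * g⁻¹ * h⁻¹ = (g * h) * (h * g)⁻¹ := by group
    rw [commutatorElement_def, e, hab g hg h hh, mul_inv_cancel]
    exact N.one_mem
  · intro z hz g hg hzg
    rcases hchief (pull A N (fun a => z * a * z⁻¹ * a⁻¹) (hφmul z)) (pull_normal hA hNn (hφconj z))
      (fun a ha => ⟨hNA ha, N.mul_mem (hNn.conj_mem a ha z) (N.inv_mem ha)⟩) (fun a ha => ha.1) with h | h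
    · rw [← h]
      exact ⟨hg, hzg⟩
    · exfalso
      apply hnot
      refine hsup N hNn z hz fun a ha => ?_
      rw [← h] at ha
      exact ha.2

/-! ### The general case -/

/-- **B6**: the Frobenius section. -/
theorem b6_frob {G : Type u} [Group G] [Finite G] {m : ℕ} (hm1 : 1 < m)
    (hdiv : ∀ d ∈ charDegrees G, d ∣ m → d = 1 ∨ d = m)
    (hpq : ∀ (q : ℕ) (K : Subgroup G) [K.Normal], q.Prime → IsPGroup q (G ⧸ K) → commutator G ≤ K)
    (A : Subgroup G) (hA : A.Normal) (hcA : commutator G ≤ A) (hi : A.index = m)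
    (hχ : ∃ χ : G → ℂ, IsIrrCharacter G χ ∧ χ 1 = (m : ℕ) ∧ ∀ g ∈ ⁅A, A⁆, χ g = χ 1) :
    ∃ (N : Subgroup G) (q a : ℕ), Frob G N A q a := by
  have hAt : A ≠ ⊤ := by
    rintro rfl
    rw [Subgroup.index_top] at hi
    omega
  have hDn : (⁅A, A⁆ : Subgroup G).Normal := Subgroup.commutator_normal A A
  set D : Subgroup G := ⁅A, A⁆ with hD
  have hDA : D ≤ A := Subgroup.commutator_le_left A A
  set π := QuotientGroup.mk' D with hπ
  have hsurj : Function.Surjective π := QuotientGroup.mk'_surjective D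
  have hker : π.ker = D := QuotientGroup.ker_mk' D
  have hcomap : (A.map π).comap π = A := by
    rw [Subgroup.comap_map_eq, hker, sup_eq_left.2 hDA]
  have hcm : commutator (G ⧸ D) = (commutator G).map π := by
    rw [commutator_def, commutator_def, Subgroup.map_commutator, Subgroup.map_top_of_surjective _ hsurj]
  have hidx : (A.map π).index = m := by
    rw [← Subgroup.index_comap_of_surjective _ hsurj, hcomap, hi]
  have habq : ∀ a ∈ A.map π, ∀ b ∈ A.map π, a * b = b * a := by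
    rintro _ ⟨a, ha, rfl⟩ _ ⟨b, hb, rfl⟩
    rw [← map_mul, ← map_mul]
    refine QuotientGroup.eq.2 ?_
    have h := Subgroup.commutator_mem_commutator (A.inv_mem hb) (A.inv_mem ha)
    rw [commutatorElement_def] at h
    have e : (a * b)⁻¹ * (b * a) = b⁻¹ * a⁻¹ * b⁻¹⁻¹ * a⁻¹⁻¹ := by group
    rw [e]
    exact h
  have hAtq : A.map π ≠ ⊤ := by
    intro h
    rw [h, Subgroup.index_top] at hidx
    omega
  have hcAq : commutator (G ⧸ D) ≤ A.map π := by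
    rw [hcm]
    exact Subgroup.map_mono hcA
  have hAq : (A.map π).Normal := hA.map π hsurj
  have hdivq : ∀ d ∈ charDegrees (G ⧸ D), d ∣ m → d = 1 ∨ d = m := fun d hd =>
    hdiv d (H424.DegTools.charDegrees_of_surjective π hsurj hd)
  have hpqq : ∀ (q : ℕ) (K : Subgroup (G ⧸ D)) [K.Normal], q.Prime → IsPGroup q ((G ⧸ D) ⧸ K) →
      commutator (G ⧸ D) ≤ K := by
    intro q K hK hq hpg
    have h2 : IsPGroup q (G ⧸ K.comap π) := by
      intro g
      induction g using QuotientGroup.induction_on with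
      | H g =>
      obtain ⟨j, hj⟩ := hpg (QuotientGroup.mk (π g))
      refine ⟨j, ?_⟩
      rw [← QuotientGroup.mk_pow, QuotientGroup.eq_one_iff] at hj ⊢
      rw [Subgroup.mem_comap, map_pow]
      exact hj
    rw [hcm]
    exact Subgroup.map_le_iff_le_comap.2 (hpq q (K.comap π) hq h2)
  have hGq : commutator (G ⧸ D) ≠ ⊥ := by
    obtain ⟨χ, hχ, h1, h2⟩ := hχ
    rw [hcm, Ne, Subgroup.map_eq_bot_iff, hker]
    exact not_comm_le hm1 D hχ h1 h2
  obtain ⟨N, q, a, F⟩ := frob_abelian hpqq (A.map π) hAq hcAq hAtq habq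
    (fun L hL hne => comm_le hdivq (A.map π) hAq hcAq hidx habq L hL hne) hGq
  have := F.normN
  refine ⟨N.comap π, q, a, ?_⟩
  refine {
    normN := inferInstance
    normM := hA
    le := by
      rw [← hcomap]
      exact Subgroup.comap_mono F.le
    ne_top := hAt
    comm := hcA
    prime := F.prime
    pos := F.pos
    card := by
      rw [Subgroup.relIndex_comap]
      exact F.card
    abel := by
      have h : D ≤ N.comap π := hker.symm.le.trans (MonoidHom.ker_le_comap π N)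
      exact h
    expo := fun x hx => by
      rw [Subgroup.mem_comap, map_pow]
      exact F.expo _ (Subgroup.mem_map_of_mem π hx)
    chief := ?_
    free := ?_ }
  · intro K hK h2 h3
    have h4 : π.ker ≤ K := (MonoidHom.ker_le_comap π N).trans h2
    have h5 : (K.map π).comap π = K := by rw [Subgroup.comap_map_eq, sup_eq_left.2 h4]
    have h6 : N ≤ K.map π := by
      rw [← Subgroup.map_comap_eq_self_of_surjective hsurj N]
      exact Subgroup.map_mono h2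
    rcases F.chief (K.map π) (hK.map π hsurj) h6 (Subgroup.map_mono h3) with h | h
    · left
      rw [← h, h5]
    · right
      rw [← h5, h, hcomap]
  · intro x hx g hg h2
    rw [Subgroup.mem_comap] at h2 ⊢
    refine F.free (π x) ?_ (π g) (Subgroup.mem_map_of_mem π hg) ?_
    · intro h3
      apply hx
      rw [← hcomap]
      exact h3
    · simpa only [map_mul, map_inv] using h2

end Cfsg.Agent.H866.AN
end

-- part: H107/AN/BFourNum
section
/-!
# S4766 B4: numerical lemmas (helper107)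
-/

set_option autoImplicit false

namespace Cfsg.Agent.H107.AN

/-- if `s ^ c > 2` divides `2 o` then `s` divides `o` -/
theorem dvd_of_pow_dvd {s c o : ℕ} (hs : s.Prime) (hx : 2 < s ^ c) (h : s ^ c ∣ 2 * o) : s ∣ o := by
  have hc0 : c ≠ 0 := by
    rintro rfl
    simp at hx
  have h1 : s ∣ 2 * o := (dvd_pow_self s hc0).trans h
  by_cases h2 : s = 2
  · subst h2
    have hc : 2 ≤ c := by
      by_contra hc
      have : c = 1 := by omega
      subst this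
      simp at hx
    have h3 : 2 ^ 2 ∣ 2 * o := (pow_dvd_pow 2 hc).trans h
    omega
  · rcases (Nat.Prime.dvd_mul hs).1 h1 with h3 | h3
    · exact absurd ((Nat.prime_dvd_prime_iff_eq hs Nat.prime_two).1 h3) h2
    · exact h3

/-- the numerical analysis of an orbit whose size is prime to `s` -/
theorem special {m i b b' s c o t : ℕ} (hm : 19 ≤ m) (hs : s.Prime) (hc : 1 ≤ c) (hmi : m = i * b)
    (hb : b = s ^ c * b') (hti : t ∣ i) (hso : ¬ s ∣ o) (ho : o + 1 ≤ (s ^ c) ^ 2)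
    (hd : o * t = m ∨ 2 * (o * t) = (m + 1) * (m - 2) ∨ 2 * (o * t) = m * (m - 1)) :
    (i = 1 ∧ m = s ^ c ∧ 2 * o = (m + 1) * (m - 2)) ∨
      (i = 2 ∧ m = 2 * s ^ c ∧ 2 * o = (m + 1) * (s ^ c - 1)) := by
  have hsx : s ∣ s ^ c := dvd_pow_self s (by omega)
  have hx2 : 2 ≤ s ^ c := hs.two_le.trans (Nat.le_of_dvd (pow_pos hs.pos c) hsx)
  have hgt := fun h : 2 < s ^ c => dvd_of_pow_dvd (o := o) hs h
  generalize s ^ c = x at *
  obtain ⟨t', rfl⟩ := hti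
  have hmk : m = (t * t' * b') * x := by rw [hmi, hb]; ring
  have hpos : 0 < t * t' * b' := by
    rcases Nat.eq_zero_or_pos (t * t' * b') with h0 | h0
    · rw [h0] at hmk; omega
    · exact h0
  have ht0 : 0 < t := Nat.pos_of_ne_zero (by rintro rfl; simp at hpos)
  have ht'0 : 0 < t' := Nat.pos_of_ne_zero (by rintro rfl; simp at hpos)
  have hb'0 : 0 < b' := Nat.pos_of_ne_zero (by rintro rfl; simp at hpos)
  rcases hd with hd | hd | hd
  · -- size `m / t`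
    exfalso
    apply hso
    have h1 : o * t = (x * b' * t') * t := by rw [hd, hmk]; ring
    have h2 : o = x * b' * t' := Nat.eq_of_mul_eq_mul_right ht0 h1
    rw [h2]
    exact dvd_mul_of_dvd_left (dvd_mul_of_dvd_left hsx _) _
  · obtain ⟨k, hk⟩ : ∃ k, k = t * t' * b' := ⟨_, rfl⟩
    have htk : t ∣ k := by rw [hk, mul_assoc]; exact dvd_mul_right _ _
    rw [← hk] at hmk
    have htm : t ∣ m := htk.trans (by rw [hmk]; exact dvd_mul_right _ _)
    have h3 : (m + 1) * (m - 2) + 2 = m * (m - 1) := by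
      obtain ⟨y, rfl⟩ := Nat.exists_eq_add_of_le hm
      rw [show 19 + y - 2 = 17 + y by omega, show 19 + y - 1 = 18 + y by omega]
      ring
    have ht2 : t ∣ 2 := by
      have h4 : t ∣ (m + 1) * (m - 2) := by rw [← hd]; exact dvd_mul_of_dvd_right (dvd_mul_left _ _) _
      exact (Nat.dvd_add_right h4).1 (h3 ▸ dvd_mul_of_dvd_left htm _)
    have h5 : 2 * (o * t) + 2 + m = m * m := by
      rw [hd, h3]
      obtain ⟨y, rfl⟩ := Nat.exists_eq_add_of_le hm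
      rw [show 19 + y - 1 = 18 + y by omega]
      ring
    have hk0 : 0 < k := by rw [hk]; exact hpos
    rcases (Nat.dvd_prime Nat.prime_two).1 ht2 with rfl | rfl
    · -- `t = 1`
      have hk1 : k = 1 := by
        by_contra hk1
        have hk2 : 2 ≤ k := by omega
        rw [hmk] at h5
        have h6 : 2 * x ^ 2 + k * x ≥ k * x * (k * x) := by linarith only [ho, h5]
        nlinarith only [hm, ho, hmk, h5, Nat.mul_le_mul hk2 hk2]
      left
      subst hk1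
      have h7 : t' = 1 ∧ b' = 1 := by
        have h8 : t' * b' = 1 := by rw [hk]; ring
        exact ⟨Nat.eq_one_of_mul_eq_one_right h8, Nat.eq_one_of_mul_eq_one_left h8⟩
      refine ⟨by rw [h7.1], by rw [hmk, one_mul], by rw [← hd, mul_one]⟩
    · have hk2 : k = 2 := by
        have hkle : k < 3 := by
          by_contra hk3
          push Not at hk3
          rw [hmk] at h5
          have h6 : 4 * x ^ 2 + k * x ≥ k * x * (k * x) + 2 := by linarith only [ho, h5]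
          nlinarith only [hm, ho, hmk, h5, Nat.mul_le_mul hk3 hk3]
        have := Nat.le_of_dvd hk0 htk
        omega
      right
      subst hk2
      have h7 : t' = 1 ∧ b' = 1 := by
        have h8 : t' * b' = 1 := by
          rw [mul_assoc] at hk
          omega
        exact ⟨Nat.eq_one_of_mul_eq_one_right h8, Nat.eq_one_of_mul_eq_one_left h8⟩
      refine ⟨by rw [h7.1], hmk, ?_⟩
      have h9 : (m + 1) * (m - 2) = 2 * ((m + 1) * (x - 1)) := by
        rw [hmk, show 2 * x - 2 = 2 * (x - 1) by (clear * -; omega)]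
        ring
      rw [h9] at hd
      have h10 : o * 2 = (m + 1) * (x - 1) := Nat.eq_of_mul_eq_mul_left (by norm_num) hd
      rw [← h10]; ring
  · exfalso
    obtain ⟨k, hk⟩ : ∃ k, k = t * t' * b' := ⟨_, rfl⟩
    have htk : t ∣ k := by rw [hk, mul_assoc]; exact dvd_mul_right _ _
    rw [← hk] at hmk
    have hk0 : 0 < k := by rw [hk]; exact hpos
    have htle : t ≤ k := Nat.le_of_dvd hk0 htk
    have h5 : 2 * (o * t) + m = m * m := by
      rw [hd]
      obtain ⟨y, rfl⟩ := Nat.exists_eq_add_of_le hm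
      rw [show 19 + y - 1 = 18 + y by omega]
      ring
    have hkle : k < 3 := by
      by_contra hk3
      push Not at hk3
      rw [hmk] at h5
      have h6 : o * t ≤ o * k := Nat.mul_le_mul_left _ htle
      have h7 : k * (k * x * x) ≤ k * (2 * o + x) := by linarith only [h5, h6]
      have h8 : k * x * x ≤ 2 * o + x := Nat.le_of_mul_le_mul_left h7 hk0
      have h9 : 3 * (x * x) ≤ k * x * x := by linarith only [Nat.mul_le_mul_right (x * x) hk3]
      nlinarith only [ho, h8, h9]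
    have hxgt : 2 < x := by
      by_contra hx
      have : x = 2 := by omega
      subst this
      omega
    -- `x ∣ 2 o`
    have h11 : x ∣ 2 * o := by
      have hk12 : k = 1 ∨ k = 2 := by omega
      rcases hk12 with rfl | rfl
      · have ht1 : t = 1 := by omega
        subst ht1
        rw [mul_one] at hd
        rw [hd, hmk, one_mul]
        exact dvd_mul_right _ _
      · have ht12 : t = 1 ∨ t = 2 := by omega
        rcases ht12 with rfl | rfl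
        · rw [mul_one] at hd
          rw [hd, hmk, mul_comm 2 x, mul_assoc]
          exact dvd_mul_right _ _
        · have h12 : 2 * (o * 2) = 2 * (x * (m - 1)) := by
            rw [hd]
            nth_rewrite 1 [hmk]
            ring
          have h13 : o * 2 = x * (m - 1) := Nat.eq_of_mul_eq_mul_left (by norm_num) h12
          rw [mul_comm 2 o, h13]
          exact dvd_mul_right _ _
    exact hso (hgt hxgt h11)

/-- a degree `< m ^ 2` -/
theorem low_cases {n d : ℕ} (hn : 20 ≤ n) (h1 : d ≠ 1) (hlt : d < (n - 1) ^ 2)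
    (h : d = 1 ∨ d = n - 1 ∨ 2 * d = n * (n - 3) ∨ 2 * d = (n - 1) * (n - 2) ∨ 6 * d = n * (n - 1) * (n - 5) ∨
      3 * d = n * (n - 2) * (n - 4) ∨ 6 * d = (n - 1) * (n - 2) * (n - 3) ∨ (n - 1) ^ 3 < 2 * d) :
    d = n - 1 ∨ 2 * d = (n - 1 + 1) * (n - 1 - 2) ∨ 2 * d = (n - 1) * (n - 1 - 1) := by
  obtain ⟨y, rfl⟩ := Nat.exists_eq_add_of_le hn
  rw [show 20 + y - 1 = 19 + y by omega] at *
  rw [show 20 + y - 3 = 17 + y by omega, show 20 + y - 2 = 18 + y by omega, show 20 + y - 5 = 15 + y by omega,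
    show 20 + y - 4 = 16 + y by omega] at h
  rw [show 19 + y + 1 = 20 + y by omega, show 19 + y - 2 = 17 + y by omega, show 19 + y - 1 = 18 + y by omega]
  rcases h with h | h | h | h | h | h | h | h
  · exact absurd h h1
  · exact Or.inl h
  · exact Or.inr (Or.inl h)
  · exact Or.inr (Or.inr h)
  · exfalso; nlinarith
  · exfalso; nlinarith
  · exfalso; nlinarith
  · exfalso
    have : (19 + y) ^ 3 = (19 + y) * (19 + y) ^ 2 := by ring
    nlinarith

end Cfsg.Agent.H107.AN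
end

-- part: H107/AN/BFour
section
/-!
# S4766 B4: a character of degree `n - 1` of a solvable group with the degrees of `A_n` (helper107)

`b4_of` : the statement B4 from A3, A4, A6, B1, B2, B3 (as hypotheses).
-/

set_option autoImplicit false

namespace Cfsg.Agent.H107.AN

open Cfsg Cfsg.Agent.Characters.Core Cfsg.Agent.H691.AN Cfsg.Agent.H424.DegTools

universe u v

/-- the statement of A3 -/
def A3 : Prop := ∀ {n : ℕ}, 20 ≤ n → ∀ {d : ℕ}, d ∈ D n →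
    d = 1 ∨ d = n - 1 ∨ 2 * d = n * (n - 3) ∨ 2 * d = (n - 1) * (n - 2) ∨ 6 * d = n * (n - 1) * (n - 5) ∨
      3 * d = n * (n - 2) * (n - 4) ∨ 6 * d = (n - 1) * (n - 2) * (n - 3) ∨ (n - 1) ^ 3 < 2 * d

/-- the statement of A4 -/
def A4 : Prop := ∀ {n : ℕ}, 7 ≤ n → n - 1 ∈ D n ∧ n * (n - 3) / 2 ∈ D n ∧ (n - 1) * (n - 2) / 2 ∈ D n

/-- the statement of A6 -/
def A6 : Prop := ∀ {n : ℕ}, 7 ≤ n → ∀ {d : ℕ}, d ∈ D n → d = 1 ∨ n - 1 ≤ d

/-- the statement of B1 -/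
def B1 : Prop := ∀ {G : Type u} [Group G] [Finite G] {m : ℕ}, (∀ d ∈ charDegrees G, d = 1 ∨ m ≤ d) →
  ∀ (H : Subgroup G), H.index ≤ m → commutator G ≤ H

/-- the statement of B2 -/
def B2 : Prop := ∀ {G : Type u} [Group G] [Fintype G] {χ : G → ℂ}, IsIrrCharacter G χ →
    ∃ (H : Subgroup G) (lam : H → ℂ), IsIrrCharacter H lam ∧ QP lam ∧ indFun H lam = χ

/-- the statement of B3 -/
def B3 : Prop := ∀ {H : Type u} [Group H] [Finite H] [Group.IsSolvable H] {lam : H → ℂ}, IsIrrCharacter H lam →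
    QP lam → ∀ {b : ℕ}, lam 1 = b → b ≠ 1 →
    ∃ (s c : ℕ) (V : Type u) (_ : CommGroup V) (_ : Finite V) (_ : MulDistribMulAction H V), s.Prime ∧ 1 ≤ c ∧
      Nat.card V = s ^ (2 * c) ∧ s ^ c ∣ b ∧
      (∀ W : Subgroup V, (∀ h : H, ∀ w ∈ W, h • w ∈ W) → W = ⊥ ∨ W = ⊤) ∧
      ∀ v : V, v ≠ 1 → (MulAction.stabilizer H v).index ≠ 1 ∧ (MulAction.stabilizer H v).index ∈ charDegrees H

section Orb

variable {H : Type u} [Group H] {V : Type v} [CommGroup V] [Finite V] [MulDistribMulAction H V]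

/-- an invariant subset can be enlarged by an orbit -/
theorem add_orbit {A : Set V} (hinv : ∀ (h : H), ∀ a ∈ A, h • a ∈ A) {v : V} (hv : v ∉ A) :
    (∀ (h : H), ∀ a ∈ A ∪ MulAction.orbit H v, h • a ∈ A ∪ MulAction.orbit H v) ∧
      (A ∪ MulAction.orbit H v).ncard = A.ncard + (MulAction.stabilizer H v).index := by
  constructor
  · rintro h a (ha | ha)
    · exact Or.inl (hinv h a ha)
    · right
      obtain ⟨g, rfl⟩ := ha
      exact ⟨h * g, mul_smul h g v⟩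
  · rw [Set.ncard_union_eq _ (Set.toFinite _) (Set.toFinite _), MulAction.index_stabilizer]
    rw [Set.disjoint_left]
    rintro a ha ⟨g, hg⟩
    have h1 := hinv g⁻¹ a ha
    rw [← hg] at h1
    simp only [inv_smul_smul] at h1
    exact hv h1

omit [Finite V] in
theorem inv_one (h : H) : ∀ a ∈ ({1} : Set V), h • a ∈ ({1} : Set V) := by
  intro a ha
  rw [Set.mem_singleton_iff] at ha ⊢
  rw [ha, smul_one]

omit [CommGroup V] [Finite V] in
theorem exists_not_mem {A : Set V} (hlt : A.ncard < Nat.card V) : ∃ v, v ∉ A := by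
  by_contra hcon
  push Not at hcon
  have : A = Set.univ := Set.eq_univ_of_forall hcon
  rw [this, Set.ncard_univ] at hlt
  exact lt_irrefl _ hlt

omit [CommGroup V] in
theorem ncard_le (A : Set V) : A.ncard ≤ Nat.card V := by
  rw [← Set.ncard_univ]
  exact Set.ncard_le_ncard (Set.subset_univ A) (Set.toFinite _)

theorem dvd_aux {s : ℕ} (hs : ∀ v : V, v ≠ 1 → s ∣ (MulAction.stabilizer H v).index) :
    ∀ (k : ℕ) (A : Set V), (∀ (h : H), ∀ a ∈ A, h • a ∈ A) → (1 : V) ∈ A → Nat.card V ≤ A.ncard + k →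
      s ∣ A.ncard - 1 → s ∣ Nat.card V - 1 := by
  intro k
  induction k with
  | zero =>
    intro A _ _ hle hd
    rw [le_antisymm (by simpa only [_root_.add_zero] using hle) (ncard_le A)]
    exact hd
  | succ k ih =>
    intro A hA h1 hle hd
    by_cases hlt : A.ncard < Nat.card V
    · obtain ⟨v, hv⟩ := exists_not_mem hlt
      obtain ⟨h2, h3⟩ := add_orbit (H := H) hA hv
      have hpos : 0 < (MulAction.stabilizer H v).index := by
        rw [MulAction.index_stabilizer, Set.ncard_pos (Set.toFinite _)]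
        exact MulAction.nonempty_orbit v
      have hA1 : 0 < A.ncard := (Set.ncard_pos (Set.toFinite _)).2 ⟨1, h1⟩
      refine ih _ h2 (Or.inl h1) (by omega) ?_
      rw [h3, show A.ncard + (MulAction.stabilizer H v).index - 1 =
        (A.ncard - 1) + (MulAction.stabilizer H v).index by omega]
      refine dvd_add hd (hs v ?_)
      rintro rfl
      exact hv h1
    · rw [show Nat.card V = A.ncard by exact le_antisymm (not_lt.1 hlt) (ncard_le A)]
      exact hd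

/-- an orbit of size prime to `s` -/
theorem exists_not_dvd {s : ℕ} (hs : s.Prime) (hV : s ∣ Nat.card V) :
    ∃ v : V, v ≠ 1 ∧ ¬ s ∣ (MulAction.stabilizer H v).index := by
  by_contra hcon
  push Not at hcon
  have h1 := dvd_aux (H := H) hcon (Nat.card V) {1} inv_one rfl (by omega) (by simp)
  have hpos : 0 < Nat.card V := Nat.card_pos
  have h2 : s ∣ 1 := by
    have h3 : Nat.card V = (Nat.card V - 1) + 1 := by omega
    rw [h3] at hV
    exact (Nat.dvd_add_right h1).1 hV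
  exact hs.one_lt.ne' (Nat.dvd_one.1 h2)

end Orb

section Main

variable {G : Type u} [Group G] [Finite G]

/-- the contradiction for a character which is not induced from a linear character -/
theorem no_section (a3 : A3) (a6 : A6) (b1 : B1.{u}) {n : ℕ} (hn : 20 ≤ n) (h : charDegrees G = D n)
    (H : Subgroup G) [H.Normal] {b : ℕ} (hmi : n - 1 = H.index * b) {s c : ℕ} {V : Type u} [CommGroup V] [Finite V]
    [MulDistribMulAction H V] (hs : s.Prime) (hc : 1 ≤ c) (hV : Nat.card V = s ^ (2 * c)) (hb : s ^ c ∣ b)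
    (hirr : ∀ W : Subgroup V, (∀ h : H, ∀ w ∈ W, h • w ∈ W) → W = ⊥ ∨ W = ⊤)
    (horb : ∀ v : V, v ≠ 1 → (MulAction.stabilizer H v).index ≠ 1 ∧
      (MulAction.stabilizer H v).index ∈ charDegrees H) : False := by
  obtain ⟨m, hm⟩ : ∃ m, m = n - 1 := ⟨_, rfl⟩
  have hm19 : 19 ≤ m := by omega
  have hVx : Nat.card V = (s ^ c) ^ 2 := by rw [hV, ← pow_mul, mul_comm]
  have hxm : s ^ c * H.index ≤ m := by
    rw [hm, hmi, mul_comm]
    refine Nat.mul_le_mul_left _ (Nat.le_of_dvd ?_ hb)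
    rcases Nat.eq_zero_or_pos b with h0 | h0
    · rw [h0] at hmi; omega
    · exact h0
  have hi0 : 0 < H.index := by
    rcases Nat.eq_zero_or_pos H.index with h0 | h0
    · rw [h0] at hmi; omega
    · exact h0
  -- the sizes of the orbits
  have hle : ∀ v : V, v ≠ 1 → (MulAction.stabilizer H v).index + 1 ≤ (s ^ c) ^ 2 := by
    intro v hv
    have h1 := (add_orbit (H := H) (A := {1}) inv_one (v := v) (by simpa using hv)).2
    have h2 := ncard_le ({1} ∪ MulAction.orbit H v)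
    rw [h1, Set.ncard_singleton, hVx] at h2
    omega
  have hcase : ∀ v : V, v ≠ 1 → ∃ t, t ∣ H.index ∧ ((MulAction.stabilizer H v).index * t = m ∨
      2 * ((MulAction.stabilizer H v).index * t) = (m + 1) * (m - 2) ∨
      2 * ((MulAction.stabilizer H v).index * t) = m * (m - 1)) := by
    intro v hv
    obtain ⟨ho1, ho⟩ := horb v hv
    have hopos := pos_of_mem ho
    obtain ⟨d, hd, hod, hdi⟩ := clifford_up H ho
    rw [h] at hd
    obtain ⟨t, rfl⟩ := hod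
    rw [Nat.mul_div_cancel_left _ hopos] at hdi
    refine ⟨t, hdi, ?_⟩
    have ht : t ≤ H.index := Nat.le_of_dvd hi0 hdi
    have ht0 : t ≠ 0 := by
      rintro rfl
      rw [zero_dvd_iff] at hdi
      omega
    rw [hm]
    refine low_cases hn ?_ ?_ (a3 hn hd)
    · intro h1
      exact ho1 (Nat.eq_one_of_mul_eq_one_right h1)
    · rw [← hm]
      have h1 := hle v hv
      have hi1 : s ^ c ≤ m := (Nat.le_mul_of_pos_right _ hi0).trans hxm
      calc (MulAction.stabilizer H v).index * t < (s ^ c) ^ 2 * t :=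
            Nat.mul_lt_mul_of_pos_right (by omega) (Nat.pos_of_ne_zero ht0)
        _ ≤ (s ^ c) ^ 2 * H.index := Nat.mul_le_mul_left _ ht
        _ = s ^ c * (s ^ c * H.index) := by ring
        _ ≤ m * m := Nat.mul_le_mul hi1 hxm
        _ = m ^ 2 := by ring
  -- an orbit of size prime to `s`
  have hsV : s ∣ Nat.card V := by rw [hV]; exact dvd_pow_self s (by omega)
  obtain ⟨v₁, hv₁, hsv⟩ := exists_not_dvd (H := H) hs hsV
  obtain ⟨t, hti, hd⟩ := hcase v₁ hv₁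
  obtain ⟨b', hb'⟩ := hb
  have hadd := add_orbit (H := H) (A := {1}) inv_one (v := v₁) (by simpa using hv₁)
  rw [Set.ncard_singleton] at hadd
  rcases special hm19 hs hc (hm.trans hmi) hb' hti hsv (hle v₁ hv₁) hd with ⟨hi, hx, ho⟩ | ⟨hi, hx, ho⟩
  · -- `s ^ c = m`, `H = G`
    rw [← hx] at hVx
    have hHt : H = ⊤ := Subgroup.index_eq_one.1 hi
    have hcd : charDegrees H = charDegrees G := by
      apply charDegrees_congr
      exact (MulEquiv.subgroupCongr hHt).trans Subgroup.topEquiv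
    have hdeg : ∀ d ∈ charDegrees H, d = 1 ∨ m ≤ d := by
      intro d hd
      rw [hcd, h] at hd
      rw [hm]
      exact a6 (by omega) hd
    have hcase' : ∀ v : V, v ≠ 1 → (MulAction.stabilizer H v).index = m ∨
        (m + 1) * (m - 2) ≤ 2 * (MulAction.stabilizer H v).index := by
      intro v hv
      obtain ⟨t, hti, hd⟩ := hcase v hv
      rw [hi, Nat.dvd_one] at hti
      subst hti
      rw [mul_one] at hd
      rcases hd with hd | hd | hd
      · exact Or.inl hd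
      · exact Or.inr hd.ge
      · right
        rw [hd]
        obtain ⟨y, rfl⟩ := Nat.exists_eq_add_of_le hm19
        rw [show 19 + y - 2 = 17 + y by omega, show 19 + y - 1 = 18 + y by omega]
        linarith only []
    -- an orbit of size `m`
    have key : ∃ v : V, v ≠ 1 ∧ (MulAction.stabilizer H v).index = m := by
      by_contra hcon
      push Not at hcon
      have hall : ∀ v : V, v ≠ 1 → (m + 1) * (m - 2) ≤ 2 * (MulAction.stabilizer H v).index := fun v hv =>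
        (hcase' v hv).resolve_left (hcon v hv)
      have hup : ∀ v : V, v ≠ 1 → 2 * (MulAction.stabilizer H v).index ≤ m * (m - 1) := by
        intro v hv
        obtain ⟨t, hti, hd⟩ := hcase v hv
        rw [hi, Nat.dvd_one] at hti
        subst hti
        rw [mul_one] at hd
        rcases hd with hd | hd | hd
        · exact absurd hd (hcon v hv)
        · rw [hd]
          obtain ⟨y, rfl⟩ := Nat.exists_eq_add_of_le hm19
          rw [show 19 + y - 2 = 17 + y by omega, show 19 + y - 1 = 18 + y by omega]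
          linarith only []
        · exact hd.le
      have hnum : m * (m - 1) + m = m ^ 2 := by
        obtain ⟨y, rfl⟩ := Nat.exists_eq_add_of_le hm19
        rw [show 19 + y - 1 = 18 + y by omega]
        ring
      have hnum2 : (m + 1) * (m - 2) + m + 2 = m ^ 2 := by
        obtain ⟨y, rfl⟩ := Nat.exists_eq_add_of_le hm19
        rw [show 19 + y - 2 = 17 + y by omega]
        ring
      have hnum3 : 19 * m ≤ m ^ 2 := by nlinarith only [hm19]
      have h1 : ({1} ∪ MulAction.orbit H v₁).ncard < Nat.card V := by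
        rw [hadd.2, hVx]
        omega
      obtain ⟨v₂, hv₂⟩ := exists_not_mem h1
      have hv₂1 : v₂ ≠ 1 := by
        rintro rfl
        exact hv₂ (Or.inl rfl)
      have hadd₂ := add_orbit (H := H) hadd.1 hv₂
      have hu₂ := hup v₂ hv₂1
      have hl₂ := hall v₂ hv₂1
      have h2 : ({1} ∪ MulAction.orbit H v₁ ∪ MulAction.orbit H v₂).ncard < Nat.card V := by
        rw [hadd₂.2, hadd.2, hVx]
        omega
      obtain ⟨v₃, hv₃⟩ := exists_not_mem h2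
      have hv₃1 : v₃ ≠ 1 := by
        rintro rfl
        exact hv₃ (Or.inl (Or.inl rfl))
      have hadd₃ := add_orbit (H := H) hadd₂.1 hv₃
      have hl₃ := hall v₃ hv₃1
      have h3 := ncard_le ({1} ∪ MulAction.orbit H v₁ ∪ MulAction.orbit H v₂ ∪ MulAction.orbit H v₃)
      rw [hadd₃.2, hadd₂.2, hadd.2, hVx] at h3
      (clear * - hm19 ho hnum2 hnum3 hl₂ hl₃ h3; omega)
    obtain ⟨v₃, hv₃, ho₃⟩ := key
    have hT := b1 hdeg (MulAction.stabilizer H v₃) ho₃.le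
    have hTn : (MulAction.stabilizer H v₃).Normal := Subgroup.Normal.of_commutator_le _ hT
    -- the fixed points
    let W : Subgroup V :=
      { carrier := {w | ∀ g ∈ MulAction.stabilizer H v₃, g • w = w}
        one_mem' := fun g _ => smul_one g
        mul_mem' := fun {a b} ha hb g hg => by rw [smul_mul', ha g hg, hb g hg]
        inv_mem' := fun {a} ha g hg => by rw [smul_inv', ha g hg] }
    have hW : W = ⊤ := by
      refine (hirr W ?_).resolve_left ?_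
      · intro g w hw t ht
        have h1 := hw (g⁻¹ * t * g) (by
          have := hTn.conj_mem t ht g⁻¹
          rwa [inv_inv] at this)
        calc t • g • w = g • (g⁻¹ * t * g) • w := by
              simp only [mul_smul, smul_inv_smul]
          _ = g • w := by rw [h1]
      · intro hbot
        have h1 : v₃ ∈ W := fun g hg => hg
        rw [hbot, Subgroup.mem_bot] at h1
        exact hv₃ h1
    have hle' : MulAction.stabilizer H v₃ ≤ MulAction.stabilizer H v₁ := by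
      intro g hg
      have h1 : v₁ ∈ W := by rw [hW]; exact Subgroup.mem_top _
      exact h1 g hg
    have h4 : (MulAction.stabilizer H v₁).index ≤ m := by
      rw [← ho₃]
      exact Nat.le_of_dvd (by omega) (Subgroup.index_dvd_of_le hle')
    obtain ⟨y, rfl⟩ := Nat.exists_eq_add_of_le hm19
    rw [show 19 + y - 2 = 17 + y by omega] at ho
    nlinarith only [ho, h4]
  · -- `s ^ c = m / 2`
    have hlow : ∀ v : V, v ≠ 1 → s ^ c ≤ (MulAction.stabilizer H v).index := by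
      intro v hv
      obtain ⟨t, hti, hd⟩ := hcase v hv
      rw [hi] at hti
      have ht2 : t ≤ 2 := Nat.le_of_dvd (by norm_num) hti
      have h1 : (MulAction.stabilizer H v).index * t ≤ (MulAction.stabilizer H v).index * 2 :=
        Nat.mul_le_mul_left _ ht2
      have h2 : m ≤ (MulAction.stabilizer H v).index * t := by
        rcases hd with hd | hd | hd
        · exact hd.ge
        · obtain ⟨y, rfl⟩ := Nat.exists_eq_add_of_le hm19
          rw [show 19 + y - 2 = 17 + y by omega] at hd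
          nlinarith only [hd]
        · obtain ⟨y, rfl⟩ := Nat.exists_eq_add_of_le hm19
          rw [show 19 + y - 1 = 18 + y by omega] at hd
          nlinarith only [hd]
      omega
    have hnum : (m + 1) * (s ^ c - 1) + s ^ c + 1 = 2 * (s ^ c) ^ 2 := by
      have h9 : 1 ≤ s ^ c := by omega
      rw [hx]
      generalize s ^ c = x at *
      obtain ⟨y, rfl⟩ := Nat.exists_eq_add_of_le h9
      rw [show 1 + y - 1 = y by omega]
      ring
    have h1 : ({1} ∪ MulAction.orbit H v₁).ncard < Nat.card V := by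
      rw [hadd.2, hVx]
      omega
    obtain ⟨v₂, hv₂⟩ := exists_not_mem h1
    have hv₂1 : v₂ ≠ 1 := by
      rintro rfl
      exact hv₂ (Or.inl rfl)
    have hadd₂ := add_orbit (H := H) hadd.1 hv₂
    have hl₂ := hlow v₂ hv₂1
    have h2 := ncard_le ({1} ∪ MulAction.orbit H v₁ ∪ MulAction.orbit H v₂)
    rw [hadd₂.2, hadd.2, hVx] at h2
    omega

omit [Finite G] in
/-- an induced linear character of a normal subgroup is trivial on the derived group -/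
theorem indFun_lin [Fintype G] (H : Subgroup G) [H.Normal] {lam : H → ℂ} (hl : IsIrrCharacter H lam)
    (h1 : lam 1 = 1) {g : G} (hg : g ∈ ⁅H, H⁆) : indFun H lam g = indFun H lam 1 := by
  obtain ⟨f, hf⟩ := Characters.Linear.exists_hom_of_isIrrCharacter hl h1
  have hker : ∀ x : G, ∀ hx : x ∈ H, x ∈ ⁅H, H⁆ → lam ⟨x, hx⟩ = 1 := by
    intro x hx hx'
    rw [← Subgroup.map_subtype_commutator] at hx'
    obtain ⟨y, hy, hyx⟩ := hx'
    have hyx' : y = ⟨x, hx⟩ := Subtype.ext hyx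
    rw [← hyx', hf]
    have h2 : f y = 1 := Abelianization.commutator_subset_ker f hy
    show (f y : ℂ) = 1
    rw [h2, Units.val_one]
  have hn : (⁅H, H⁆ : Subgroup G).Normal := Subgroup.commutator_normal H H
  have hval : ∀ y ∈ ⁅H, H⁆, ∀ x : G, extendByZero H lam (x⁻¹ * y * x) = 1 := by
    intro y hy x
    have h3 : x⁻¹ * y * x ∈ ⁅H, H⁆ := by
      have := hn.conj_mem y hy x⁻¹
      rwa [inv_inv] at this
    have h4 : x⁻¹ * y * x ∈ H := Subgroup.commutator_le_self H h3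
    rw [extendByZero_of_mem H lam h4]
    exact hker _ h4 h3
  show (Nat.card H : ℂ)⁻¹ * ∑ x : G, extendByZero H lam (x⁻¹ * g * x) =
    (Nat.card H : ℂ)⁻¹ * ∑ x : G, extendByZero H lam (x⁻¹ * 1 * x)
  congr 1
  refine Finset.sum_congr rfl fun x _ => ?_
  rw [hval g hg x, hval 1 (one_mem _) x]

/-- **B4** from A3, A4, A6, B1, B2, B3 -/
theorem b4_of (a3 : A3) (a4 : A4) (a6 : A6) (b1 : B1.{u}) (b2 : B2.{u}) (b3 : B3.{u}) {n : ℕ} (hn : 20 ≤ n)
    {G : Type u} [Group G] [Finite G] [Group.IsSolvable G]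
    (h : charDegrees G = D n) : ∃ A : Subgroup G, A.Normal ∧ commutator G ≤ A ∧ A.index = n - 1 ∧
      ∃ χ : G → ℂ, IsIrrCharacter G χ ∧ χ 1 = (n - 1 : ℕ) ∧ ∀ g ∈ ⁅A, A⁆, χ g = χ 1 := by
  classical
  have := Fintype.ofFinite G
  have hmem : n - 1 ∈ charDegrees G := by rw [h]; exact (a4 (by omega)).1
  obtain ⟨χ, hχ, hχ1⟩ := mem_charDegrees.1 hmem
  obtain ⟨H, lam, hl, hqp, hind⟩ := b2 hχ
  obtain ⟨b, hb0, hb⟩ := isIrr_apply_one hl
  have hmi : n - 1 = H.index * b := by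
    have h1 := OddOrderCharacters.IndRes.indFun_apply_one H lam
    rw [hind, hχ1, hb] at h1
    exact_mod_cast h1
  have hle : H.index ≤ n - 1 := by
    rw [hmi]
    exact Nat.le_mul_of_pos_right _ (by omega)
  have hcH : commutator G ≤ H := by
    refine b1 ?_ H hle
    intro d hd
    rw [h] at hd
    exact a6 (by omega) hd
  have hHn : H.Normal := Subgroup.Normal.of_commutator_le _ hcH
  by_cases hb1 : b = 1
  · subst hb1
    refine ⟨H, hHn, hcH, by rw [hmi, mul_one], χ, hχ, hχ1, ?_⟩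
    intro g hg
    rw [← hind]
    exact indFun_lin H hl (by simpa using hb) hg
  · exfalso
    obtain ⟨s, c, V, _, _, _, hs, hc, hV, hsb, hirr, horb⟩ := b3 hl hqp hb hb1
    exact no_section a3 a6 b1 hn h H hmi hs hc hV hsb hirr horb

end Main

end Cfsg.Agent.H107.AN
end

-- part: H131/AN/B3
section
/-!
# S4766, piece B3: the section of a quasi-primitive character of a solvable group

`lam` is an irreducible quasi-primitive (all restrictions to normal subgroups homogeneous) character of the solvable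
group `H`, of degree `b ≠ 1`.  `Z` is its centre, `E / Z` a minimal normal subgroup of `H / Z`.  The commutator pairing
`E × E → ℂ`, `(a, x) ↦ k (a x a⁻¹ x⁻¹)` with `k = lam / b` has radical `Z`; so `|E / Z| = ε(1)²` for the constituent `ε`
of `lam` on `E`, and each nontrivial element of `E / Z` gives a linear character of its stabilizer which induces
irreducibly.
-/

set_option autoImplicit false

open Cfsg
open scoped ComplexConjugate commutatorElement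

namespace Cfsg.Agent.H131.AN

open Cfsg.Agent.H691.AN Cfsg.Agent.Characters.Core Cfsg.Agent.OddOrderCharacters.IndRes
  Cfsg.Agent.OddOrderCharacters.NormalInduced Cfsg.Agent.OddOrderCharacters.PF9

universe u

variable {H : Type u} [Group H]

/-- the normalized character -/
noncomputable def kf (lam : H → ℂ) (x : H) : ℂ := lam x / lam 1

/-- `z` acts as a scalar -/
def Sc (lam : H → ℂ) (z : H) : Prop := ∀ x, kf lam (z * x) = kf lam z * kf lam x

section basic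

variable {lam : H → ℂ}

theorem kf_one (h1 : lam 1 ≠ 0) : kf lam 1 = 1 := div_self h1

theorem kf_conj (hc : IsClassFunction H lam) (g x : H) : kf lam (g * x * g⁻¹) = kf lam x := by
  unfold kf
  rw [show lam (g * x * g⁻¹) = lam x from hc x g]

theorem kf_comm (hc : IsClassFunction H lam) (g x : H) : kf lam (g * x) = kf lam (x * g) := by
  have := kf_conj hc g (x * g)
  rw [← this]
  congr 1
  group

theorem Sc.inv_mul (h1 : lam 1 ≠ 0) {z : H} (hz : Sc lam z) : kf lam z * kf lam z⁻¹ = 1 := by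
  rw [← hz z⁻¹, mul_inv_cancel, kf_one h1]

theorem Sc.ne_zero (h1 : lam 1 ≠ 0) {z : H} (hz : Sc lam z) : kf lam z ≠ 0 := by
  intro h
  have := hz.inv_mul h1
  rw [h, zero_mul] at this
  exact zero_ne_one this

theorem Sc.mul_right (hc : IsClassFunction H lam) {z : H} (hz : Sc lam z) (x : H) :
    kf lam (x * z) = kf lam x * kf lam z := by
  rw [kf_comm hc, hz x, mul_comm]

/-- the centre of the character -/
def ZZ (lam : H → ℂ) (h1 : lam 1 ≠ 0) : Subgroup H where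
  carrier := {z | Sc lam z}
  one_mem' := by
    intro x
    rw [one_mul, kf_one h1, one_mul]
  mul_mem' := by
    intro a b ha hb x
    rw [mul_assoc, ha (b * x), hb x, ha b, mul_assoc]
  inv_mem' := by
    intro a ha x
    have h2 := ha (a⁻¹ * x)
    rw [mul_inv_cancel_left] at h2
    rw [h2, ← mul_assoc, mul_comm (kf lam a⁻¹), Sc.inv_mul h1 ha, one_mul]

theorem mem_ZZ {h1 : lam 1 ≠ 0} {z : H} : z ∈ ZZ lam h1 ↔ Sc lam z := Iff.rfl

theorem ZZ_normal (h1 : lam 1 ≠ 0) (hc : IsClassFunction H lam) : (ZZ lam h1).Normal := by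
  refine ⟨fun z hz g x => ?_⟩
  have h2 : g * z * g⁻¹ * x = g * (z * (g⁻¹ * x * g)) * g⁻¹ := by group
  have h3 : g⁻¹ * x * g = g⁻¹ * x * (g⁻¹)⁻¹ := by group
  rw [h2, kf_conj hc, kf_conj hc, hz, h3, kf_conj hc]

end basic

/-- the scalar elements are those of maximal absolute value -/
theorem sc_of_norm [Finite H] {lam : H → ℂ} (hl : IsIrrCharacter H lam) {z : H} (h : ‖lam z‖ = ‖lam 1‖) :
    Sc lam z := by
  obtain ⟨n, ρ, hρ, rfl⟩ := hl
  have h1 : ‖ρ.character z‖ = (Module.finrank ℂ (Fin n → ℂ) : ℝ) := by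
    rw [h, Representation.char_one]
    simp only [_root_.Module.finrank_fintype_fun_eq_card, _root_.Fintype.card_fin, _root_.RCLike.norm_natCast]
  obtain ⟨w, hw⟩ := (Characters.Values.norm_character_eq_iff ρ z).1 h1
  have h2 : ∀ x, ρ.character (z * x) = w * ρ.character x := by
    intro x
    rw [Representation.character, map_mul, hw]
    have : w • (LinearMap.id : (Fin n → ℂ) →ₗ[ℂ] (Fin n → ℂ)) * ρ x = w • ρ x := by
      ext v
      simp only [_root_.Algebra.smul_mul_assoc, _root_.LinearMap.coe_comp, _root_.LinearMap.coe_smul, _root_.LinearMap.coe_single, _root_.Function.comp_apply, _root_.Pi.smul_apply, _root_.Module.End.mul_apply, _root_.LinearMap.id_coe, _root_.id_eq, _root_.smul_eq_mul]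
    rw [this, map_smul]
    rfl
  have h3 := h2 1
  rw [mul_one] at h3
  have h10 : ρ.character 1 ≠ 0 := isIrr_apply_one_ne_zero ⟨n, ρ, hρ, rfl⟩
  intro x
  unfold kf
  rw [h2 x, h3, mul_div_cancel_right₀ _ h10, mul_div_assoc]

theorem norm_of_sc [Finite H] {lam : H → ℂ} (h1 : lam 1 ≠ 0) {z : H} (hz : Sc lam z) : ‖lam z‖ = ‖lam 1‖ := by
  have h2 : ∀ n : ℕ, kf lam (z ^ n) = kf lam z ^ n := by
    intro n
    induction n with
    | zero => rw [pow_zero, pow_zero, kf_one h1]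
    | succ n ih => rw [pow_succ', pow_succ', hz, ih]
  have h3 := h2 (Nat.card H)
  rw [pow_card_eq_one', kf_one h1] at h3
  have h4 : ‖kf lam z‖ = 1 := Complex.norm_eq_one_of_pow_eq_one h3.symm Nat.card_pos.ne'
  unfold kf at h4
  rw [norm_div] at h4
  have h5 : ‖lam 1‖ ≠ 0 := norm_ne_zero_iff.2 h1
  rwa [div_eq_one_iff_eq h5] at h4

/-! ### The pairing -/

section pairing

variable {lam : H → ℂ}

theorem pair_mul_right (hc : IsClassFunction H lam) {a x y : H} (hx : Sc lam (a * x * a⁻¹ * x⁻¹)) :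
    kf lam (a * (x * y) * a⁻¹ * (x * y)⁻¹) = kf lam (a * x * a⁻¹ * x⁻¹) * kf lam (a * y * a⁻¹ * y⁻¹) := by
  rw [show a * (x * y) * a⁻¹ * (x * y)⁻¹ = (a * x * a⁻¹ * x⁻¹) * (x * (a * y * a⁻¹ * y⁻¹) * x⁻¹) by group,
    hx, kf_conj hc]

theorem pair_mul_left (hc : IsClassFunction H lam) {a b x : H} (hx : Sc lam (a * x * a⁻¹ * x⁻¹)) :
    kf lam (a * b * x * (a * b)⁻¹ * x⁻¹) = kf lam (a * x * a⁻¹ * x⁻¹) * kf lam (b * x * b⁻¹ * x⁻¹) := by
  rw [show a * b * x * (a * b)⁻¹ * x⁻¹ = (a * (b * x * b⁻¹ * x⁻¹) * a⁻¹) * (a * x * a⁻¹ * x⁻¹) by group,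
    hx.mul_right hc, kf_conj hc, mul_comm]

theorem pair_conj (hc : IsClassFunction H lam) (g a x : H) :
    kf lam (g * a * g⁻¹ * x * (g * a * g⁻¹)⁻¹ * x⁻¹) =
      kf lam (a * (g⁻¹ * x * g) * a⁻¹ * (g⁻¹ * x * g)⁻¹) := by
  rw [show g * a * g⁻¹ * x * (g * a * g⁻¹)⁻¹ * x⁻¹ =
    g * (a * (g⁻¹ * x * g) * a⁻¹ * (g⁻¹ * x * g)⁻¹) * g⁻¹ by group, kf_conj hc]

/-- the radical of the pairing on `E` -/
def Rad (lam : H → ℂ) (h1 : lam 1 ≠ 0) (hc : IsClassFunction H lam) (E : Subgroup H)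
    (hE : ∀ a ∈ E, ∀ x ∈ E, Sc lam (a * x * a⁻¹ * x⁻¹)) : Subgroup H where
  carrier := {a | a ∈ E ∧ ∀ x ∈ E, kf lam (a * x * a⁻¹ * x⁻¹) = 1}
  one_mem' := by
    refine ⟨E.one_mem, fun x _ => ?_⟩
    rw [show (1 : H) * x * 1⁻¹ * x⁻¹ = 1 by group, kf_one h1]
  mul_mem' := by
    rintro a b ⟨ha, ha'⟩ ⟨hb, hb'⟩
    refine ⟨E.mul_mem ha hb, fun x hx => ?_⟩
    rw [pair_mul_left hc (hE a ha x hx), ha' x hx, hb' x hx, one_mul]
  inv_mem' := by
    rintro a ⟨ha, ha'⟩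
    refine ⟨E.inv_mem ha, fun x hx => ?_⟩
    have h2 := pair_mul_left (b := a⁻¹) hc (hE a ha x hx)
    rw [ha' x hx, one_mul, mul_inv_cancel, show (1 : H) * x * 1⁻¹ * x⁻¹ = 1 by group, kf_one h1] at h2
    exact h2.symm

theorem mem_Rad {h1 : lam 1 ≠ 0} {hc : IsClassFunction H lam} {E : Subgroup H}
    {hE : ∀ a ∈ E, ∀ x ∈ E, Sc lam (a * x * a⁻¹ * x⁻¹)} {a : H} :
    a ∈ Rad lam h1 hc E hE ↔ a ∈ E ∧ ∀ x ∈ E, kf lam (a * x * a⁻¹ * x⁻¹) = 1 := Iff.rfl

theorem Rad_normal (h1 : lam 1 ≠ 0) (hc : IsClassFunction H lam) (E : Subgroup H) [hEn : E.Normal]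
    (hE : ∀ a ∈ E, ∀ x ∈ E, Sc lam (a * x * a⁻¹ * x⁻¹)) : (Rad lam h1 hc E hE).Normal := by
  refine ⟨fun a ha g => ?_⟩
  refine ⟨hEn.conj_mem a ha.1 g, fun x hx => ?_⟩
  rw [pair_conj hc]
  apply ha.2
  have := hEn.conj_mem x hx g⁻¹
  rwa [inv_inv] at this

end pairing

/-- the radical consists of scalars, because `lam` is homogeneous on it -/
theorem rad_le [Finite H] {lam : H → ℂ} (hl : IsIrrCharacter H lam) (hqp : QP lam) (h1 : lam 1 ≠ 0)
    (hc : IsClassFunction H lam) (E : Subgroup H) [hEn : E.Normal]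
    (hE : ∀ a ∈ E, ∀ x ∈ E, Sc lam (a * x * a⁻¹ * x⁻¹)) : Rad lam h1 hc E hE ≤ ZZ lam h1 := by
  set R := Rad lam h1 hc E hE with hR
  obtain ⟨θ, e, hθ, he⟩ := hqp R (Rad_normal h1 hc E hE)
  have he0 : (e : ℂ) ≠ 0 := by
    intro h
    apply h1
    have := he 1
    rw [h, zero_mul] at this
    exact this
  -- the kernel of `kf` on the scalars
  let K0 : Subgroup R :=
    { carrier := {z | Sc lam (z : H) ∧ kf lam (z : H) = 1}
      one_mem' := ⟨(ZZ lam h1).one_mem, by rw [Subgroup.coe_one, kf_one h1]⟩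
      mul_mem' := by
        rintro a b ⟨ha, ha'⟩ ⟨hb, hb'⟩
        refine ⟨(ZZ lam h1).mul_mem ha hb, ?_⟩
        rw [Subgroup.coe_mul, ha, ha', hb', one_mul]
      inv_mem' := by
        rintro a ⟨ha, ha'⟩
        refine ⟨(ZZ lam h1).inv_mem ha, ?_⟩
        have := ha.inv_mul h1
        rw [ha', one_mul] at this
        rw [Subgroup.coe_inv, this] }
  have hcomm : commutator R ≤ K0 := by
    rw [commutator_def, Subgroup.commutator_le]
    intro a _ x _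
    have hx : ((x : R) : H) ∈ E := x.2.1
    have ha : ((a : R) : H) ∈ E := a.2.1
    refine ⟨?_, ?_⟩
    · have := hE _ ha _ hx
      simpa only [commutatorElement_def, _root_.Subgroup.coe_mul, _root_.InvMemClass.coe_inv] using this
    · have := a.2.2 _ hx
      simpa only [commutatorElement_def, _root_.Subgroup.coe_mul, _root_.InvMemClass.coe_inv] using this
  have hker : ∀ y ∈ commutator R, θ y = θ 1 := by
    intro y hy
    obtain ⟨hy1, hy2⟩ := hcomm hy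
    unfold kf at hy2
    rw [div_eq_one_iff_eq h1] at hy2
    have h3 := he y
    have h4 := he 1
    rw [Subgroup.coe_one] at h4
    rw [hy2, h4] at h3
    exact (mul_left_cancel₀ he0 h3).symm
  obtain ⟨f, hf⟩ := CliffGen.exists_hom_of_ker hθ hker
  intro x hx
  apply sc_of_norm hl
  have h3 := he ⟨x, hx⟩
  have h4 := he 1
  rw [Subgroup.coe_one] at h4
  have h5 : ‖θ ⟨x, hx⟩‖ = 1 := by rw [hf]; exact Characters.Linear.norm_hom_apply f _
  have h6 : ‖θ 1‖ = 1 := by rw [hf]; exact Characters.Linear.norm_hom_apply f _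
  change lam x = _ at h3
  rw [h3, h4, norm_mul, norm_mul, h5, h6]

theorem le_rad {lam : H → ℂ} (h1 : lam 1 ≠ 0)
    (hc : IsClassFunction H lam) (E : Subgroup H)
    (hE : ∀ a ∈ E, ∀ x ∈ E, Sc lam (a * x * a⁻¹ * x⁻¹)) (hZE : ZZ lam h1 ≤ E) :
    ZZ lam h1 ≤ Rad lam h1 hc E hE := by
  intro z hz
  refine ⟨hZE hz, fun x _ => ?_⟩
  have hz' : Sc lam z := hz
  rw [show z * x * z⁻¹ * x⁻¹ = z * (x * z⁻¹ * x⁻¹) by group, hz', kf_conj hc, hz'.inv_mul h1]

/-- `lam` vanishes on `E` outside its centre -/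
theorem vanish [Finite H] {lam : H → ℂ} (hl : IsIrrCharacter H lam) (hqp : QP lam) (h1 : lam 1 ≠ 0)
    (hc : IsClassFunction H lam) (E : Subgroup H) [hEn : E.Normal]
    (hE : ∀ a ∈ E, ∀ x ∈ E, Sc lam (a * x * a⁻¹ * x⁻¹)) {x : H} (hx : x ∈ E) (hxZ : x ∉ ZZ lam h1) :
    lam x = 0 := by
  have h2 : x ∉ Rad lam h1 hc E hE := fun h => hxZ (rad_le hl hqp h1 hc E hE h)
  rw [mem_Rad, not_and] at h2
  have h3 := h2 hx
  push Not at h3
  obtain ⟨y, hy, hxy⟩ := h3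
  have h4 := hE x hx y hy (y * x * y⁻¹)
  rw [show x * y * x⁻¹ * y⁻¹ * (y * x * y⁻¹) = x by group, kf_conj hc] at h4
  have h5 : kf lam x * (1 - kf lam (x * y * x⁻¹ * y⁻¹)) = 0 := by linear_combination h4
  rcases mul_eq_zero.1 h5 with h | h
  · unfold kf at h
    exact (div_eq_zero_iff.1 h).resolve_right h1
  · exact absurd (by linear_combination -h) hxy

/-- `|E : Z| = ε(1)²` -/
theorem card_sq [Finite H] {lam : H → ℂ} (hl : IsIrrCharacter H lam) (hqp : QP lam) (h1 : lam 1 ≠ 0)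
    (hc : IsClassFunction H lam) (E : Subgroup H) [hEn : E.Normal]
    (hE : ∀ a ∈ E, ∀ x ∈ E, Sc lam (a * x * a⁻¹ * x⁻¹)) (hZE : ZZ lam h1 ≤ E) {b : ℕ} (hb : lam 1 = b) :
    ∃ d : ℕ, d ∣ b ∧ Nat.card E = Nat.card (ZZ lam h1) * d ^ 2 := by
  classical
  obtain ⟨ε, e, hε, he⟩ := hqp E hEn
  obtain ⟨d, hd0, hd⟩ := isIrr_apply_one hε
  have he1 := he 1
  rw [Subgroup.coe_one, hb, hd] at he1
  have hbd : b = e * d := by exact_mod_cast he1
  refine ⟨d, ⟨e, by rw [hbd, mul_comm]⟩, ?_⟩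
  have he0 : e ≠ 0 := by
    rintro rfl
    apply h1
    rw [hb, hbd]
    simp
  have : Fintype E := Fintype.ofFinite _
  have : Fintype H := Fintype.ofFinite _
  have : Fintype (ZZ lam h1) := Fintype.ofFinite _
  have h2 := classInner_irr_self hε
  rw [classInner_def] at h2
  have h3 : (∑ x : E, ε x * conj (ε x)) = (Nat.card E : ℂ) := by
    have h4 : (Nat.card E : ℂ) ≠ 0 := card_ne_zero_complex
    rw [inv_mul_eq_one₀ h4] at h2
    exact h2.symm
  have h4 : ∑ x : E, lam x * conj (lam x) = (e : ℂ) ^ 2 * (Nat.card E : ℂ) := by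
    rw [← h3, Finset.mul_sum]
    refine Finset.sum_congr rfl fun x _ => ?_
    rw [he x, map_mul, Complex.conj_natCast]
    ring
  have h5 : ∑ x : E, lam x * conj (lam x) = (Nat.card (ZZ lam h1) : ℂ) * (b : ℂ) ^ 2 := by
    have h6 : ∀ x : E, lam x * conj (lam x) = if (x : H) ∈ ZZ lam h1 then (b : ℂ) ^ 2 else 0 := by
      intro x
      split_ifs with hx
      · have h7 := norm_of_sc h1 (mem_ZZ.1 hx)
        rw [Complex.mul_conj, Complex.normSq_eq_norm_sq, h7, hb]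
        simp
      · rw [vanish hl hqp h1 hc E hE x.2 hx, zero_mul]
    rw [Finset.sum_congr rfl fun x _ => h6 x, ← Finset.sum_filter, Finset.sum_const, nsmul_eq_mul]
    congr 2
    rw [Nat.card_eq_fintype_card, Fintype.card_subtype]
    refine Finset.card_bij (fun x _ => (x : H)) ?_ ?_ ?_
    · intro x hx
      simpa only [_root_.Finset.mem_filter, _root_.Finset.mem_univ, _root_.true_and] using hx
    · intro x _ y _ hxy
      exact Subtype.ext hxy
    · intro x hx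
      exact ⟨⟨x, hZE (by simpa using hx)⟩, by simpa only [_root_.Finset.mem_filter, _root_.Finset.mem_univ, _root_.true_and] using hx, rfl⟩
  rw [h4, hbd] at h5
  have h6 : e ^ 2 * Nat.card E = Nat.card (ZZ lam h1) * (e * d) ^ 2 := by exact_mod_cast h5
  have h7 : e ^ 2 * Nat.card E = e ^ 2 * (Nat.card (ZZ lam h1) * d ^ 2) := by rw [h6]; ring
  exact Nat.eq_of_mul_eq_mul_left (by positivity) h7

/-! ### Stabilizers -/

section stab

variable {lam : H → ℂ}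

/-- a subgroup `T` whose elements commute with `e` modulo scalars: the linear character `g ↦ k [e, g]` -/
noncomputable def beta (h1 : lam 1 ≠ 0) (hc : IsClassFunction H lam) (T : Subgroup H) (e : H)
    (hT : ∀ g ∈ T, Sc lam (e * g * e⁻¹ * g⁻¹)) : T →* ℂˣ :=
  MonoidHom.toHomUnits
    { toFun := fun g => kf lam (e * g * e⁻¹ * (g : H)⁻¹)
      map_one' := by
        rw [Subgroup.coe_one, show e * 1 * e⁻¹ * (1 : H)⁻¹ = 1 by group, kf_one h1]
      map_mul' := by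
        intro g h
        rw [Subgroup.coe_mul, pair_mul_right hc (hT g g.2)] }

theorem beta_apply (h1 : lam 1 ≠ 0) (hc : IsClassFunction H lam) (T : Subgroup H) (e : H)
    (hT : ∀ g ∈ T, Sc lam (e * g * e⁻¹ * g⁻¹)) (g : T) :
    (beta h1 hc T e hT g : ℂ) = kf lam (e * g * e⁻¹ * (g : H)⁻¹) := rfl

theorem index_mem [Finite H] (hl : IsIrrCharacter H lam) (hqp : QP lam) (h1 : lam 1 ≠ 0)
    (hc : IsClassFunction H lam) (E : Subgroup H) [hEn : E.Normal]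
    (hE : ∀ a ∈ E, ∀ x ∈ E, Sc lam (a * x * a⁻¹ * x⁻¹)) (hZE : ZZ lam h1 ≤ E) (e : H) (he : e ∈ E)
    (T : Subgroup H) (hT : ∀ g, g ∈ T ↔ Sc lam (e * g * e⁻¹ * g⁻¹)) : T.index ∈ charDegrees H := by
  classical
  have : Fintype E := Fintype.ofFinite _
  have : Fintype H := Fintype.ofFinite _
  have : Fintype T := Fintype.ofFinite _
  have hET : E ≤ T := fun x hx => (hT x).2 (hE e he x hx)
  have hirr := Characters.Linear.isIrrCharacter_hom (beta h1 hc T e fun g hg => (hT g).1 hg)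
  have hirr' := Characters.Linear.isIrrCharacter_hom (beta h1 hc E e fun g hg => hE e he g hg)
  have hin : ∀ g : H, g ∈ T ↔ conjFn E (fun x => (beta h1 hc E e (fun g hg => hE e he g hg) x : ℂ)) g =
      (fun x => (beta h1 hc E e (fun g hg => hE e he g hg) x : ℂ)) := by
    intro g
    have h2 : g ∈ T ↔ g⁻¹ * e * g * e⁻¹ ∈ ZZ lam h1 := by
      rw [hT, ← mem_ZZ (h1 := h1)]
      have hn := ZZ_normal h1 hc
      constructor
      · intro h
        have := hn.conj_mem _ h g⁻¹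
        convert this using 1
        group
      · intro h
        have := hn.conj_mem _ h g
        convert this using 1
        group
    have h3 : ZZ lam h1 = Rad lam h1 hc E hE :=
      le_antisymm (le_rad h1 hc E hE hZE) (rad_le hl hqp h1 hc E hE)
    have hge : g⁻¹ * e * g ∈ E := by
      have := hEn.conj_mem e he g⁻¹
      rwa [inv_inv] at this
    rw [h2, h3, mem_Rad, funext_iff]
    have h4 : ∀ x ∈ E, kf lam (g⁻¹ * e * g * e⁻¹ * x * (g⁻¹ * e * g * e⁻¹)⁻¹ * x⁻¹) *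
        kf lam (e * x * e⁻¹ * x⁻¹) = kf lam (g⁻¹ * e * g * x * (g⁻¹ * e * g)⁻¹ * x⁻¹) := by
      intro x hx
      have h5 := pair_mul_left (b := e) hc (hE (g⁻¹ * e * g * e⁻¹) (E.mul_mem hge (E.inv_mem he)) x hx)
      rw [← h5, inv_mul_cancel_right]
    have h6 : ∀ x : E, conjFn E (fun x => (beta h1 hc E e (fun g hg => hE e he g hg) x : ℂ)) g x =
        kf lam (g⁻¹ * e * g * x * (g⁻¹ * e * g)⁻¹ * (x : H)⁻¹) := by
      intro x
      rw [conjFn_apply, beta_apply]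
      have := kf_conj hc g (g⁻¹ * e * g * x * (g⁻¹ * e * g)⁻¹ * (x : H)⁻¹)
      rw [← this]
      congr 1
      simp only
      group
    constructor
    · rintro ⟨-, h⟩ x
      rw [h6, beta_apply, ← h4 x x.2, h x x.2, one_mul]
    · intro h
      refine ⟨E.mul_mem hge (E.inv_mem he), fun x hx => ?_⟩
      have h7 := h ⟨x, hx⟩
      rw [h6, beta_apply] at h7
      have h8 := h4 x hx
      simp only at h7
      rw [h7] at h8
      exact mul_right_cancel₀ ((hE e he x hx).ne_zero h1) (h8.trans (one_mul _).symm)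
  have h2 := CliffGen.irr_ind hirr' hin hET hirr (by
    have : CliffGen.resTo hET (fun g => (beta h1 hc T e (fun g hg => (hT g).1 hg) g : ℂ)) =
        (fun x => (beta h1 hc E e (fun g hg => hE e he g hg) x : ℂ)) := by
      funext x
      rfl
    rw [this, classInner_irr_self hirr']
    exact one_ne_zero)
  refine H424.DegTools.mem_charDegrees.2 ⟨_, h2, ?_⟩
  rw [indFun_apply_one, map_one, Units.val_one, mul_one]

end stab

/-! ### The main theorem -/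

/-- a minimal normal subgroup -/
theorem exists_min (Q : Type u) [Group Q] [Finite Q] [Nontrivial Q] : ∃ S : Subgroup Q, S.Normal ∧ S ≠ ⊥ ∧
    ∀ K : Subgroup Q, K.Normal → K ≤ S → K = ⊥ ∨ K = S := by
  classical
  have hex : ∃ n, ∃ S : Subgroup Q, S.Normal ∧ S ≠ ⊥ ∧ Nat.card S = n :=
    ⟨_, ⊤, inferInstance, top_ne_bot, rfl⟩
  obtain ⟨S, hS, hSb, hSn⟩ := Nat.find_spec hex
  refine ⟨S, hS, hSb, fun K hK hKS => ?_⟩
  by_cases hKb : K = ⊥
  · exact Or.inl hKb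
  · right
    apply Subgroup.eq_of_le_of_card_ge hKS
    rw [hSn]
    exact Nat.find_min' hex ⟨K, hK, hKb, rfl⟩

theorem card_comap_mk (Z : Subgroup H) [Z.Normal] (S : Subgroup (H ⧸ Z)) :
    Nat.card (S.comap (QuotientGroup.mk' Z)) = Nat.card Z * Nat.card S := by
  have h1 : Z ≤ S.comap (QuotientGroup.mk' Z) := by
    intro z hz
    rw [Subgroup.mem_comap, QuotientGroup.mk'_apply, (QuotientGroup.eq_one_iff z).2 hz]
    exact S.one_mem
  have h2 := Subgroup.card_mul_index (Z.subgroupOf (S.comap (QuotientGroup.mk' Z)))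
  rw [← h2, Nat.card_congr (Subgroup.subgroupOfEquivOfLe h1).toEquiv]
  congr 1
  have h3 : (S.comap (QuotientGroup.mk' Z)).map (QuotientGroup.mk' Z) = S :=
    Subgroup.map_comap_eq_self_of_surjective (QuotientGroup.mk'_surjective Z) S
  have h4 := Subgroup.relIndex_ker (S.comap (QuotientGroup.mk' Z)) (QuotientGroup.mk' Z)
  rw [QuotientGroup.ker_mk', h3] at h4
  exact h4

/-- the conjugation action on a normal subgroup of a quotient -/
noncomputable def actHom (Z : Subgroup H) [Z.Normal] (S : Subgroup (H ⧸ Z)) [S.Normal] : H →* MulAut S :=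
  (MulAut.conjNormal : (H ⧸ Z) →* MulAut S).comp (QuotientGroup.mk' Z)

theorem actHom_apply (Z : Subgroup H) [Z.Normal] (S : Subgroup (H ⧸ Z)) [S.Normal] (g : H) (v : S) :
    ((actHom Z S g v : S) : H ⧸ Z) = (g : H ⧸ Z) * v * (g : H ⧸ Z)⁻¹ := rfl

theorem b3_section [Finite H] [Group.IsSolvable H] {lam : H → ℂ} (hl : IsIrrCharacter H lam)
    (hqp : QP lam) {b : ℕ} (hb : lam 1 = b) (hb1 : b ≠ 1) :
    ∃ (s c : ℕ) (V : Type u) (_ : CommGroup V) (_ : Finite V) (_ : MulDistribMulAction H V), s.Prime ∧ 1 ≤ c ∧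
      Nat.card V = s ^ (2 * c) ∧ s ^ c ∣ b ∧
      (∀ W : Subgroup V, (∀ h : H, ∀ w ∈ W, h • w ∈ W) → W = ⊥ ∨ W = ⊤) ∧
      ∀ v : V, v ≠ 1 → (MulAction.stabilizer H v).index ≠ 1 ∧ (MulAction.stabilizer H v).index ∈ charDegrees H := by
  classical
  have h1 : lam 1 ≠ 0 := isIrr_apply_one_ne_zero hl
  have hc : IsClassFunction H lam := isIrr_isClassFunction hl
  have hZn : (ZZ lam h1).Normal := ZZ_normal h1 hc
  set Z := ZZ lam h1 with hZdef
  -- `Z` is proper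
  have hZtop : Z ≠ ⊤ := by
    intro h
    apply hb1
    have : Fintype H := Fintype.ofFinite _
    have h2 := classInner_irr_self hl
    rw [classInner_def] at h2
    have h4 : (Nat.card H : ℂ) ≠ 0 := card_ne_zero_complex
    rw [inv_mul_eq_one₀ h4] at h2
    have h6 : ∀ x : H, lam x * conj (lam x) = (b : ℂ) ^ 2 := by
      intro x
      have hx : x ∈ Z := by rw [h]; exact Subgroup.mem_top x
      have h7 := norm_of_sc h1 (mem_ZZ.1 hx)
      rw [Complex.mul_conj, Complex.normSq_eq_norm_sq, h7, hb]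
      simp
    rw [Finset.sum_congr rfl fun x _ => h6 x, Finset.sum_const, Finset.card_univ, nsmul_eq_mul,
      ← Nat.card_eq_fintype_card] at h2
    have h8 : (b : ℂ) ^ 2 = 1 := mul_left_cancel₀ h4 (by rw [← h2, mul_one])
    have h9 : b ^ 2 = 1 := by exact_mod_cast h8
    simpa using h9
  have hnt : Nontrivial (H ⧸ Z) := QuotientGroup.nontrivial_iff.2 hZtop
  obtain ⟨S, hSn, hSb, hmin⟩ := exists_min (H ⧸ Z)
  have hSc := SolvableStructure.MinimalNormal.comm_of_minimal_normal S hSb hmin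
  obtain ⟨s, m, hs, hm, hcard, hexp⟩ :=
    SolvableStructure.MinimalNormal.exists_prime_of_minimal_normal S hSb hmin
  set E := S.comap (QuotientGroup.mk' Z) with hEdef
  have hEn : E.Normal := inferInstance
  have hE : ∀ a ∈ E, ∀ x ∈ E, Sc lam (a * x * a⁻¹ * x⁻¹) := by
    intro a ha x hx
    rw [← mem_ZZ (h1 := h1), ← QuotientGroup.eq_one_iff]
    have h2 := hSc _ ha _ hx
    simp only [QuotientGroup.mk'_apply] at h2
    rw [QuotientGroup.mk_mul, QuotientGroup.mk_mul, QuotientGroup.mk_mul, QuotientGroup.mk_inv,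
      QuotientGroup.mk_inv, h2, mul_inv_cancel_right, mul_inv_cancel]
  have hZE : Z ≤ E := by
    intro z hz
    rw [hEdef, Subgroup.mem_comap, QuotientGroup.mk'_apply, (QuotientGroup.eq_one_iff z).2 hz]
    exact S.one_mem
  obtain ⟨d, hdb, hd⟩ := card_sq hl hqp h1 hc E hE hZE hb
  have hSd : Nat.card S = d ^ 2 := by
    rw [hEdef, card_comap_mk] at hd
    exact Nat.eq_of_mul_eq_mul_left Nat.card_pos hd
  obtain ⟨c, -, hdc⟩ := (Nat.dvd_prime_pow hs).1 (show d ∣ s ^ m by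
    rw [← hcard, hSd]; exact dvd_pow_self d two_ne_zero)
  have hmc : m = 2 * c := by
    rw [hcard, hdc, ← pow_mul] at hSd
    rw [mul_comm]
    exact Nat.pow_right_injective hs.two_le hSd
  have hc1 : 1 ≤ c := by omega
  let iC : CommGroup S :=
    { (inferInstance : Group S) with
      mul_comm := fun a x => Subtype.ext (hSc a a.2 x x.2) }
  let iA : MulDistribMulAction H S := MulDistribMulAction.compHom S (actHom Z S)
  have hsm : ∀ (g : H) (v : S), g • v = actHom Z S g v := fun g v => rfl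
  refine ⟨s, c, S, iC, inferInstance, iA, hs, hc1, ?_, ?_, ?_, ?_⟩
  · rw [hcard, hmc]
  · rw [← hdc]
    exact hdb
  · intro W hW
    have hKn : (W.map S.subtype).Normal := by
      refine ⟨?_⟩
      rintro _ ⟨w, hw, rfl⟩ g
      obtain ⟨g, rfl⟩ := QuotientGroup.mk_surjective g
      exact ⟨g • w, hW g w hw, rfl⟩
    have hKS : W.map S.subtype ≤ S := by
      rintro _ ⟨w, hw, rfl⟩
      exact w.2
    rcases hmin _ hKn hKS with h | h
    · left
      rw [Subgroup.eq_bot_iff_forall]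
      intro w hw
      have : (w : H ⧸ Z) ∈ W.map S.subtype := ⟨w, hw, rfl⟩
      rw [h, Subgroup.mem_bot] at this
      exact Subtype.ext this
    · right
      rw [Subgroup.eq_top_iff']
      intro w
      have : (w : H ⧸ Z) ∈ W.map S.subtype := by rw [h]; exact w.2
      obtain ⟨w', hw', hww⟩ := this
      have : w' = w := Subtype.ext hww
      rw [← this]
      exact hw'
  · intro v hv
    obtain ⟨e, he⟩ := QuotientGroup.mk_surjective (v : H ⧸ Z)
    have heE : e ∈ E := by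
      rw [hEdef, Subgroup.mem_comap, QuotientGroup.mk'_apply, he]
      exact v.2
    have hT : ∀ g, g ∈ MulAction.stabilizer H v ↔ Sc lam (e * g * e⁻¹ * g⁻¹) := by
      intro g
      rw [MulAction.mem_stabilizer_iff, ← mem_ZZ (h1 := h1), ← QuotientGroup.eq_one_iff, QuotientGroup.mk_mul,
        QuotientGroup.mk_mul, QuotientGroup.mk_mul, QuotientGroup.mk_inv, QuotientGroup.mk_inv, he, hsm]
      have h2 : actHom Z S g v = v ↔ (g : H ⧸ Z) * v * (g : H ⧸ Z)⁻¹ = v := by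
        rw [← actHom_apply]
        exact Subtype.ext_iff
      rw [h2]
      constructor
      · intro h
        rw [← mul_inv_eq_iff_eq_mul.1 h, mul_inv_cancel_right, mul_inv_cancel]
      · intro h
        exact mul_inv_eq_iff_eq_mul.2 (mul_inv_eq_iff_eq_mul.1 (mul_inv_eq_one.1 h)).symm
    refine ⟨?_, index_mem hl hqp h1 hc E hE hZE e heE _ hT⟩
    intro hi
    rw [Subgroup.index_eq_one] at hi
    have hfix : ∀ g : H, g • v = v := fun g => by
      rw [← MulAction.mem_stabilizer_iff, hi]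
      exact Subgroup.mem_top g
    have hK : (Subgroup.zpowers (v : H ⧸ Z)).Normal := by
      refine ⟨?_⟩
      rintro _ ⟨k, rfl⟩ g
      obtain ⟨g, rfl⟩ := QuotientGroup.mk_surjective g
      have h2 : (g : H ⧸ Z) * v * (g : H ⧸ Z)⁻¹ = v := congrArg Subtype.val (hfix g)
      refine ⟨k, ?_⟩
      simp only
      rw [← conj_zpow, h2]
    have hKS : Subgroup.zpowers (v : H ⧸ Z) ≤ S := by
      rw [Subgroup.zpowers_le]
      exact v.2
    rcases hmin _ hK hKS with h | h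
    · rw [Subgroup.zpowers_eq_bot] at h
      exact hv (Subtype.ext h)
    · have h2 : Nat.card S = orderOf (v : H ⧸ Z) := by
        rw [← Nat.card_zpowers, h]
      have h3 : orderOf (v : H ⧸ Z) ∣ s := orderOf_dvd_of_pow_eq_one (hexp v v.2)
      rw [← h2, hcard, hmc] at h3
      have h4 := Nat.le_of_dvd hs.pos h3
      have h5 : s ^ 2 ≤ s ^ (2 * c) := Nat.pow_le_pow_right hs.pos (by omega)
      have h6 := hs.two_le
      nlinarith only [h4, h5, h6]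

end Cfsg.Agent.H131.AN
end

-- part: H724/AN/B
section
/-!
# S4766, pieces B1 and B2 (helper724)

* `b1_trick` : if all nonlinear irreducible characters have degree at least `m`, a subgroup of index at most `m`
  contains the commutator subgroup;
* `b2_exists_qp` : every irreducible character is induced from a quasi-primitive one.
-/

set_option autoImplicit false

namespace Cfsg.Agent.H724.AN

open Cfsg Cfsg.Agent.H691.AN
open Cfsg.Agent.Classification.QDW.WrDeg (stab mem_stab)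

universe u

/-- B1: the permutation character trick -/
theorem b1_trick {G : Type u} [Group G] [Finite G] {m : ℕ} (hm : ∀ d ∈ charDegrees G, d = 1 ∨ m ≤ d) (H : Subgroup G)
    (hH : H.index ≤ m) : commutator G ≤ H := by
  refine Cfsg.Agent.H597.ThreeDegA.commutator_le_of_index_le H fun ψ hψ hne => ?_
  rcases hm _ ⟨⟨ψ, hψ⟩, rfl⟩ with h | h
  · exact absurd h hne
  · exact hH.trans h

/-- Quasi-primitivity is transported by isomorphisms. -/
theorem qp_comp {H K : Type u} [Group H] [Group K] (e : H ≃* K) {lam : K → ℂ} (h : QP lam) :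
    QP (fun x : H => lam (e x)) := by
  intro N hN
  obtain ⟨θ, k, hθ, hk⟩ := h (N.map (e : H →* K)) (hN.map (e : H →* K) e.surjective)
  refine ⟨fun x => θ (e.subgroupMap N x), k,
    Cfsg.Agent.Blocks.CliffordCentral.isIrrCharacter_comp hθ (e.subgroupMap N).toMonoidHom
      (e.subgroupMap N).surjective, fun x => ?_⟩
  exact hk (e.subgroupMap N x)

/-- A normal subgroup is contained in the stabilizer of each of its characters. -/
theorem le_stab {G : Type u} [Group G] (N : Subgroup G) [hN : N.Normal] {θ : N → ℂ} (hθ : IsIrrCharacter N θ) :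
    N ≤ stab N θ := by
  intro n hn
  rw [mem_stab]
  funext x
  change θ (MulAut.conjNormal (n : G) x) = θ x
  have h1 : (MulAut.conjNormal (n : G) x : N) = ⟨n, hn⟩ * x * ⟨n, hn⟩⁻¹ := by
    apply Subtype.ext
    simp only [_root_.MulAut.conjNormal_apply, _root_.Subgroup.coe_mul, _root_.InvMemClass.coe_inv]
  rw [h1]
  obtain ⟨k, ρ, -, rfl⟩ := hθ
  exact ρ.char_conj _ _

/-- B2 -/
theorem b2_exists_qp {G : Type u} [Group G] [Fintype G] {χ : G → ℂ} (hχ : IsIrrCharacter G χ) :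
    ∃ (H : Subgroup G) (lam : H → ℂ), IsIrrCharacter H lam ∧ QP lam ∧ indFun H lam = χ := by
  classical
  suffices key : ∀ (n : ℕ) (G : Type u) [Group G] [Fintype G], Nat.card G = n → ∀ χ : G → ℂ, IsIrrCharacter G χ →
      ∃ (H : Subgroup G) (lam : H → ℂ), IsIrrCharacter H lam ∧ QP lam ∧ indFun H lam = χ from
    key _ G rfl χ hχ
  clear hχ χ
  intro n
  induction n using Nat.strong_induction_on with
  | _ n ih =>
    intro G _ _ hn χ hχ
    have hcf : IsClassFunction G χ := by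
      obtain ⟨k, ρ, -, rfl⟩ := hχ
      intro x y
      exact ρ.char_conj _ _
    by_cases hq : QP χ
    · refine ⟨⊤, fun x => χ x, ?_, ?_, Cfsg.Agent.S0859.indFun_top χ hcf⟩
      · exact Cfsg.Agent.Blocks.CliffordCentral.isIrrCharacter_comp hχ (Subgroup.topEquiv (G := G)).toMonoidHom
          (Subgroup.topEquiv (G := G)).surjective
      · exact qp_comp (Subgroup.topEquiv (G := G)) hq
    · rw [QP] at hq
      push Not at hq
      obtain ⟨N, hN, hNN⟩ := hq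
      obtain ⟨⟨θ, hθ⟩, hcon⟩ := Cfsg.Agent.Blocks.Fong.exists_constituent (N := N) ⟨χ, hχ⟩
      simp only at hcon
      have hT : ∀ g : G, g ∈ stab N θ ↔ ∀ x : N, θ ⟨g * x * g⁻¹, hN.conj_mem (x : G) x.2 g⟩ = θ x := by
        intro g
        rw [mem_stab]
        constructor
        · intro h x
          exact congrFun h x
        · intro h
          funext x
          exact h x
      have hlt : Nat.card (stab N θ) < n := by
        rw [← hn]
        refine lt_of_le_of_ne (Subgroup.card_le_card_group _) fun heq => ?_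
        have htop : stab N θ = ⊤ := Subgroup.eq_top_of_card_eq _ heq
        obtain ⟨e, he⟩ := Cfsg.Agent.S0900.restrict_eq_smul N χ hχ θ hθ hcon fun g => by
          have : g ∈ stab N θ := by
            rw [htop]
            exact Subgroup.mem_top g
          exact (hT g).1 this
        obtain ⟨x, hx⟩ := hNN θ e hθ
        exact hx (by simpa using congrFun he x)
      obtain ⟨ψ, hψ, hind, -⟩ := Cfsg.Agent.CharDeep.CliffordCorr.clifford_correspondence N θ hθ (stab N θ) hT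
        (le_stab N hθ) χ hχ hcon
      obtain ⟨L, lam, hlam, hqp, hil⟩ := ih _ hlt (stab N θ) rfl ψ hψ
      obtain ⟨e, he⟩ := Cfsg.Agent.H646.ProjLat.indFun_map (stab N θ) L lam
      refine ⟨L.map (stab N θ).subtype, fun x => lam (e x), ?_, qp_comp e hqp, ?_⟩
      · exact Cfsg.Agent.Blocks.CliffordCentral.isIrrCharacter_comp hlam e.toMonoidHom e.surjective
      · rw [← he, hil, hind]

end Cfsg.Agent.H724.AN
end

private theorem dce_043cd186f7d0 : _root_.True := by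
  try have : _root_.True := by simp only [_root_.Cfsg.Agent.H691.AN.QP.eq_1]
  try have : _root_.True := by simp only [_root_.Cfsg.Agent.H131.AN.ZZ.congr_simp]
  exact _root_.True.intro
end

-- part: H245/AN/Core
section
set_option linter.all false
open scoped Cfsg.Agent.FastGrp

/-!
# S4766, piece B10: groups with the character degrees of `A_n`, `n < 20`: the derived subgroup is perfect (helper245)

The numerical criterion.
-/

set_option autoImplicit false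

namespace Cfsg.Agent.H245.AN

open Cfsg Cfsg.Agent.H691.AN Cfsg.Agent.H704 Cfsg.Agent.H681 Cfsg.Agent.H681.DegBasic

universe u

/-- membership in a list of numbers -/
def memB (x : ℕ) : List ℕ → Bool
  | [] => false
  | a :: l => Nat.beq x a || memB x l

theorem memB_iff {x : ℕ} {l : List ℕ} : memB x l = true ↔ x ∈ l := by
  induction l with
  | nil => simp [memB]
  | cons a l ih => rw [memB, Bool.or_eq_true, ih, List.mem_cons, Nat.beq_eq]

/-- no `f * (d / t)`, `t ∣ gcd d f`, is in the list -/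
def badB (LD : List ℕ) (d f : ℕ) : Bool :=
  LD.all fun e => !(Nat.beq (Nat.mod (f * d) e) 0) || !(Nat.beq (Nat.mod (Nat.gcd d f) (Nat.div (f * d) e)) 0)

theorem bad_of {LD : List ℕ} {d f : ℕ} (h : badB LD d f = true) (hf : 0 < f) {e : ℕ} (he : e ∣ d)
    (hef : d / e ∣ f) : f * e ∉ LD := by
  intro hm
  have h1 := (List.all_eq_true.1 h) _ hm
  rw [Bool.or_eq_true, Bool.not_eq_true', Bool.not_eq_true', ← Bool.not_eq_true, ← Bool.not_eq_true, Nat.beq_eq,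
    Nat.beq_eq] at h1
  have h2 : Nat.mod (f * d) (f * e) = 0 := Nat.mod_eq_zero_of_dvd (Nat.mul_dvd_mul_left f he)
  have h3 : Nat.div (f * d) (f * e) = d / e := Nat.mul_div_mul_left d e hf
  have h4 : Nat.mod (Nat.gcd d f) (d / e) = 0 :=
    Nat.mod_eq_zero_of_dvd (Nat.dvd_gcd (Nat.div_dvd_of_dvd he) hef)
  rw [h3] at h1
  rcases h1 with h1 | h1
  · exact h1 h2
  · exact h1 h4

/-- `q * p ^ k ∤ dd` for the least `k` with `f < q * p ^ k` -/
def npB (f dd p : ℕ) : ℕ → ℕ → Bool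
  | 0, _ => false
  | k + 1, q => if Nat.ble q f then npB f dd p k (q * p) else !(Nat.beq (Nat.mod dd q) 0)

theorem np_of {f dd p : ℕ} : ∀ (k q : ℕ), npB f dd p k q = true → ∀ m : ℕ, f < q * p ^ m → ¬ q * p ^ m ∣ dd := by
  intro k
  induction k with
  | zero => intro q h; simp [npB] at h
  | succ k ih =>
    intro q h m hm hd
    rw [npB] at h
    by_cases hq : Nat.ble q f = true
    · rw [if_pos hq] at h
      have hq' : q ≤ f := Nat.le_of_ble_eq_true hq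
      cases m with
      | zero => rw [pow_zero, mul_one] at hm; omega
      | succ m =>
        have e : q * p ^ (m + 1) = q * p * p ^ m := by ring
        rw [e] at hm hd
        exact ih _ h m hm hd
    · rw [if_neg hq, Bool.not_eq_true', ← Bool.not_eq_true, Nat.beq_eq] at h
      exact h (Nat.mod_eq_zero_of_dvd ((Dvd.intro _ rfl).trans hd))

/-- the check -/
def chkB (LD P W : List ℕ) (C : List (ℕ × List ℕ)) : Bool :=
  C.all fun c => Nat.blt 1 c.1 && Nat.blt c.1 (2 ^ 40) && !c.2.isEmpty && c.2.all (fun d => memB d W && badB LD d c.1) &&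
    P.all (fun p => (Nat.beq (Nat.mod c.1 p) 0 || c.2.any (fun d => npB c.1 (d * d) p 41 1)) &&
      (!(Nat.beq (Nat.mod (p ^ 40) c.1) 0) || c.2.any (fun d => !(Nat.beq (Nat.mod d p) 0))))

theorem core {n : ℕ} {P W : List ℕ} {C : List (ℕ × List ℕ)}
    (hchk : chkB (1 :: C.map (·.1)) P W C = true)
    (hLD : ∀ d ∈ D n, d ∈ 1 :: C.map (·.1)) (hW : ∀ w ∈ W, w ∈ D n) (hP : ∀ p : ℕ, p.Prime → p ≤ n → p ∈ P)
    {G : Type u} [Group G] [Finite G] (h : charDegrees G = D n) : ⁅commutator G, commutator G⁆ = commutator G := by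
  classical
  have := Fintype.ofFinite G
  by_contra hcon
  obtain ⟨p, f, hp, hf1, hc⟩ := H34.Perf3.cases_of_not_perfect hcon
  -- primes
  have hpn : ∀ {x : ℕ}, x ∈ D n → p ∣ x → p ≤ n := by
    intro x hx hpx
    have h1 : x ∣ Nat.card (An n) := dvd_card hx
    have h2 : Nat.card (An n) ∣ n.factorial := by
      have h3 := Subgroup.card_subgroup_dvd_card (alternatingGroup (Fin n))
      rwa [Nat.card_eq_fintype_card (α := Equiv.Perm (Fin n)), Fintype.card_perm, Fintype.card_fin] at h3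
    exact (hp.dvd_factorial).1 ((hpx.trans h1).trans h2)
  -- the certificate for `f`
  have hcert : f ∈ D n → ∃ A : List ℕ, (∃ d, d ∈ A) ∧ f < 2 ^ 40 ∧
      (∀ d ∈ A, d ∈ D n ∧ badB (1 :: C.map (·.1)) d f = true) ∧
      (p ≤ n → (¬ p ∣ f → ∃ d ∈ A, ∀ m : ℕ, f < p ^ m → ¬ p ^ m ∣ d * d) ∧
        (f ∣ p ^ 40 → ∃ d ∈ A, ¬ p ∣ d)) := by
    intro hf
    have h1 := hLD f hf
    rw [List.mem_cons, List.mem_map] at h1
    rcases h1 with h1 | ⟨c, hcC, rfl⟩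
    · omega
    have h2 := (List.all_eq_true.1 hchk) c hcC
    simp only [Bool.and_eq_true] at h2
    obtain ⟨⟨⟨⟨-, h3⟩, h4⟩, h5⟩, h6⟩ := h2
    refine ⟨c.2, ?_, ?_, ?_, ?_⟩
    · rcases hA : c.2 with _ | ⟨a, l⟩
      · rw [hA] at h4
        simp at h4
      · exact ⟨a, by simp⟩
    · have := Nat.le_of_ble_eq_true (show Nat.ble (c.1 + 1) (2 ^ 40) = true from h3)
      omega
    · intro d hd
      have h7 := (List.all_eq_true.1 h5) d hd
      rw [Bool.and_eq_true, memB_iff] at h7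
      exact ⟨hW d h7.1, h7.2⟩
    · intro hpn
      have h7 := (List.all_eq_true.1 h6) p (hP p hp hpn)
      rw [Bool.and_eq_true, Bool.or_eq_true, Bool.or_eq_true] at h7
      obtain ⟨h8, h9⟩ := h7
      constructor
      · intro hpf
        rcases h8 with h8 | h8
        · rw [Nat.beq_eq] at h8
          exact absurd (Nat.dvd_of_mod_eq_zero h8) hpf
        · obtain ⟨d, hd, h10⟩ := List.any_eq_true.1 h8
          refine ⟨d, hd, fun m hm => ?_⟩
          have h11 := np_of _ _ h10 m (by rwa [one_mul])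
          rwa [one_mul] at h11
      · intro hfp
        rcases h9 with h9 | h9
        · rw [Bool.not_eq_true', ← Bool.not_eq_true, Nat.beq_eq] at h9
          exact absurd (Nat.mod_eq_zero_of_dvd hfp) h9
        · obtain ⟨d, hd, h10⟩ := List.any_eq_true.1 h9
          rw [Bool.not_eq_true', ← Bool.not_eq_true, Nat.beq_eq] at h10
          exact ⟨d, hd, fun h11 => h10 (Nat.mod_eq_zero_of_dvd h11)⟩
  rw [h] at hc
  rcases hc with ⟨⟨b, hb⟩, hc⟩ | ⟨hfp, N, hN, hNf, m, hm, hfm, hc⟩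
  · -- the `p`-group case
    have hfD : f ∈ D n := by
      rcases hc 1 one_mem with h1 | h1
      · exact absurd (Nat.dvd_one.1 h1) hp.one_lt.ne'
      · rwa [mul_one] at h1
    obtain ⟨A, -, hA2, hA3, hA4⟩ := hcert hfD
    have hb0 : b ≠ 0 := by
      rintro rfl
      rw [pow_zero] at hb
      omega
    have hpf : p ∣ f := by rw [hb]; exact dvd_pow_self p hb0
    have hb40 : b ≤ 40 := by
      by_contra hlt
      have h1 : 2 ^ 40 ≤ p ^ b := (Nat.pow_le_pow_left hp.two_le 40).trans (Nat.pow_le_pow_right hp.pos (by omega))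
      omega
    obtain ⟨d, hd, hpd⟩ := (hA4 (hpn hfD hpf)).2 (by rw [hb]; exact pow_dvd_pow p hb40)
    obtain ⟨hdD, hbad⟩ := hA3 d hd
    rcases hc d hdD with h1 | h1
    · exact hpd h1
    · have hd0 := pos_of_mem hdD
      exact bad_of hbad (by omega) dvd_rfl (by rw [Nat.div_self hd0]; exact one_dvd _) (hLD _ h1)
  · -- the Frobenius case
    have := Fintype.ofFinite N
    have hcN : ∀ e ∈ charDegrees N, p ^ m ∣ e ^ 2 ∨ f * e ∈ D n := by
      intro e he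
      obtain ⟨ψ, hψ, hψe⟩ := mem_charDegrees.1 he
      exact hc ψ hψ e hψe
    have hfD : f ∈ D n := by
      rcases hcN 1 one_mem with h1 | h1
      · rw [one_pow] at h1
        have := Nat.le_of_dvd one_pos h1
        omega
      · rwa [mul_one] at h1
    obtain ⟨A, hA1, -, hA3, hA4⟩ := hcert hfD
    -- each witness is divisible
    have key : ∀ d ∈ A, p ^ m ∣ d * d := by
      intro d hd
      obtain ⟨hdD, hbad⟩ := hA3 d hd
      have hdG : d ∈ charDegrees G := by rw [h]; exact hdD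
      obtain ⟨χ, hχ, hχd⟩ := mem_charDegrees.1 hdG
      obtain ⟨ψ, e, hψ, hψe, -, he1, he2⟩ := exists_constituent N hχ hχd
      rw [hNf] at he2
      have heN : e ∈ charDegrees N := mem_charDegrees.2 ⟨ψ, hψ, hψe⟩
      rcases hcN e heN with h1 | h1
      · rw [← sq]
        exact h1.trans (pow_dvd_pow_of_dvd he1 2)
      · exact absurd (hLD _ h1) (bad_of hbad (by omega) he1 he2)
    have hpf : ¬ p ∣ f := fun h1 => by
      have h2 := (Nat.Prime.coprime_iff_not_dvd hp).1 hfp.symm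
      exact h2 h1
    obtain ⟨d0, hd0⟩ := hA1
    have hpd : p ∣ d0 := by
      have h1 := (dvd_pow_self p hm.ne').trans (key d0 hd0)
      rcases (Nat.Prime.dvd_mul hp).1 h1 with h2 | h2 <;> exact h2
    obtain ⟨d, hd, h1⟩ := (hA4 (hpn (hA3 d0 hd0).1 hpd)).1 hpf
    exact h1 m hfm (key d hd)

/-! ### The degrees from the enumeration of partitions -/

/-- the check of a partition -/
def partChk (N : ℕ) (LD l : List ℕ) (H : ℕ) : Bool :=
  if Nat.beq (l.headD 0) l.length then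
    (if transpose l = l then memB (Nat.div N (2 * H)) LD else memB (Nat.div N H) LD)
  else memB (Nat.div N H) LD

/-- the hypothesis A2 -/
def HypTwo (n : ℕ) : Prop := ∀ d : ℕ, d ∈ D n → ∃ l : List ℕ, IsPart l n ∧
  ((transpose l ≠ l ∧ d * hookProd l = n.factorial) ∨ (transpose l = l ∧ 2 * d * hookProd l = n.factorial))

/-- the hypothesis A1 -/
def HypOne (n : ℕ) : Prop := ∀ l : List ℕ, IsPart l n → ∀ d : ℕ, d * hookProd l = n.factorial →
  (transpose l ≠ l → d ∈ D n) ∧ (transpose l = l → ∃ e : ℕ, d = 2 * e ∧ e ∈ D n)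

theorem mem_of_chk {n N : ℕ} (hN : n.factorial = N) {LD : List ℕ} (hchk : go (partChk N LD) (n + 1) n 1 [] 1 = true)
    (h2 : HypTwo n) : ∀ d ∈ D n, d ∈ LD := by
  intro d hd
  obtain ⟨l, hl, h3⟩ := h2 d hd
  have h4 := check_of_isPart hchk hl
  have hH : 0 < hookProd l := by
    apply Nat.pos_of_ne_zero
    intro h0
    rcases h3 with ⟨-, h3⟩ | ⟨-, h3⟩ <;> rw [h0, mul_zero] at h3 <;> exact absurd h3.symm (Nat.factorial_pos n).ne'
  rw [partChk] at h4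
  rcases h3 with ⟨h5, h3⟩ | ⟨h5, h3⟩
  · rw [hN] at h3
    have h6 : Nat.div N (hookProd l) = d := by
      rw [← h3]; exact Nat.mul_div_cancel d hH
    rw [if_neg h5, h6, ite_self, memB_iff] at h4
    exact h4
  · rw [hN] at h3
    have h6 : Nat.div N (2 * hookProd l) = d := by
      rw [← h3, show 2 * d * hookProd l = d * (2 * hookProd l) by ring]
      exact Nat.mul_div_cancel d (by omega)
    have h7 : Nat.beq (l.headD 0) l.length = true := by
      rw [Nat.beq_eq]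
      have h8 := congrArg List.length h5
      rw [transpose, List.length_map, List.length_range] at h8
      exact h8
    rw [if_pos h7, if_pos h5, h6, memB_iff] at h4
    exact h4

/-- the check of the witnesses -/
def witChk (n N : ℕ) (W : List (ℕ × List ℕ)) : Bool :=
  W.all fun w => decide (w.2.Pairwise (· ≥ ·)) && decide (∀ a ∈ w.2, 0 < a) && Nat.beq w.2.sum n &&
    (if transpose w.2 = w.2 then Nat.beq (2 * w.1 * hookProd w.2) N else Nat.beq (w.1 * hookProd w.2) N)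

theorem wit_mem {n N : ℕ} (hN : n.factorial = N) {W : List (ℕ × List ℕ)} (hchk : witChk n N W = true) (h1 : HypOne n) :
    ∀ w ∈ W.map (·.1), w ∈ D n := by
  intro x hx
  rw [List.mem_map] at hx
  obtain ⟨w, hw, rfl⟩ := hx
  have h2 := (List.all_eq_true.1 hchk) w hw
  rw [Bool.and_eq_true, Bool.and_eq_true, Bool.and_eq_true, decide_eq_true_eq, decide_eq_true_eq, Nat.beq_eq] at h2
  obtain ⟨⟨⟨h3, h4⟩, h5⟩, h6⟩ := h2
  by_cases h7 : transpose w.2 = w.2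
  · rw [if_pos h7, Nat.beq_eq, ← hN] at h6
    obtain ⟨e, he, he2⟩ := (h1 w.2 ⟨h3, h4, h5⟩ _ h6).2 h7
    have : w.1 = e := by omega
    rw [this]
    exact he2
  · rw [if_neg h7, Nat.beq_eq, ← hN] at h6
    exact (h1 w.2 ⟨h3, h4, h5⟩ _ h6).1 h7

/-- everything together -/
theorem core' {n N : ℕ} {P : List ℕ} {C W : List (ℕ × List ℕ)} (hN : n.factorial = N)
    (hgo : go (partChk N (1 :: C.map (·.1))) (n + 1) n 1 [] 1 = true) (hwit : witChk n N W = true)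
    (hchk : chkB (1 :: C.map (·.1)) P (W.map (·.1)) C = true) (hP : ∀ p : ℕ, p.Prime → p ≤ n → p ∈ P)
    (h1 : HypOne n) (h2 : HypTwo n)
    {G : Type u} [Group G] [Finite G] (h : charDegrees G = D n) : ⁅commutator G, commutator G⁆ = commutator G :=
  core hchk (mem_of_chk hN hgo h2) (wit_mem hN hwit h1) hP h

end Cfsg.Agent.H245.AN

private theorem dce_d66e514774a5 : _root_.True := by
  try have : _root_.True := by simp only [_root_.Cfsg.Agent.H245.AN.npB.eq_def]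
  try have : _root_.True := by simp only [_root_.Cfsg.Agent.H245.AN.npB.eq_1]
  try have : _root_.True := by simp only [_root_.Cfsg.Agent.H245.AN.memB.eq_2]
  try have : _root_.True := by simp only [_root_.Cfsg.Agent.H245.AN.npB.eq_2]
  try have : _root_.True := by simp only [_root_.Cfsg.Agent.H245.AN.memB.eq_1]
  try have : _root_.True := by simp only [_root_.Cfsg.Agent.H245.AN.partChk.eq_1]
  try have : _root_.True := by simp only [_root_.Cfsg.Agent.H245.AN.memB.eq_def]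
  exact _root_.True.intro
end
end
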